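import Cfsg.Agent.HN.FusK0
import Cfsg.Agent.HN.FactF4
import Cfsg.Agent.HN.Classes
import Cfsg.Agent.HN.FactB
set_option linter.all false

-- part: StandardComponent/HS/FourK0
section
set_option autoImplicit false

/-!
S1752, the case `|R| = 4` without outer automorphisms: no group has an involution `t` whose centraliser is
`4 ∘ 2.HS` (the even part `K` of `H0 = 2.HS.2`, with a central element `r` of order 4 adjoined, `r ^ 2 = t`),
if `t` is not isolated and fused neither to `b = a t` nor to the elements `r k`, `k ^ 2 = t`.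
-/

namespace Cfsg.Agent.StandardComponent.HS.FourK0

open Cfsg.Agent.HN.Pres Cfsg.Agent.HN.HS100 Cfsg.Agent.HN.P1408 Cfsg.Agent.HN.H0Basic
open Cfsg.Agent.HN.Syl Cfsg.Agent.HN.Classes Cfsg.Agent.HN.FusGen Cfsg.Agent.HN.FusOne
open Cfsg.Agent.HN.FusK0
open Subgroup

/-- the element `x` of `K`, of order 4 -/
def x0 : K := ⟨gx, gx_mem⟩

theorem x0_sq : x0 * x0 = τ0 := Subtype.ext (pow_two gx).symm

/-- an outer element commuting with `x` -/
def wx : List ℕ := [2, 4, 2, 2, 0, 4, 3, 0, 2, 2, 0, 3, 0, 4, 3, 3, 4, 2, 4]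

theorem wx_comm : hw wx * gx = gx * hw wx := by
  rw [← hw_x, ← hw_append, ← hw_append]
  exact hw_eq (by decide +kernel)

theorem wx_notMem : hw wx ∉ K := not_mem_K_of_par rfl rfl

/-- conjugacy in `H0` of an element of `K` commuting with an outer element is conjugacy in `K`. -/
theorem isConj_of_outer {s : H0} (hs : s ∉ K) {g h : K} (hg : s * (g : H0) = g * s) (hc : IsConj (g : H0) h) :
    IsConj g h := by
  obtain ⟨c, hc⟩ := isConj_iff.1 hc
  by_cases hcK : c ∈ K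
  · exact isConj_iff.2 ⟨⟨c, hcK⟩, Subtype.ext hc⟩
  · have h1 : c * s ∈ K := by
      rw [mem_K_iff, map_mul]
      have h2 := (Int.units_eq_one_or (sgn c)).resolve_left hcK
      have h3 := (Int.units_eq_one_or (sgn s)).resolve_left hs
      rw [h2, h3]; rfl
    refine isConj_iff.2 ⟨⟨c * s, h1⟩, Subtype.ext ?_⟩
    change c * s * g * (c * s)⁻¹ = h
    rw [← hc]
    calc c * s * g * (c * s)⁻¹ = c * (s * g) * s⁻¹ * c⁻¹ := by group
      _ = c * (g * s) * s⁻¹ * c⁻¹ := by rw [hg]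
      _ = c * g * c⁻¹ := by group

/-- the elements of `K` with square `τ` form one class of `K` -/
theorem isConj_x0 {k : K} (hk : k * k = τ0) : IsConj x0 k := by
  refine isConj_of_outer wx_notMem (g := x0) wx_comm (isConj_of_sq_eq_τ ?_)
  rw [pow_two]
  exact congrArg Subtype.val hk

/-- the involutions of `K` -/
theorem cases_K {k : K} (hk : k * k = 1) : k = 1 ∨ k = τ0 ∨ IsConj a0 k ∨ IsConj b0 k := by
  have h2 : (k : H0) ^ 2 = 1 := by
    rw [pow_two]; exact congrArg Subtype.val hk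
  rcases involution_cases h2 with h1 | h1 | h1 | h1 | h1 | h1
  · exact Or.inl (Subtype.ext h1)
  · exact Or.inr (Or.inl (Subtype.ext h1))
  · exact Or.inr (Or.inr (Or.inl (isConj_of (g := a0) s8_a h1)))
  · exact Or.inr (Or.inr (Or.inr (isConj_of (g := b0) s8_aτ h1)))
  · exact absurd ((mem_K_of_isConj h1).2 k.2) gz_notMem_K
  · exact absurd ((mem_K_of_isConj h1).2 k.2) d_notMem_K

/-- **`C_G(t) = 4 ∘ 2.HS` is impossible** if `t` is not isolated, not fused to `b = a t` and not fused to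
`r x`. -/
theorem false_of_four {G : Type*} [Group G] {φ : K →* G} (hφ : Function.Injective φ) {r : G}
    (hr : r * r = φ τ0) (hrc : ∀ k, r * φ k = φ k * r)
    (hC : ∀ g, g * φ τ0 = φ τ0 * g → ∃ k, g = φ k ∨ g = r * φ k)
    (hex : ∃ g, g * φ τ0 * g⁻¹ ≠ φ τ0 ∧ g * φ τ0 * g⁻¹ * φ τ0 = φ τ0 * (g * φ τ0 * g⁻¹))
    (hb : ¬ IsConj (φ τ0) (φ b0)) (hx : ¬ IsConj (φ τ0) (r * φ x0)) : False := by
  -- the centraliser
  let H : Subgroup G := centralizer {φ τ0}
  have memH : ∀ g : G, g ∈ H ↔ g * φ τ0 = φ τ0 * g := fun g => mem_centralizer_singleton_iff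
  have hτ0c : ∀ k : K, k * τ0 = τ0 * k := fun k => Subtype.ext (τ_comm _)
  have hφH : ∀ k : K, φ k ∈ H := fun k => by rw [memH, ← map_mul, ← map_mul, hτ0c]
  have hτ0sq : (τ0 : K) * τ0 = 1 := Subtype.ext τ_mul_τ
  have hτ0ne : (τ0 : K) ≠ 1 := fun h => τ_ne_one (congrArg Subtype.val h)
  let f : K → H := fun k => ⟨φ k, hφH k⟩
  have hfm : ∀ k l : K, f (k * l) = f k * f l := fun k l => Subtype.ext (map_mul φ k l)
  have hfc : ∀ {k l : K}, IsConj k l → IsConj (f k) (f l) := by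
    intro k l h
    obtain ⟨c, rfl⟩ := isConj_iff.1 h
    refine isConj_iff.2 ⟨f c, ?_⟩
    rw [← hfm, mul_inv_eq_iff_eq_mul, ← hfm]
    congr 1
    group
  have E : Emb (H.subtype) (f τ0) :=
    { inj := H.subtype_injective
      cent := fun g hg => ⟨⟨g, (memH g).2 hg⟩, rfl⟩
      comm := fun h => Subtype.ext ((memH _).1 h.2)
      sq := by rw [← hfm, hτ0sq]; exact Subtype.ext (map_one φ)
      ne := fun h => hτ0ne (hφ (by rw [map_one]; exact congrArg Subtype.val h)) }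
  have hb' : ¬ InK H.subtype (f τ0) (f a0 * f τ0) := by
    intro h
    apply hb
    rw [← hfm, ← b0_eq] at h
    exact h
  have hK : ∀ h, InK H.subtype (f τ0) h → h = f τ0 ∨ IsConj (f a0) h := by
    intro h hh
    have h2 : (h : G) * h = 1 := congrArg Subtype.val (E.sq_of_inK hh)
    have h1 : h ≠ 1 := E.ne_one_of_inK hh
    obtain ⟨k, hk | hk⟩ := hC h ((memH _).1 h.2)
    · have hk2 : k * k = 1 := hφ (by rw [map_mul, map_one, ← hk, h2])
      have hhk : h = f k := Subtype.ext hk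
      rcases cases_K hk2 with h3 | h3 | h3 | h3
      · exact absurd (by rw [hhk, h3]; exact Subtype.ext (map_one φ)) h1
      · exact Or.inl (by rw [hhk, h3])
      · exact Or.inr (by rw [hhk]; exact hfc h3)
      · exact absurd (hh.conj (by rw [hhk, ← hfm, ← b0_eq]; exact (hfc h3).symm)) hb'
    · exfalso
      have hk2 : k * k = τ0 := by
        have h3 : τ0 * (k * k) = 1 := hφ (by
          rw [map_mul, map_mul, map_one, ← hr, ← h2, hk]
          calc r * r * (φ k * φ k) = r * (r * φ k) * φ k := by group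
            _ = r * (φ k * r) * φ k := by rw [hrc]
            _ = r * φ k * (r * φ k) := by group)
        calc k * k = τ0 * (τ0 * (k * k)) := by rw [← mul_assoc τ0 τ0, hτ0sq, one_mul]
          _ = τ0 := by rw [h3, mul_one]
      obtain ⟨c, hc⟩ := isConj_iff.1 (isConj_x0 hk2)
      apply hx
      refine IsConj.trans (c := r * φ x0) (show IsConj (φ τ0) (h : G) from hh) ?_
      refine isConj_iff.2 ⟨(φ c)⁻¹, ?_⟩
      rw [hk, ← hc, map_mul, map_mul, map_inv]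
      calc (φ c)⁻¹ * (r * (φ c * φ x0 * (φ c)⁻¹)) * (φ c)⁻¹⁻¹ = (φ c)⁻¹ * (r * φ c) * φ x0 := by group
        _ = (φ c)⁻¹ * (φ c * r) * φ x0 := by rw [hrc]
        _ = r * φ x0 := by group
  obtain ⟨g, hg, hgc⟩ := hex
  have ha : InK H.subtype (f τ0) (f a0) := by
    have h1 : InK H.subtype (f τ0) ⟨g * φ τ0 * g⁻¹, (memH _).2 hgc⟩ := isConj_iff.2 ⟨g, rfl⟩
    rcases hK _ h1 with h2 | h2
    · exact absurd (congrArg Subtype.val h2) hg
    · exact h1.conj h2.symm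
  exact E.f4 (a₁ := f a0) (a₂ := f ⟨a2, a2_mem_K⟩)
    (by rw [← hfm, ← hfm]; exact congrArg f (Subtype.ext a2_comm.symm)) (IsConj.refl _)
    (hfc (isConj_of (g := a0) s8_a isConj_a_a2)) (by
      rw [← hfm]; exact hfc (isConj_of (g := a0) s8_a isConj_a_mul)) ha hb' hK

end Cfsg.Agent.StandardComponent.HS.FourK0
end

-- part: StandardComponent/HS/Four
section
set_option autoImplicit false

/-!
S1752, the case `|R| = 4`: the interface.
-/

namespace Cfsg.Agent.StandardComponent.HS.Four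

open Cfsg.Agent.HN.Pres Cfsg.Agent.HN.HS100 Cfsg.Agent.HN.H0Basic
open Cfsg.Agent.HN.FusK0
open Cfsg.Agent.StandardComponent.HS.FourK0

/-- conjugation of `K` by an element of `H0` -/
def conjK (h : H0) : K →* K where
  toFun k := ⟨h * k * h⁻¹, (inferInstance : (K : Subgroup H0).Normal).conj_mem k k.2 h⟩
  map_one' := Subtype.ext (by simp)
  map_mul' k l := Subtype.ext (by
    change h * ((k : H0) * l) * h⁻¹ = h * k * h⁻¹ * (h * l * h⁻¹)
    group)

theorem coe_conjK (h : H0) (k : K) : (conjK h k : H0) = h * k * h⁻¹ := rfl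

end Cfsg.Agent.StandardComponent.HS.Four

namespace Cfsg.Agent.StandardComponent.HS

open Cfsg.Agent.HN.Pres Cfsg.Agent.HN.HS100 Cfsg.Agent.HN.FusK0
open Cfsg.Agent.StandardComponent.HS.FourK0 Cfsg.Agent.StandardComponent.HS.Four

/-- `C(φ K) = ⟨r⟩` is cyclic of order 4 and the centraliser of `t = φ τ` acts on `φ K` as a subgroup of
`H0`; `t` is not isolated, and it is fused neither to `b = a t` nor to `r x`. -/
structure Four {Γ : Type*} [Group Γ] (φ : K →* Γ) (r : Γ) : Prop where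
  inj : Function.Injective φ
  hr : r * r = φ τ0
  hrc : ∀ k, r * φ k = φ k * r
  hR : ∀ g, (∀ k, g * φ k = φ k * g) → g ∈ Subgroup.zpowers r
  hM : ∀ g, g * φ τ0 = φ τ0 * g → ∃ h : H0, ∀ k : K, g * φ k * g⁻¹ = φ (conjK h k)
  hex : ∃ g, g * φ τ0 * g⁻¹ ≠ φ τ0 ∧ g * φ τ0 * g⁻¹ * φ τ0 = φ τ0 * (g * φ τ0 * g⁻¹)
  hb : ¬ IsConj (φ τ0) (φ b0)
  hx : ¬ IsConj (φ τ0) (r * φ x0)

end Cfsg.Agent.StandardComponent.HS
end

-- part: StandardComponent/HS/FourOuter
section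
set_option autoImplicit false

/-!
S1752, the case `|R| = 4`: there is an outer pair; the centraliser of `t` is `ψ(H0)⟨r⟩`.
-/

namespace Cfsg.Agent.StandardComponent.HS.FourOuter

open Cfsg.Agent.HN.Pres Cfsg.Agent.HN.HS100 Cfsg.Agent.HN.P1408 Cfsg.Agent.HN.H0Basic
open Cfsg.Agent.HN.Syl Cfsg.Agent.HN.Classes Cfsg.Agent.HN.FusGen Cfsg.Agent.HN.FusOne
open Cfsg.Agent.HN.FusK0
open Cfsg.Agent.StandardComponent.HS.FourK0 Cfsg.Agent.StandardComponent.HS.Four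
open Cfsg.Agent.HN
open Subgroup

/-! ### general facts -/

theorem τ0_comm (k : K) : k * τ0 = τ0 * k := Subtype.ext (τ_comm _)
theorem τ0_sq : (τ0 : K) * τ0 = 1 := Subtype.ext τ_mul_τ
theorem τ0_ne : (τ0 : K) ≠ 1 := fun h => τ_ne_one (congrArg Subtype.val h)

/-- The elements of `H0` centralising `K`. -/
theorem eq_of_central {h : H0} (hh : ∀ k ∈ K, h * k = k * h) : h = 1 ∨ h = τ := by
  have ha2 : a ^ 2 = 1 := a_sq'
  have hx2 : gx ^ 2 = τ := rfl
  rcases FactF1.cent_cent (h := a) (g := h) (Or.inl ha2) a_ne_one a_ne_τ (fun k hk _ => hh k hk) with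
    h1 | h1 | h1 | h1
  · exact Or.inl h1
  · exact Or.inr h1
  all_goals
    exfalso
    rcases FactF1.cent_cent (h := gx) (g := h) (Or.inr hx2) FactF4.x_ne_one FactF4.x_ne_τ
      (fun k hk _ => hh k hk) with h2 | h2 | h2 | h2
  · exact a_ne_one (h1.symm.trans h2)
  · exact a_ne_τ (h1.symm.trans h2)
  · have h3 : a = gx := h1.symm.trans h2
    rw [h3, hx2] at ha2
    exact τ_ne_one ha2
  · have h3 : a = gx * τ := h1.symm.trans h2
    rw [h3, pow_two, mul_assoc, ← mul_assoc τ gx, ← τ_comm gx, mul_assoc gx τ τ, τ_mul_τ, mul_one, ← pow_two, hx2] at ha2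
    exact τ_ne_one ha2
  · exact aτ_ne_one (h1.symm.trans h2)
  · exact aτ_ne_τ (h1.symm.trans h2)
  · have h3 : a * τ = gx := h1.symm.trans h2
    have h4 : (a * τ) ^ 2 = 1 := by
      rw [pow_two, mul_assoc, ← mul_assoc τ a, ← τ_comm a, mul_assoc a τ τ, τ_mul_τ, mul_one, ← pow_two, ha2]
    rw [h3, hx2] at h4
    exact τ_ne_one h4
  · have h3 : a = gx := mul_right_cancel (h1.symm.trans h2)
    rw [h3, hx2] at ha2
    exact τ_ne_one ha2

/-- The elements of `H0` inducing the same automorphism of `K`. -/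
theorem eq_of_conjK {h h' : H0} (H : ∀ k : K, conjK h k = conjK h' k) : h' = h ∨ h' = h * τ := by
  have h1 : h⁻¹ * h' = 1 ∨ h⁻¹ * h' = τ := by
    refine eq_of_central fun k hk => ?_
    have h2 : h * k * h⁻¹ = h' * k * h'⁻¹ := congrArg Subtype.val (H ⟨k, hk⟩)
    calc h⁻¹ * h' * k = h⁻¹ * (h' * k * h'⁻¹) * h' := by group
      _ = h⁻¹ * (h * k * h⁻¹) * h' := by rw [h2]
      _ = k * (h⁻¹ * h') := by group
  rcases h1 with h1 | h1
  · exact Or.inl (inv_mul_eq_one.1 h1).symm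
  · exact Or.inr (inv_mul_eq_iff_eq_mul.1 h1)

theorem mem_K_of_eq {h h' : H0} (H : h' = h ∨ h' = h * τ) : h' ∈ K ↔ h ∈ K := by
  rcases H with rfl | rfl
  · rfl
  · constructor
    · intro h1
      have h2 := K.mul_mem h1 τ_mem_K
      rwa [mul_assoc, τ_mul_τ, mul_one] at h2
    · intro h1
      exact K.mul_mem h1 τ_mem_K

theorem sq_mem_K (h : H0) : h * h ∈ K := by
  rw [mem_K_iff, map_mul]
  rcases Int.units_eq_one_or (sgn h) with h1 | h1 <;> rw [h1] <;> rfl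

/-- `g` normalises `φ K` and acts on it as `h`. -/
def Acts {Γ : Type*} [Group Γ] (φ : K →* Γ) (g : Γ) (h : H0) : Prop :=
  ∀ k : K, g * φ k * g⁻¹ = φ (conjK h k)

section

variable {Γ : Type*} [Group Γ] {φ : K →* Γ}

theorem acts_of (l : K) : Acts φ (φ l) l := by
  intro k
  rw [← map_inv, ← map_mul, ← map_mul]
  rfl

theorem Acts.mul {g g' : Γ} {h h' : H0} (H : Acts φ g h) (H' : Acts φ g' h') : Acts φ (g * g') (h * h') := by
  intro k
  calc g * g' * φ k * (g * g')⁻¹ = g * (g' * φ k * g'⁻¹) * g⁻¹ := by group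
    _ = φ (conjK h (conjK h' k)) := by rw [H', H]
    _ = φ (conjK (h * h') k) := by
      congr 1
      apply Subtype.ext
      rw [coe_conjK, coe_conjK, coe_conjK]
      group

theorem Acts.inv {g : Γ} {h : H0} (H : Acts φ g h) : Acts φ g⁻¹ h⁻¹ := by
  intro k
  have h1 := H (conjK h⁻¹ k)
  have h2 : conjK h (conjK h⁻¹ k) = k := by
    apply Subtype.ext
    rw [coe_conjK, coe_conjK]
    group
  rw [h2] at h1
  rw [← h1]
  group

theorem Acts.unique (hφ : Function.Injective φ) {g : Γ} {h h' : H0} (H : Acts φ g h) (H' : Acts φ g h') :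
    h' = h ∨ h' = h * τ := by
  refine eq_of_conjK fun k => hφ ?_
  rw [← H, ← H']

/-- **no inner-only configuration** -/
theorem false_of_inner (hφ : Function.Injective φ)
    (hex : ∃ g, g * φ τ0 * g⁻¹ ≠ φ τ0 ∧ g * φ τ0 * g⁻¹ * φ τ0 = φ τ0 * (g * φ τ0 * g⁻¹))
    (hb : ¬ IsConj (φ τ0) (φ b0))
    (hinv : ∀ g, IsConj (φ τ0) g → g * φ τ0 = φ τ0 * g → g = φ τ0 ∨ ∃ c : K, g = φ c * φ a0 * (φ c)⁻¹) :
    False := by
  let H : Subgroup Γ := centralizer {φ τ0}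
  have memH : ∀ g : Γ, g ∈ H ↔ g * φ τ0 = φ τ0 * g := fun g => mem_centralizer_singleton_iff
  have hφH : ∀ k : K, φ k ∈ H := fun k => by rw [memH, ← map_mul, ← map_mul, τ0_comm]
  let f : K → H := fun k => ⟨φ k, hφH k⟩
  have hfm : ∀ k l : K, f (k * l) = f k * f l := fun k l => Subtype.ext (map_mul φ k l)
  have hfc : ∀ {k l : K}, IsConj k l → IsConj (f k) (f l) := by
    intro k l h
    obtain ⟨c, rfl⟩ := isConj_iff.1 h
    refine isConj_iff.2 ⟨f c, ?_⟩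
    rw [← hfm, mul_inv_eq_iff_eq_mul, ← hfm]
    congr 1
    group
  have E : Emb (H.subtype) (f τ0) :=
    { inj := H.subtype_injective
      cent := fun g hg => ⟨⟨g, (memH g).2 hg⟩, rfl⟩
      comm := fun h => Subtype.ext ((memH _).1 h.2)
      sq := by rw [← hfm, τ0_sq]; exact Subtype.ext (map_one φ)
      ne := fun h => τ0_ne (hφ (by rw [map_one]; exact congrArg Subtype.val h)) }
  have hb' : ¬ InK H.subtype (f τ0) (f a0 * f τ0) := by
    intro h
    apply hb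
    rw [← hfm, ← b0_eq] at h
    exact h
  have hK : ∀ h, InK H.subtype (f τ0) h → h = f τ0 ∨ IsConj (f a0) h := by
    intro h hh
    rcases hinv h hh ((memH _).1 h.2) with h1 | ⟨c, hc⟩
    · exact Or.inl (Subtype.ext h1)
    · refine Or.inr (isConj_iff.2 ⟨f c, Subtype.ext ?_⟩)
      rw [hc]
      rfl
  obtain ⟨g, hg, hgc⟩ := hex
  have ha : InK H.subtype (f τ0) (f a0) := by
    have h1 : InK H.subtype (f τ0) ⟨g * φ τ0 * g⁻¹, (memH _).2 hgc⟩ := isConj_iff.2 ⟨g, rfl⟩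
    rcases hK _ h1 with h2 | h2
    · exact absurd (congrArg Subtype.val h2) hg
    · exact h1.conj h2.symm
  exact E.f4 (a₁ := f a0) (a₂ := f ⟨a2, a2_mem_K⟩)
    (by rw [← hfm, ← hfm]; exact congrArg f (Subtype.ext a2_comm.symm)) (IsConj.refl _)
    (hfc (isConj_of (g := a0) s8_a isConj_a_a2)) (by
      rw [← hfm]; exact hfc (isConj_of (g := a0) s8_a isConj_a_mul)) ha hb' hK

end

/-! ### the outer pair -/

section

variable {Γ : Type*} [Group Γ] {φ : K →* Γ} {r : Γ} (F : Four φ r)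
include F

omit F in
theorem t_sq : φ τ0 * φ τ0 = 1 := by rw [← map_mul, τ0_sq, map_one]
omit F in
theorem t_comm (k : K) : φ k * φ τ0 = φ τ0 * φ k := by rw [← map_mul, ← map_mul, τ0_comm]
theorem t_ne : φ τ0 ≠ 1 := fun h => τ0_ne (F.inj (h.trans (map_one φ).symm))

theorem four_cases {z : Γ} (hz : z ∈ zpowers r) : z = 1 ∨ z = φ τ0 ∨ z = r ∨ z = r * φ τ0 := by
  obtain ⟨n, rfl⟩ := mem_zpowers_iff.1 hz
  have h4 : r ^ (4 : ℤ) = 1 := by
    have : r ^ (4 : ℤ) = (r * r) * (r * r) := by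
      rw [show (4 : ℤ) = 1 + 1 + 1 + 1 by norm_num, zpow_add, zpow_add, zpow_add, zpow_one, mul_assoc (r * r)]
    rw [this, F.hr, t_sq]
  have h1 : r ^ n = r ^ (n % 4) := by
    conv_lhs => rw [← Int.mul_ediv_add_emod n 4]
    rw [zpow_add, zpow_mul, h4, one_zpow, one_mul]
  have h2 : n % 4 = 0 ∨ n % 4 = 1 ∨ n % 4 = 2 ∨ n % 4 = 3 := by omega
  rw [h1]
  rcases h2 with h2 | h2 | h2 | h2
  · left; rw [h2, zpow_zero]
  · right; right; left; rw [h2, zpow_one]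
  · right; left; rw [h2, ← F.hr, show (2 : ℤ) = 1 + 1 by norm_num, zpow_add, zpow_one]
  · right; right; right
    rw [h2, ← F.hr, show (3 : ℤ) = 1 + (1 + 1) by norm_num, zpow_add, zpow_add, zpow_one]

/-- An element acting as an inner automorphism. -/
theorem inner_form {u : Γ} {h : H0} (hu : Acts φ u h) (hh : h ∈ K) : ∃ l : K, u = φ l ∨ u = r * φ l := by
  have h1 : (φ ⟨h, hh⟩)⁻¹ * u ∈ zpowers r := by
    refine F.hR _ fun k => ?_
    have h2 := (acts_of (φ := φ) ⟨h, hh⟩) k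
    have h3 := hu k
    have h4 : φ ⟨h, hh⟩ * φ k * (φ ⟨h, hh⟩)⁻¹ = u * φ k * u⁻¹ := h2.trans h3.symm
    calc (φ ⟨h, hh⟩)⁻¹ * u * φ k = (φ ⟨h, hh⟩)⁻¹ * (u * φ k * u⁻¹) * u := by group
      _ = (φ ⟨h, hh⟩)⁻¹ * (φ ⟨h, hh⟩ * φ k * (φ ⟨h, hh⟩)⁻¹) * u := by rw [h4]
      _ = φ k * ((φ ⟨h, hh⟩)⁻¹ * u) := by group
  rcases four_cases F h1 with h2 | h2 | h2 | h2
  · exact ⟨⟨h, hh⟩, Or.inl (inv_mul_eq_one.1 h2).symm⟩
  · exact ⟨⟨h, hh⟩ * τ0, Or.inl (by rw [inv_mul_eq_iff_eq_mul.1 h2, map_mul])⟩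
  · exact ⟨⟨h, hh⟩, Or.inr (by rw [inv_mul_eq_iff_eq_mul.1 h2, F.hrc])⟩
  · exact ⟨⟨h, hh⟩ * τ0, Or.inr (by rw [inv_mul_eq_iff_eq_mul.1 h2, ← mul_assoc, ← F.hrc, map_mul, mul_assoc])⟩

/-- A conjugate of `t` acting as an inner automorphism. -/
theorem inner_cases {u : Γ} (hut : IsConj (φ τ0) u) {h : H0} (hu : Acts φ u h) (hh : h ∈ K) :
    u = φ τ0 ∨ ∃ c : K, u = φ c * φ a0 * (φ c)⁻¹ := by
  have hu2 : u * u = 1 := by
    obtain ⟨c, rfl⟩ := isConj_iff.1 hut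
    calc c * φ τ0 * c⁻¹ * (c * φ τ0 * c⁻¹) = c * (φ τ0 * φ τ0) * c⁻¹ := by group
      _ = 1 := by rw [t_sq]; group
  have hu1 : u ≠ 1 := by
    rintro rfl
    exact t_ne F (isConj_one_left.1 hut)
  obtain ⟨k, hk | hk⟩ := inner_form F hu hh
  · have hk2 : k * k = 1 := F.inj (by rw [map_mul, map_one, ← hk, hu2])
    rcases cases_K hk2 with h3 | h3 | h3 | h3
    · exact absurd (by rw [hk, h3, map_one]) hu1
    · exact Or.inl (by rw [hk, h3])
    · obtain ⟨c, hc⟩ := isConj_iff.1 h3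
      exact Or.inr ⟨c, by rw [hk, ← hc, map_mul, map_mul, map_inv]⟩
    · exact absurd (hut.trans (by rw [hk]; exact (φ.map_isConj h3).symm)) F.hb
  · exfalso
    have hk2 : k * k = τ0 := by
      have h3 : τ0 * (k * k) = 1 := F.inj (by
        rw [map_mul, map_mul, map_one, ← F.hr, ← hu2, hk]
        calc r * r * (φ k * φ k) = r * (r * φ k) * φ k := by group
          _ = r * (φ k * r) * φ k := by rw [F.hrc]
          _ = r * φ k * (r * φ k) := by group)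
      calc k * k = τ0 * (τ0 * (k * k)) := by rw [← mul_assoc τ0 τ0, τ0_sq, one_mul]
        _ = τ0 := by rw [h3, mul_one]
    obtain ⟨c, hc⟩ := isConj_iff.1 (isConj_x0 hk2)
    apply F.hx
    refine hut.trans (isConj_iff.2 ⟨(φ c)⁻¹, ?_⟩)
    rw [hk, ← hc, map_mul, map_mul, map_inv]
    calc (φ c)⁻¹ * (r * (φ c * φ x0 * (φ c)⁻¹)) * (φ c)⁻¹⁻¹ = (φ c)⁻¹ * (r * φ c) * φ x0 := by group
      _ = (φ c)⁻¹ * (φ c * r) * φ x0 := by rw [F.hrc]
      _ = r * φ x0 := by group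

/-- There is an outer pair. -/
theorem exists_outer : ∃ (g : Γ) (h : H0), g * φ τ0 * g⁻¹ * φ τ0 = φ τ0 * (g * φ τ0 * g⁻¹) ∧
    Acts φ (g * φ τ0 * g⁻¹) h ∧ h ∉ K := by
  by_contra hno
  push Not at hno
  refine false_of_inner F.inj F.hex F.hb fun u hu huc => ?_
  obtain ⟨h, hh⟩ := F.hM u huc
  obtain ⟨g, rfl⟩ := isConj_iff.1 hu
  exact inner_cases F hu hh (hno g h huc hh)

omit F in
variable (φ) in
/-- the homomorphism into the centraliser -/
def toC : K →* (centralizer {φ τ0} : Subgroup Γ) where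
  toFun k := ⟨φ k, mem_centralizer_singleton_iff.2 (t_comm k)⟩
  map_one' := Subtype.ext (map_one φ)
  map_mul' k l := Subtype.ext (map_mul φ k l)

theorem range_normal : (toC φ).range.Normal := by
  refine ⟨?_⟩
  rintro _ ⟨k, rfl⟩ g
  obtain ⟨h, hh⟩ := F.hM g (mem_centralizer_singleton_iff.1 g.2)
  exact ⟨conjK h k, Subtype.ext (hh k).symm⟩

/-- the index of the centraliser of `φ a0` in `C(t)` -/
theorem index_a [Finite Γ] : ((centralizer {φ a0}).subgroupOf (centralizer {φ τ0})).index = 5775 := by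
  set C : Subgroup Γ := centralizer {φ τ0} with hC
  set A : Subgroup C := (centralizer {φ a0}).subgroupOf C with hA
  have memA : ∀ g : C, g ∈ A ↔ (g : Γ) * φ a0 = φ a0 * g := fun g => by
    rw [hA, mem_subgroupOf, mem_centralizer_singleton_iff]
  set L : Subgroup C := (toC φ).range with hL
  have hLn : L.Normal := range_normal F
  have hsup : A ⊔ L = ⊤ := by
    rw [eq_top_iff]
    rintro g -
    obtain ⟨h, hh⟩ := F.hM g (mem_centralizer_singleton_iff.1 g.2)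
    have h1 : IsConj a0 (conjK h a0) := by
      refine isConj_of (g := a0) s8_a ?_
      exact isConj_iff.2 ⟨h, rfl⟩
    obtain ⟨l, hl⟩ := isConj_iff.1 h1
    have h2 : (g : Γ) * φ a0 * (g : Γ)⁻¹ = φ l * φ a0 * (φ l)⁻¹ := by
      rw [hh, ← hl, map_mul, map_mul, map_inv]
    have h3 : (toC φ l)⁻¹ * g ∈ A := by
      rw [memA]
      change (φ l)⁻¹ * (g : Γ) * φ a0 = φ a0 * ((φ l)⁻¹ * (g : Γ))
      calc (φ l)⁻¹ * (g : Γ) * φ a0 = (φ l)⁻¹ * ((g : Γ) * φ a0 * (g : Γ)⁻¹) * g := by group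
        _ = (φ l)⁻¹ * (φ l * φ a0 * (φ l)⁻¹) * g := by rw [h2]
        _ = φ a0 * ((φ l)⁻¹ * (g : Γ)) := by group
    have h4 : g = toC φ l * ((toC φ l)⁻¹ * g) := by group
    rw [h4]
    exact mul_mem (mem_sup_right ⟨l, rfl⟩) (mem_sup_left h3)
  have e1 : A.relIndex L * L.index = (A ⊓ L).index := by
    have := relIndex_inf_mul_relIndex A L ⊤
    rwa [inf_top_eq, relIndex_top_right, relIndex_top_right] at this
  have e2 : L.relIndex A * A.index = (L ⊓ A).index := by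
    have := relIndex_inf_mul_relIndex L A ⊤
    rwa [inf_top_eq, relIndex_top_right, relIndex_top_right] at this
  have e3 : L.relIndex A = L.index := by
    have h1 : L.relIndex (A ⊔ L) = L.relIndex A := relIndex_sup_right ..
    rw [← h1, hsup, relIndex_top_right]
  have e4 : A.index = A.relIndex L := by
    rw [e3] at e2
    rw [inf_comm, ← e2, mul_comm] at e1
    exact (Nat.eq_of_mul_eq_mul_left (Nat.pos_of_ne_zero index_ne_zero_of_finite) e1).symm
  have e5 : (A.comap (toC φ)).index = A.relIndex L := index_comap A (toC φ)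
  have e6 : A.comap (toC φ) = (centralizer {a} : Subgroup H0).subgroupOf K := by
    ext k
    rw [mem_comap, memA, mem_subgroupOf, mem_centralizer_singleton_iff]
    constructor
    · intro h
      have h1 : φ (k * a0) = φ (a0 * k) := by rw [map_mul, map_mul]; exact h
      exact congrArg Subtype.val (F.inj h1)
    · intro h
      have h1 : k * a0 = a0 * k := Subtype.ext h
      change φ k * φ a0 = φ a0 * φ k
      rw [← map_mul, ← map_mul, h1]
  rw [e4, ← e5, e6]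
  exact FactF4.relIndex_centralizer_a

omit F in
theorem isPGroup_S0 : IsPGroup 2 (S0.map (toC φ)) := by
  have : Fact (Nat.Prime 2) := ⟨Nat.prime_two⟩
  exact (IsPGroup.iff_card.2 ⟨10, card_S0⟩ : IsPGroup 2 S0).map _

/-- An involution `u` of `C(t)` acting as an outer element has even index centraliser in `C(t)`. -/
theorem even_of_outer [Finite Γ] {u : Γ} {h : H0} (hu : Acts φ u h) (hh : h ∉ K) :
    2 ∣ ((centralizer {u}).subgroupOf (centralizer {φ τ0})).index := by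
  by_contra hodd
  obtain ⟨c, hc⟩ := FactF4.exists_conj_le isPGroup_S0 hodd
  obtain ⟨hc', hcc⟩ := F.hM c (mem_centralizer_singleton_iff.1 c.2)
  have hu' : Acts φ ((c : Γ) * u * (c : Γ)⁻¹) (hc' * h * hc'⁻¹) := (Acts.mul (Acts.mul hcc hu) (Acts.inv hcc))
  have key : hc' * h * hc'⁻¹ ∈ K := by
    have h4 := FactF4.F4 (h := hc' * h * hc'⁻¹) (fun s hs hsK => ?_)
    · rcases h4 with h4 | h4 | h4 | h4
      · rw [h4]; exact K.one_mem
      · rw [h4]; exact τ_mem_K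
      · rw [h4]; exact a0.2
      · rw [h4]; exact aτ_mem_K
    · have h1 := hc (toC φ ⟨s, hsK⟩) ⟨⟨s, hsK⟩, mem_S0.2 hs, rfl⟩
      rw [mem_subgroupOf, mem_centralizer_singleton_iff] at h1
      have h2 : (c : Γ)⁻¹ * φ ⟨s, hsK⟩ * c * u = u * ((c : Γ)⁻¹ * φ ⟨s, hsK⟩ * c) := h1
      have h3 : φ ⟨s, hsK⟩ * (c * u * (c : Γ)⁻¹) * (φ ⟨s, hsK⟩)⁻¹ = c * u * (c : Γ)⁻¹ := by
        calc φ ⟨s, hsK⟩ * (c * u * (c : Γ)⁻¹) * (φ ⟨s, hsK⟩)⁻¹
            = c * ((c : Γ)⁻¹ * φ ⟨s, hsK⟩ * c * u) * (c : Γ)⁻¹ * (φ ⟨s, hsK⟩)⁻¹ := by group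
          _ = c * (u * ((c : Γ)⁻¹ * φ ⟨s, hsK⟩ * c)) * (c : Γ)⁻¹ * (φ ⟨s, hsK⟩)⁻¹ := by rw [h2]
          _ = c * u * (c : Γ)⁻¹ := by group
      have h5 : Acts φ ((c : Γ) * u * (c : Γ)⁻¹) (s * (hc' * h * hc'⁻¹) * s⁻¹) := by
        have h6 := Acts.mul (Acts.mul (acts_of (φ := φ) ⟨s, hsK⟩) hu') (Acts.inv (acts_of (φ := φ) ⟨s, hsK⟩))
        rwa [h3] at h6
      exact Acts.unique F.inj hu' h5
  apply hh
  have h7 := (inferInstance : (K : Subgroup H0).Normal).conj_mem _ key hc'⁻¹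
  have h8 : hc'⁻¹ * (hc' * h * hc'⁻¹) * hc'⁻¹⁻¹ = h := by group
  rwa [h8] at h7

/-- An outer pair is mutually outer. -/
theorem outer_symm [Finite Γ] {g : Γ} {h h' : H0}
    (hg : Acts φ (g * φ τ0 * g⁻¹) h) (hh : h ∉ K) (hg' : Acts φ (g⁻¹ * φ τ0 * g) h') : h' ∉ K := by
  intro hh'
  have hut : IsConj (φ τ0) (g⁻¹ * φ τ0 * g) := isConj_iff.2 ⟨g⁻¹, by rw [inv_inv]⟩
  rcases inner_cases F hut hg' hh' with h1 | ⟨c, hc⟩
  · have h2 : g * φ τ0 * g⁻¹ = φ τ0 := by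
      have h3 : g * (g⁻¹ * φ τ0 * g) * g⁻¹ = φ τ0 := by group
      rwa [h1] at h3
    rw [h2] at hg
    exact hh ((mem_K_of_eq (Acts.unique F.inj (acts_of τ0) hg)).2 τ_mem_K)
  · set g' : Γ := g * φ c with hg'
    have e1 : g' * φ τ0 * g'⁻¹ = g * φ τ0 * g⁻¹ := by
      rw [hg']
      calc g * φ c * φ τ0 * (g * φ c)⁻¹ = g * (φ c * φ τ0) * (φ c)⁻¹ * g⁻¹ := by group
        _ = g * (φ τ0 * φ c) * (φ c)⁻¹ * g⁻¹ := by rw [t_comm]
        _ = g * φ τ0 * g⁻¹ := by group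
    have e2 : g' * φ a0 * g'⁻¹ = φ τ0 := by
      rw [hg']
      calc g * φ c * φ a0 * (g * φ c)⁻¹ = g * (φ c * φ a0 * (φ c)⁻¹) * g⁻¹ := by group
        _ = g * (g⁻¹ * φ τ0 * g) * g⁻¹ := by rw [hc]
        _ = φ τ0 := by group
    set C : Subgroup Γ := centralizer {φ τ0} with hC
    have hcard : Nat.card ((centralizer {φ a0}).subgroupOf C) =
        Nat.card ((centralizer {g * φ τ0 * g⁻¹}).subgroupOf C) := by
      have f1 : ∀ x : Γ, x * φ τ0 = φ τ0 * x → x * φ a0 = φ a0 * x →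
          g' * x * g'⁻¹ * φ τ0 = φ τ0 * (g' * x * g'⁻¹) ∧
          g' * x * g'⁻¹ * (g * φ τ0 * g⁻¹) = g * φ τ0 * g⁻¹ * (g' * x * g'⁻¹) := by
        intro x hx1 hx2
        constructor
        · calc g' * x * g'⁻¹ * φ τ0 = g' * x * g'⁻¹ * (g' * φ a0 * g'⁻¹) := by rw [e2]
            _ = g' * (x * φ a0) * g'⁻¹ := by group
            _ = g' * (φ a0 * x) * g'⁻¹ := by rw [hx2]
            _ = g' * φ a0 * g'⁻¹ * (g' * x * g'⁻¹) := by group
            _ = φ τ0 * (g' * x * g'⁻¹) := by rw [e2]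
        · rw [← e1]
          calc g' * x * g'⁻¹ * (g' * φ τ0 * g'⁻¹) = g' * (x * φ τ0) * g'⁻¹ := by group
            _ = g' * (φ τ0 * x) * g'⁻¹ := by rw [hx1]
            _ = g' * φ τ0 * g'⁻¹ * (g' * x * g'⁻¹) := by group
      have f2 : ∀ y : Γ, y * φ τ0 = φ τ0 * y → y * (g * φ τ0 * g⁻¹) = g * φ τ0 * g⁻¹ * y →
          g'⁻¹ * y * g' * φ τ0 = φ τ0 * (g'⁻¹ * y * g') ∧
          g'⁻¹ * y * g' * φ a0 = φ a0 * (g'⁻¹ * y * g') := by
        intro y hy1 hy2
        rw [← e1] at hy2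
        constructor
        · calc g'⁻¹ * y * g' * φ τ0 = g'⁻¹ * (y * (g' * φ τ0 * g'⁻¹)) * g' := by group
            _ = g'⁻¹ * (g' * φ τ0 * g'⁻¹ * y) * g' := by rw [hy2]
            _ = φ τ0 * (g'⁻¹ * y * g') := by group
        · rw [← e2] at hy1
          calc g'⁻¹ * y * g' * φ a0 = g'⁻¹ * (y * (g' * φ a0 * g'⁻¹)) * g' := by group
            _ = g'⁻¹ * (g' * φ a0 * g'⁻¹ * y) * g' := by rw [hy1]
            _ = φ a0 * (g'⁻¹ * y * g') := by group
      have m1 : ∀ x : (centralizer {φ a0}).subgroupOf C, (x : Γ) * φ τ0 = φ τ0 * x ∧ (x : Γ) * φ a0 = φ a0 * x :=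
        fun x => ⟨mem_centralizer_singleton_iff.1 x.1.2,
          mem_centralizer_singleton_iff.1 (mem_subgroupOf.1 x.2)⟩
      have m2 : ∀ y : (centralizer {g * φ τ0 * g⁻¹}).subgroupOf C, (y : Γ) * φ τ0 = φ τ0 * y ∧
          (y : Γ) * (g * φ τ0 * g⁻¹) = g * φ τ0 * g⁻¹ * y :=
        fun y => ⟨mem_centralizer_singleton_iff.1 y.1.2,
          mem_centralizer_singleton_iff.1 (mem_subgroupOf.1 y.2)⟩
      refine Nat.card_congr
        { toFun := fun x => ⟨⟨g' * x * g'⁻¹, mem_centralizer_singleton_iff.2 (f1 _ (m1 x).1 (m1 x).2).1⟩,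
            mem_subgroupOf.2 (mem_centralizer_singleton_iff.2 (f1 _ (m1 x).1 (m1 x).2).2)⟩
          invFun := fun y => ⟨⟨g'⁻¹ * y * g', mem_centralizer_singleton_iff.2 (f2 _ (m2 y).1 (m2 y).2).1⟩,
            mem_subgroupOf.2 (mem_centralizer_singleton_iff.2 (f2 _ (m2 y).1 (m2 y).2).2)⟩
          left_inv := fun x => ?_
          right_inv := fun y => ?_ }
      · apply Subtype.ext
        apply Subtype.ext
        change g'⁻¹ * (g' * (x : Γ) * g'⁻¹) * g' = x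
        group
      · apply Subtype.ext
        apply Subtype.ext
        change g' * (g'⁻¹ * (y : Γ) * g') * g'⁻¹ = y
        group
    have i1 := ((centralizer {φ a0}).subgroupOf C).card_mul_index
    have i2 := ((centralizer {g * φ τ0 * g⁻¹}).subgroupOf C).card_mul_index
    rw [index_a F] at i1
    rw [← hcard, ← i1] at i2
    have i3 := Nat.eq_of_mul_eq_mul_left Nat.card_pos i2
    have i4 := even_of_outer F hg hh
    rw [← hC, i3] at i4
    omega

/-- In an outer pair the involution inverts `r`. -/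
theorem inverts_r [Finite Γ] {g : Γ} (hgc : g * φ τ0 * g⁻¹ * φ τ0 = φ τ0 * (g * φ τ0 * g⁻¹)) {h : H0}
    (hg : Acts φ (g * φ τ0 * g⁻¹) h) (hh : h ∉ K) :
    r * (g * φ τ0 * g⁻¹) * r⁻¹ = g * φ τ0 * g⁻¹ * φ τ0 := by
  set u : Γ := g * φ τ0 * g⁻¹ with hu
  have huu : u * u = 1 := by
    rw [hu]
    calc g * φ τ0 * g⁻¹ * (g * φ τ0 * g⁻¹) = g * (φ τ0 * φ τ0) * g⁻¹ := by group
      _ = 1 := by rw [t_sq]; group
  have h1 : u * r * u⁻¹ ∈ zpowers r := by
    refine F.hR _ fun k => ?_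
    have h2 := (Acts.inv hg) k
    rw [inv_inv] at h2
    have h3 : φ k * u = u * φ (conjK h⁻¹ k) := by
      rw [← h2]; group
    have h4 := hg (conjK h⁻¹ k)
    have h5 : conjK h (conjK h⁻¹ k) = k := by
      apply Subtype.ext
      rw [coe_conjK, coe_conjK]
      group
    rw [h5] at h4
    calc u * r * u⁻¹ * φ k = u * r * (u⁻¹ * φ k * u) * u⁻¹ := by group
      _ = u * (r * φ (conjK h⁻¹ k)) * u⁻¹ := by rw [h2]; group
      _ = u * (φ (conjK h⁻¹ k) * r) * u⁻¹ := by rw [F.hrc]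
      _ = (u * φ (conjK h⁻¹ k) * u⁻¹) * (u * r * u⁻¹) := by group
      _ = φ k * (u * r * u⁻¹) := by rw [h4]
  have hrt : r * φ τ0 = φ τ0 * r := F.hrc τ0
  have h2 : u * r * u⁻¹ = r ∨ u * r * u⁻¹ = r * φ τ0 := by
    rcases four_cases F h1 with h3 | h3 | h3 | h3
    · exfalso
      have h4 : r = 1 := by
        calc r = u⁻¹ * (u * r * u⁻¹) * u := by group
          _ = 1 := by rw [h3]; group
      apply t_ne F
      rw [← F.hr, h4, one_mul]
    · exfalso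
      have h4 : r = φ τ0 := by
        calc r = u⁻¹ * (u * r * u⁻¹) * u := by group
          _ = u⁻¹ * (φ τ0 * u) := by rw [h3]; group
          _ = φ τ0 := by rw [← hgc]; group
      apply t_ne F
      rw [← F.hr, h4, t_sq]
    · exact Or.inl h3
    · exact Or.inr h3
  rcases h2 with h2 | h2
  · exfalso
    have hru : r * u = u * r := by
      calc r * u = (u * r * u⁻¹) * u := by rw [h2]
        _ = u * r := by group
    -- `r` acts on the conjugate of `φ K`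
    obtain ⟨h1', hh1⟩ := F.hM (g⁻¹ * r * g) (by
      calc g⁻¹ * r * g * φ τ0 = g⁻¹ * (r * (g * φ τ0 * g⁻¹)) * g := by group
        _ = g⁻¹ * (g * φ τ0 * g⁻¹ * r) * g := by rw [← hu, hru]
        _ = φ τ0 * (g⁻¹ * r * g) := by group)
    have h3 : Acts φ (g⁻¹ * φ τ0 * g) (h1' * h1') := by
      have h4 := Acts.mul (φ := φ) hh1 hh1
      have h5 : g⁻¹ * r * g * (g⁻¹ * r * g) = g⁻¹ * φ τ0 * g := by
        rw [← F.hr]; group
      rwa [h5] at h4
    exact outer_symm F hg hh h3 (sq_mem_K h1')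
  · clear_value u
    have h3 : u⁻¹ = u := inv_eq_of_mul_eq_one_left huu
    have h4 : u * r * u = r * φ τ0 := by rw [← h2, h3]
    calc r * u * r⁻¹ = 1 * r * u * r⁻¹ := by rw [one_mul]
      _ = u * (u * r * u) * r⁻¹ := by rw [← huu]; group
      _ = u * (φ τ0 * r) * r⁻¹ := by rw [h4, hrt]
      _ = u * φ τ0 := by group

end

/-! ### the homomorphism on `H0` -/

open Classical in
/-- extension of a homomorphism from `K` to `H0 = K ⟨h⟩`. -/
theorem exists_ext {Γ : Type*} [Group Γ] {φ : K →* Γ} {u : Γ} {h : H0} (hh : h ∉ K) (hh2 : h * h = 1)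
    (hu : Acts φ u h) (hu2 : u * u = 1) :
    ∃ ψ : H0 →* Γ, (∀ k : K, ψ k = φ k) ∧ ψ h = u ∧ ∀ m, m ∉ K → ∃ k : K, ψ m = φ k * u ∧ m = k * h := by
  have hm : ∀ m : H0, m ∉ K → m * h ∈ K := by
    intro m hmK
    rw [mem_K_iff, map_mul]
    have h2 := (Int.units_eq_one_or (sgn m)).resolve_left hmK
    have h3 := (Int.units_eq_one_or (sgn h)).resolve_left hh
    rw [h2, h3]; rfl
  have hmm : ∀ m n : H0, m ∉ K → n ∉ K → m * n ∈ K := by
    intro m n hmK hnK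
    rw [mem_K_iff, map_mul]
    have h2 := (Int.units_eq_one_or (sgn m)).resolve_left hmK
    have h3 := (Int.units_eq_one_or (sgn n)).resolve_left hnK
    rw [h2, h3]; rfl
  have hmn : ∀ m n : H0, m ∈ K → n ∉ K → m * n ∉ K := by
    intro m n hmK hnK h1
    exact hnK (by
      have := K.mul_mem (K.inv_mem hmK) h1
      rwa [inv_mul_cancel_left] at this)
  have hnm : ∀ m n : H0, m ∉ K → n ∈ K → m * n ∉ K := by
    intro m n hmK hnK h1
    exact hmK (by
      have := K.mul_mem h1 (K.inv_mem hnK)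
      rwa [mul_inv_cancel_right] at this)
  have hswap : ∀ k : K, u * φ k = φ (conjK h k) * u := by
    intro k
    rw [← hu k]; group
  have hcK : ∀ m ∈ K, h * m * h ∈ K := by
    intro m hmK
    have h1 := (inferInstance : (K : Subgroup H0).Normal).conj_mem m hmK h
    rwa [inv_eq_of_mul_eq_one_left hh2] at h1
  have hinv : h⁻¹ = h := inv_eq_of_mul_eq_one_left hh2
  let f : H0 → Γ := fun m => if hmK : m ∈ K then φ ⟨m, hmK⟩ else φ ⟨m * h, hm m hmK⟩ * u
  have f1 : ∀ m (hmK : m ∈ K), f m = φ ⟨m, hmK⟩ := fun m hmK => dif_pos hmK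
  have f2 : ∀ m (hmK : m ∉ K), f m = φ ⟨m * h, hm m hmK⟩ * u := fun m hmK => dif_neg hmK
  have fmul : ∀ m n, f (m * n) = f m * f n := by
    intro m n
    by_cases hmK : m ∈ K
    · by_cases hnK : n ∈ K
      · rw [f1 _ (K.mul_mem hmK hnK), f1 _ hmK, f1 _ hnK, ← map_mul]
        rfl
      · rw [f2 _ (hmn m n hmK hnK), f1 _ hmK, f2 _ hnK, ← mul_assoc, ← map_mul]
        congr 2
        exact Subtype.ext (mul_assoc _ _ _)
    · by_cases hnK : n ∈ K
      · rw [f2 _ (hnm m n hmK hnK), f2 _ hmK, f1 _ hnK]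
        calc φ ⟨m * n * h, _⟩ * u = φ (⟨m * h, hm m hmK⟩ * conjK h ⟨n, hnK⟩) * u := by
              congr 2
              apply Subtype.ext
              change m * n * h = m * h * (h * n * h⁻¹)
              rw [hinv]
              calc m * n * h = m * 1 * n * h := by group
                _ = m * (h * h) * n * h := by rw [hh2]
                _ = m * h * (h * n * h) := by group
          _ = φ ⟨m * h, hm m hmK⟩ * (φ (conjK h ⟨n, hnK⟩) * u) := by rw [map_mul, mul_assoc]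
          _ = φ ⟨m * h, hm m hmK⟩ * u * φ ⟨n, hnK⟩ := by rw [← hswap, mul_assoc]
      · rw [f1 _ (hmm m n hmK hnK), f2 _ hmK, f2 _ hnK]
        calc φ ⟨m * n, _⟩ = φ (⟨m * h, hm m hmK⟩ * conjK h ⟨n * h, hm n hnK⟩) * (u * u) := by
              rw [hu2, mul_one]
              congr 1
              apply Subtype.ext
              change m * n = m * h * (h * (n * h) * h⁻¹)
              rw [hinv]
              calc m * n = m * 1 * n * 1 := by group
                _ = m * (h * h) * n * (h * h) := by rw [hh2]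
                _ = m * h * (h * (n * h) * h) := by group
          _ = φ ⟨m * h, hm m hmK⟩ * (φ (conjK h ⟨n * h, hm n hnK⟩) * u) * u := by rw [map_mul]; group
          _ = φ ⟨m * h, hm m hmK⟩ * u * (φ ⟨n * h, hm n hnK⟩ * u) := by rw [← hswap]; group
  refine ⟨MonoidHom.mk' f fmul, fun k => ?_, ?_, fun m hmK => ⟨⟨m * h, hm m hmK⟩, f2 m hmK, ?_⟩⟩
  · exact f1 k k.2
  · change f h = u
    rw [f2 h hh]
    have h1 : (⟨h * h, hm h hh⟩ : K) = 1 := Subtype.ext hh2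
    rw [h1, map_one, one_mul]
  · change m = m * h * h
    rw [mul_assoc, hh2, mul_one]

/-- **The centraliser of `t` in the case `|R| = 4`.** -/
theorem exists_psi {Γ : Type*} [Group Γ] [Finite Γ] {φ : K →* Γ} {r : Γ} (F : Four φ r) :
    ∃ ψ : H0 →* Γ, Function.Injective ψ ∧ (∀ k : K, ψ k = φ k) ∧
      (∀ g, g * ψ τ = ψ τ * g → ∃ h, g = ψ h ∨ g = ψ h * r) ∧
      (∀ m, m ∉ K → r * ψ m * r⁻¹ = ψ (τ * m)) ∧ r * ψ gz * r⁻¹ = ψ (τ * gz) ∧
      (IsConj (ψ τ) (ψ gz) ∨ IsConj (ψ τ) (ψ d)) := by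
  obtain ⟨g, h, hgc, hg, hh⟩ := exists_outer F
  have hrel := inverts_r F hgc hg hh
  set u : Γ := g * φ τ0 * g⁻¹ with hu
  have huu : u * u = 1 := by
    rw [hu]
    calc g * φ τ0 * g⁻¹ * (g * φ τ0 * g⁻¹) = g * (φ τ0 * φ τ0) * g⁻¹ := by group
      _ = 1 := by rw [t_sq]; group
  have h1 : IsConj gz h ∨ IsConj d h := by
    have h2 : h * h = 1 ∨ h * h = τ := by
      have h3 := Acts.mul hg hg
      rw [huu] at h3
      have h4 : Acts φ (1 : Γ) (1 : H0) := by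
        intro k
        rw [one_mul, inv_one, mul_one]
        congr 1
        apply Subtype.ext
        rw [coe_conjK]
        group
      rcases Acts.unique F.inj h4 h3 with h5 | h5
      · exact Or.inl h5
      · exact Or.inr (by rw [h5, one_mul])
    rw [← pow_two] at h2
    rcases sq_cases h2 with h3 | h3 | h3 | h3 | h3 | h3 | h3
    · exact absurd (h3 ▸ K.one_mem) hh
    · exact absurd (h3 ▸ τ_mem_K) hh
    · exact absurd ((mem_K_of_isConj h3).1 a0.2) hh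
    · exact absurd ((mem_K_of_isConj h3).1 aτ_mem_K) hh
    · exact absurd ((mem_K_of_isConj h3).1 gx_mem) hh
    · exact Or.inl h3
    · exact Or.inr h3
  have hh2 : h * h = 1 := by
    rcases h1 with h1 | h1
    · obtain ⟨c, rfl⟩ := isConj_iff.1 h1
      calc c * gz * c⁻¹ * (c * gz * c⁻¹) = c * (gz * gz) * c⁻¹ := by group
        _ = 1 := by rw [z_sq]; group
    · obtain ⟨c, rfl⟩ := isConj_iff.1 h1
      calc c * d * c⁻¹ * (c * d * c⁻¹) = c * (d * d) * c⁻¹ := by group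
        _ = 1 := by rw [d_sq]; group
  obtain ⟨ψ, hψ, hψh, hψm⟩ := exists_ext hh hh2 hg huu
  have hψτ : ψ τ = φ τ0 := hψ τ0
  have hnotin : ∀ k : K, u ≠ φ k := by
    intro k hk
    rw [hk] at hg
    exact hh ((mem_K_of_eq (Acts.unique F.inj (acts_of k) hg)).2 k.2)
  have hacts : ∀ m : H0, Acts φ (ψ m) m := by
    intro m
    by_cases hmK : m ∈ K
    · have h2 : ψ m = φ ⟨m, hmK⟩ := hψ ⟨m, hmK⟩
      rw [h2]
      exact acts_of _
    · obtain ⟨k, hk, hmk⟩ := hψm m hmK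
      rw [hk, hmk]
      exact Acts.mul (acts_of k) hg
  have hout : ∀ m, m ∉ K → r * ψ m * r⁻¹ = ψ (τ * m) := by
    intro m hmK
    obtain ⟨k, hk, hmk⟩ := hψm m hmK
    rw [map_mul, hψτ, hk]
    calc r * (φ k * u) * r⁻¹ = (r * φ k) * u * r⁻¹ := by group
      _ = (φ k * r) * u * r⁻¹ := by rw [F.hrc]
      _ = φ k * (r * u * r⁻¹) := by group
      _ = φ k * (u * φ τ0) := by rw [hrel]
      _ = φ k * (φ τ0 * u) := by rw [hgc]
      _ = φ k * φ τ0 * u := by group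
      _ = φ τ0 * (φ k * u) := by rw [t_comm]; group
  refine ⟨ψ, ?_, hψ, ?_, hout, hout gz gz_notMem_K, ?_⟩
  · rw [injective_iff_map_eq_one]
    intro m hm1
    by_cases hmK : m ∈ K
    · have h2 : φ ⟨m, hmK⟩ = 1 := (hψ ⟨m, hmK⟩).symm.trans hm1
      exact congrArg Subtype.val (F.inj (h2.trans (map_one φ).symm))
    · obtain ⟨k, hk, hmk⟩ := hψm m hmK
      exfalso
      refine hnotin k⁻¹ ?_
      rw [map_inv]
      exact (inv_eq_of_mul_eq_one_right (hk.symm.trans hm1)).symm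
  · intro x hx
    rw [hψτ] at hx
    obtain ⟨m, hm⟩ := F.hM x hx
    have h2 : (ψ m)⁻¹ * x ∈ zpowers r := by
      refine F.hR _ fun k => ?_
      have h3 : ψ m * φ k * (ψ m)⁻¹ = x * φ k * x⁻¹ := (hacts m k).trans (hm k).symm
      calc (ψ m)⁻¹ * x * φ k = (ψ m)⁻¹ * (x * φ k * x⁻¹) * x := by group
        _ = (ψ m)⁻¹ * (ψ m * φ k * (ψ m)⁻¹) * x := by rw [h3]
        _ = φ k * ((ψ m)⁻¹ * x) := by group
    rcases four_cases F h2 with h3 | h3 | h3 | h3
    · exact ⟨m, Or.inl (inv_mul_eq_one.1 h3).symm⟩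
    · exact ⟨m * τ, Or.inl (by rw [map_mul, hψτ]; exact inv_mul_eq_iff_eq_mul.1 h3)⟩
    · exact ⟨m, Or.inr (inv_mul_eq_iff_eq_mul.1 h3)⟩
    · refine ⟨m * τ, Or.inr ?_⟩
      rw [inv_mul_eq_iff_eq_mul.1 h3, map_mul, hψτ, F.hrc, mul_assoc]
  · have h2 : IsConj (ψ τ) (ψ h) := by
      rw [hψτ, hψh]
      exact isConj_iff.2 ⟨g, rfl⟩
    rcases h1 with h1 | h1
    · exact Or.inl (h2.trans (ψ.map_isConj h1).symm)
    · exact Or.inr (h2.trans (ψ.map_isConj h1).symm)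

end Cfsg.Agent.StandardComponent.HS.FourOuter
end

-- part: HN/FactF5
section
set_option autoImplicit false

/-!
Fact F5 on `H0 = 2.HS.2` (for S1752): for `h = z` and `h = d` there are elements `p₁, p₂` of order 3 of `C_K(h)` whose
commutator `w` is an involution different from `τ`, such that `h` and `h w` are conjugate in `K`.
-/

namespace Cfsg.Agent.HN.FactF5

open Cfsg.Agent.HN.Pres Cfsg.Agent.HN.HS100 Cfsg.Agent.HN.P1408 Cfsg.Agent.HN.H0Basic
open Cfsg.Agent.HN.Syl Cfsg.Agent.HN.Classes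
open Cfsg.Agent.SporadicA.PermTab

/-- The statement for an element `h`. -/
def F5 (h : H0) : Prop :=
  ∃ p₁ ∈ K, ∃ p₂ ∈ K, ∃ k ∈ K, p₁ ^ 3 = 1 ∧ p₂ ^ 3 = 1 ∧ p₁ * h = h * p₁ ∧ p₂ * h = h * p₂ ∧
    ∃ w : H0, w = p₁ * p₂ * p₁⁻¹ * p₂⁻¹ ∧ w ∈ K ∧ w * w = 1 ∧ w ≠ 1 ∧ w ≠ τ ∧ k * h * k⁻¹ = h * w

/-- Boolean test for words of `K` -/
def inK (w : List ℕ) : Bool := band (okw w) (Nat.beq (cond (par w) 1 0) 0)

theorem mem_K_of_inK {w : List ℕ} (h : inK w = true) : hw w ∈ K := by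
  unfold inK at h
  rw [band_eq_true] at h
  refine mem_K_of_par h.1 ?_
  cases hp : par w with
  | false => rfl
  | true => rw [hp] at h; exact absurd h.2 (by decide)

/-- the test -/
def chk (v p q k : List ℕ) (e : ℕ) : Bool :=
  band (inK p) (band (inK q) (band (inK k) (band (eqw (p ++ (p ++ p)) []) (band (eqw (q ++ (q ++ q)) [])
    (band (eqw (p ++ v) (v ++ p)) (band (eqw (q ++ v) (v ++ q))
    (band (eqw ((p ++ (q ++ (iw p ++ iw q))) ++ (p ++ (q ++ (iw p ++ iw q)))) [])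
    (band (inK (p ++ (q ++ (iw p ++ iw q))))
    (band (Nat.blt e 1408) (band (neB (tr (p ++ (q ++ (iw p ++ iw q))) e) e)
    (band (neB (tr (p ++ (q ++ (iw p ++ iw q))) e) (tr [0, 0] e))
    (eqw (k ++ (v ++ iw k)) (v ++ (p ++ (q ++ (iw p ++ iw q))))))))))))))))

theorem F5_of_chk {v p q k : List ℕ} {e : ℕ} (h : chk v p q k e = true) : F5 (hw v) := by
  unfold chk at h
  simp only [band_eq_true, neB_iff] at h
  obtain ⟨h1, h2, h3, h4, h5, h6, h7, h8, h9, h10, h11, h12, h13⟩ := h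
  have he : e < 1408 := Nat.blt_eq ▸ h10
  have hw' : hw (p ++ (q ++ (iw p ++ iw q))) = hw p * hw q * (hw p)⁻¹ * (hw q)⁻¹ := by
    rw [hw_append, hw_append, hw_append, hw_iw, hw_iw]; group
  have hok : okw (p ++ (q ++ (iw p ++ iw q))) = true := by
    unfold inK at h9
    rw [band_eq_true] at h9
    exact h9.1
  refine ⟨hw p, mem_K_of_inK h1, hw q, mem_K_of_inK h2, hw k, mem_K_of_inK h3, ?_, ?_, ?_, ?_,
    hw (p ++ (q ++ (iw p ++ iw q))), hw', mem_K_of_inK h9, ?_, ?_, ?_, ?_⟩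
  · have := hw_eq h4
    rw [hw_append, hw_append, hw_nil] at this
    rw [pow_succ, pow_two, mul_assoc]
    exact this
  · have := hw_eq h5
    rw [hw_append, hw_append, hw_nil] at this
    rw [pow_succ, pow_two, mul_assoc]
    exact this
  · have := hw_eq h6
    rwa [hw_append, hw_append] at this
  · have := hw_eq h7
    rwa [hw_append, hw_append] at this
  · have := hw_eq h8
    rwa [hw_append, hw_nil] at this
  · rw [← hw_nil]
    exact hw_ne hok rfl he h11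
  · rw [← hw_τ]
    exact hw_ne hok rfl he h12
  · have := hw_eq h13
    rw [hw_append k, hw_append v, hw_iw, hw_append v] at this
    rw [mul_assoc]
    exact this

theorem chk_z : chk [4] [4, 2, 0, 2, 1, 3, 3, 3, 4, 1, 2, 1, 2, 1]
    [1, 3, 1, 3, 4, 3, 3, 3, 4, 1, 3, 1, 3] [2, 2, 4, 3, 1, 3, 4, 3] 0 = true := by decide +kernel

theorem chk_d : chk [1, 3, 1, 2, 1, 4, 3, 4, 2, 4] [4, 3, 4, 3, 4, 2, 4, 1, 3, 1, 2, 2]
    [0, 3, 4, 2, 4, 1] [3, 1] 0 = true := by decide +kernel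

theorem z : F5 gz := by
  have h := F5_of_chk chk_z
  rwa [hw_z] at h

theorem d : F5 Syl.d := F5_of_chk chk_d

end Cfsg.Agent.HN.FactF5
end

-- part: StandardComponent/HS/PairA
section
set_option autoImplicit false

/-!
S1752: pairs of commuting conjugates of `t`, where `L = φ K` is a standard subgroup and `t = φ τ`.
-/

namespace Cfsg.Agent.StandardComponent.HS.PairA

open Cfsg.Agent.HN.Pres Cfsg.Agent.HN.HS100 Cfsg.Agent.HN.P1408 Cfsg.Agent.HN.H0Basic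
open Cfsg.Agent.HN.Syl Cfsg.Agent.HN.Classes Cfsg.Agent.HN.FusGen Cfsg.Agent.HN.FusOne
open Cfsg.Agent.HN.FusK0
open Cfsg.Agent.StandardComponent.HS.FourK0 Cfsg.Agent.StandardComponent.HS.Four
open Cfsg.Agent.StandardComponent.HS.FourOuter
open Cfsg.Agent.HN
open Subgroup

variable {G : Type*} [Group G] {φ φ' : K →* G}

/-- `v` centralises `φ K`. -/
def Cen (φ : K →* G) (v : G) : Prop := ∀ k, v * φ k = φ k * v

/-- `φ K` is a standard subgroup (the output of `StdPhi.exists_phi`). -/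
structure Std (φ : K →* G) : Prop where
  inj : Function.Injective φ
  acts : ∀ g, g * φ τ0 = φ τ0 * g → ∃ h : H0, Acts φ g h
  cent : ∀ v, (∀ k, v * φ k = φ k * v) → v * v = 1 → v ≠ 1 → ∀ g, g * v = v * g → g * φ τ0 = φ τ0 * g
  tight : ∀ g, g * φ τ0 ≠ φ τ0 * g → ∀ D : Subgroup G, (∀ x ∈ D, ∀ k, x * φ k = φ k * x) →
    (∀ x ∈ D, ∀ k, x * (g * φ k * g⁻¹) = (g * φ k * g⁻¹) * x) → Odd (Nat.card D)

/-! ### generalities on `Acts` -/

theorem Acts.comm_iff (hφ : Function.Injective φ) {g : G} {h : H0} (H : Acts φ g h) (k : K) :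
    g * φ k = φ k * g ↔ h * (k : H0) = k * h := by
  have h1 := H k
  constructor
  · intro h2
    rw [h2, mul_assoc, mul_inv_cancel, mul_one] at h1
    have h3 : (k : H0) = h * k * h⁻¹ := congrArg Subtype.val (hφ h1)
    exact (mul_inv_eq_iff_eq_mul.1 h3.symm)
  · intro h2
    have h3 : conjK h k = k := Subtype.ext (by rw [coe_conjK, h2]; group)
    rw [h3] at h1
    exact mul_inv_eq_iff_eq_mul.1 h1

theorem acts_one {g : G} (H : Cen φ g) : Acts φ g 1 := by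
  intro k
  have h1 : conjK 1 k = k := Subtype.ext (by rw [coe_conjK]; group)
  rw [h1, H]
  group

theorem Acts.mul_τ {g : G} {h : H0} (H : Acts φ g h) : Acts φ g (h * τ) := by
  intro k
  have h1 : conjK (h * τ) k = conjK h k := Subtype.ext (by
    rw [coe_conjK, coe_conjK]
    calc h * τ * k * (h * τ)⁻¹ = h * (τ * k) * τ⁻¹ * h⁻¹ := by group
      _ = h * (k * τ) * τ⁻¹ * h⁻¹ := by rw [τ_comm]
      _ = h * k * h⁻¹ := by group)
  rw [h1]
  exact H k

theorem cen_of_acts {g : G} {h : H0} (H : Acts φ g h) (hh : h = 1 ∨ h = τ) : Cen φ g := by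
  have key : ∀ {h : H0}, Acts φ g h → h = 1 → Cen φ g := by
    rintro h H rfl k
    have h1 := H k
    have h2 : conjK 1 k = k := Subtype.ext (by rw [coe_conjK]; group)
    rw [h2] at h1
    exact mul_inv_eq_iff_eq_mul.1 h1
  rcases hh with hh | hh
  · exact key H hh
  · exact key (Acts.mul_τ H) (by rw [hh, τ_mul_τ])

theorem Acts.sq_cases (hφ : Function.Injective φ) {g : G} {h : H0} (H : Acts φ g h) (hc : Cen φ (g * g)) :
    h * h = 1 ∨ h * h = τ := by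
  have h1 := Acts.unique hφ (acts_one hc) (H.mul H)
  rwa [one_mul] at h1

/-- An element of order 3 acts as an element of order 3 of `K`. -/
theorem acts_cube (hφ : Function.Injective φ) {g : G} {h : H0} (H : Acts φ g h) (hg : g * g * g = 1) :
    ∃ k : K, k * k * k = 1 ∧ Acts φ g k := by
  have h1 := (H.mul H).mul H
  rw [hg] at h1
  have h2 : h * h * h = 1 ∨ h * h * h = τ := by
    have h3 := Acts.unique hφ (acts_one (g := 1) fun k => by group) h1
    rwa [one_mul] at h3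
  obtain ⟨h', hh', h3⟩ : ∃ h', Acts φ g h' ∧ h' * h' * h' = 1 := by
    rcases h2 with h2 | h2
    · exact ⟨h, H, h2⟩
    · refine ⟨h * τ, Acts.mul_τ H, ?_⟩
      calc h * τ * (h * τ) * (h * τ) = h * (τ * h) * (τ * h) * τ := by group
        _ = h * (h * τ) * (h * τ) * τ := by rw [← τ_comm h]
        _ = h * h * (τ * h) * (τ * τ) := by group
        _ = h * h * (h * τ) * (τ * τ) := by rw [← τ_comm h]
        _ = (h * h * h) * τ := by rw [τ_mul_τ]; group
        _ = 1 := by rw [h2, τ_mul_τ]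
  have hK : h' ∈ K := by
    have h4 : h' = (h' * h') * (h' * h') := by
      calc h' = (h' * h' * h') * h' := by rw [h3, one_mul]
        _ = (h' * h') * (h' * h') := by group
    rw [h4]
    exact K.mul_mem (sq_mem_K h') (sq_mem_K h')
  exact ⟨⟨h', hK⟩, Subtype.ext h3, hh'⟩

/-- An element of order 3 commuting with `v` modulo `τ` commutes with `v`. -/
theorem comm_of_cube {g v : H0} (hg : g * g * g = 1) (h : g * v * g⁻¹ = v ∨ g * v * g⁻¹ = v * τ) : g * v = v * g := by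
  rcases h with h | h
  · exact mul_inv_eq_iff_eq_mul.1 h
  · exfalso
    have h1 : ∀ w : H0, g * w * g⁻¹ = w * τ → g * (w * τ) * g⁻¹ = w := by
      intro w hw
      calc g * (w * τ) * g⁻¹ = g * w * (τ * g⁻¹) := by group
        _ = g * w * (g⁻¹ * τ) := by rw [τ_comm]
        _ = g * w * g⁻¹ * τ := by group
        _ = w := by rw [hw, mul_assoc, τ_mul_τ, mul_one]
    have h2 : g * g * g * v * (g * g * g)⁻¹ = v * τ := by
      calc g * g * g * v * (g * g * g)⁻¹ = g * (g * (g * v * g⁻¹) * g⁻¹) * g⁻¹ := by group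
        _ = g * v * g⁻¹ := by rw [h, h1 v h, h]
        _ = v * τ := h
    rw [hg, one_mul, inv_one, mul_one] at h2
    exact τ_ne_one (mul_eq_left.1 h2.symm)

/-! ### conjugation -/

/-- the conjugate homomorphism -/
def conjHom (φ : K →* G) (g : G) : K →* G := (MulAut.conj g).toMonoidHom.comp φ

theorem conjHom_apply (φ : K →* G) (g : G) (k : K) : conjHom φ g k = g * φ k * g⁻¹ := rfl

theorem conjHom_conjHom (φ : K →* G) (g h : G) : conjHom (conjHom φ g) h = conjHom φ (h * g) := by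
  ext k
  rw [conjHom_apply, conjHom_apply, conjHom_apply]
  group

theorem conjHom_one (φ : K →* G) : conjHom φ 1 = φ := by
  ext k
  rw [conjHom_apply]
  group

theorem comm_conj {g x y : G} : x * (g * y * g⁻¹) = g * y * g⁻¹ * x ↔ g⁻¹ * x * g * y = y * (g⁻¹ * x * g) := by
  constructor
  · intro h
    calc g⁻¹ * x * g * y = g⁻¹ * (x * (g * y * g⁻¹)) * g := by group
      _ = g⁻¹ * (g * y * g⁻¹ * x) * g := by rw [h]
      _ = y * (g⁻¹ * x * g) := by group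
  · intro h
    calc x * (g * y * g⁻¹) = g * (g⁻¹ * x * g * y) * g⁻¹ := by group
      _ = g * (y * (g⁻¹ * x * g)) * g⁻¹ := by rw [h]
      _ = g * y * g⁻¹ * x := by group

theorem cen_conjHom {g v : G} : Cen (conjHom φ g) v ↔ Cen φ (g⁻¹ * v * g) :=
  forall_congr' fun _ => comm_conj

theorem acts_conjHom {g v : G} {h : H0} (H : Acts φ (g⁻¹ * v * g) h) : Acts (conjHom φ g) v h := by
  intro k
  rw [conjHom_apply, conjHom_apply, ← H k]
  group

theorem Std.conj (S : Std φ) (g : G) : Std (conjHom φ g) where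
  inj k l h := S.inj (by
    rw [conjHom_apply, conjHom_apply] at h
    exact mul_left_cancel (mul_right_cancel h))
  acts x hx := by
    obtain ⟨h, hh⟩ := S.acts (g⁻¹ * x * g) (comm_conj.1 hx)
    exact ⟨h, acts_conjHom hh⟩
  cent v hv hv2 hv1 x hx := by
    refine comm_conj.2 (S.cent (g⁻¹ * v * g) (cen_conjHom.1 hv) ?_ ?_ _ ?_)
    · calc g⁻¹ * v * g * (g⁻¹ * v * g) = g⁻¹ * (v * v) * g := by group
        _ = 1 := by rw [hv2]; group
    · intro h
      apply hv1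
      calc v = g * (g⁻¹ * v * g) * g⁻¹ := by group
        _ = 1 := by rw [h]; group
    · calc g⁻¹ * x * g * (g⁻¹ * v * g) = g⁻¹ * (x * v) * g := by group
        _ = g⁻¹ * (v * x) * g := by rw [hx]
        _ = g⁻¹ * v * g * (g⁻¹ * x * g) := by group
  tight x hx D hD hD' := by
    have h1 := S.tight (g⁻¹ * x * g) (fun h => hx (comm_conj.2 h)) (D.map (MulAut.conj g⁻¹).toMonoidHom) ?_ ?_
    · have h2 : Nat.card (D.map (MulAut.conj g⁻¹).toMonoidHom) = Nat.card D :=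
        (Nat.card_congr (D.equivMapOfInjective _ (MulAut.conj g⁻¹).injective).toEquiv).symm
      rwa [h2] at h1
    · rintro _ ⟨y, hy, rfl⟩ k
      have h2 := comm_conj.1 (hD y hy k)
      simp only [MulEquiv.toMonoidHom_eq_coe, MonoidHom.coe_coe, MulAut.conj_apply, inv_inv]
      exact h2
    · rintro _ ⟨y, hy, rfl⟩ k
      have h2 := hD' y hy k
      simp only [MulEquiv.toMonoidHom_eq_coe, MonoidHom.coe_coe, MulAut.conj_apply, inv_inv]
      rw [conjHom_apply] at h2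
      calc g⁻¹ * y * g * (g⁻¹ * x * g * φ k * (g⁻¹ * x * g)⁻¹)
          = g⁻¹ * (y * (x * (g * φ k * g⁻¹) * x⁻¹)) * g := by group
        _ = g⁻¹ * (x * (g * φ k * g⁻¹) * x⁻¹ * y) * g := by rw [h2]
        _ = g⁻¹ * x * g * φ k * (g⁻¹ * x * g)⁻¹ * (g⁻¹ * y * g) := by group

/-! ### pairs -/

/-- Two standard subgroups `φ K` and `φ' K`, conjugate in `G`, such that `t = φ τ` and `t' = φ' τ` are different and
commute. -/
structure Two (φ φ' : K →* G) : Prop where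
  std : Std φ
  conj : ∃ g, φ' = conjHom φ g
  ne : φ' τ0 ≠ φ τ0
  comm : φ' τ0 * φ τ0 = φ τ0 * φ' τ0

theorem Two.std' (T : Two φ φ') : Std φ' := by
  obtain ⟨g, rfl⟩ := T.conj
  exact T.std.conj g

theorem Two.symm (T : Two φ φ') : Two φ' φ where
  std := T.std'
  conj := by
    obtain ⟨g, rfl⟩ := T.conj
    exact ⟨g⁻¹, by rw [conjHom_conjHom, inv_mul_cancel, conjHom_one]⟩
  ne := T.ne.symm
  comm := T.comm.symm

/-- conjugating a pair -/
theorem Two.conj_both (T : Two φ φ') (g : G) : Two (conjHom φ g) (conjHom φ' g) where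
  std := T.std.conj g
  conj := by
    obtain ⟨c, rfl⟩ := T.conj
    refine ⟨g * c * g⁻¹, ?_⟩
    rw [conjHom_conjHom, conjHom_conjHom]
    congr 1
    group
  ne h := T.ne (by
    rw [conjHom_apply, conjHom_apply] at h
    exact mul_left_cancel (mul_right_cancel h))
  comm := by
    rw [conjHom_apply, conjHom_apply]
    calc g * φ' τ0 * g⁻¹ * (g * φ τ0 * g⁻¹) = g * (φ' τ0 * φ τ0) * g⁻¹ := by group
      _ = g * (φ τ0 * φ' τ0) * g⁻¹ := by rw [T.comm]
      _ = g * φ τ0 * g⁻¹ * (g * φ' τ0 * g⁻¹) := by group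

/-- conjugating `φ'` by an element of `C(t)` -/
theorem Two.conj_right (T : Two φ φ') {g : G} (hg : g * φ τ0 = φ τ0 * g) : Two φ (conjHom φ' g) where
  std := T.std
  conj := by
    obtain ⟨c, rfl⟩ := T.conj
    exact ⟨g * c, conjHom_conjHom _ _ _⟩
  ne h := by
    rw [conjHom_apply, mul_inv_eq_iff_eq_mul, ← hg] at h
    exact T.ne (mul_left_cancel h)
  comm := by
    rw [conjHom_apply]
    have h1 : g⁻¹ * φ τ0 = φ τ0 * g⁻¹ := by
      rw [inv_mul_eq_iff_eq_mul, ← mul_assoc, hg]; group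
    calc g * φ' τ0 * g⁻¹ * φ τ0 = g * φ' τ0 * (g⁻¹ * φ τ0) := by group
      _ = g * (φ' τ0 * φ τ0) * g⁻¹ := by rw [h1]; group
      _ = (g * φ τ0) * φ' τ0 * g⁻¹ := by rw [T.comm]; group
      _ = φ τ0 * (g * φ' τ0 * g⁻¹) := by rw [hg]; group

theorem Two.t_ne (T : Two φ φ') : φ τ0 ≠ 1 := fun h => τ0_ne (T.std.inj (h.trans (map_one φ).symm))

theorem Std.t_ne (S : Std φ) : φ τ0 ≠ 1 := fun h => τ0_ne (S.inj (h.trans (map_one φ).symm))

theorem cen_t : Cen φ (φ τ0) := fun k => (t_comm k).symm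

theorem Two.odd (T : Two φ φ') (D : Subgroup G) (hD : ∀ x ∈ D, Cen φ x) (hD' : ∀ x ∈ D, Cen φ' x) :
    Odd (Nat.card D) := by
  obtain ⟨g, rfl⟩ := T.conj
  refine T.std.tight g (fun h => T.ne ?_) D hD hD'
  rw [conjHom_apply, h]
  group

theorem Two.eq_one (T : Two φ φ') {v : G} (hv : Cen φ v) (hv' : Cen φ' v) (hv2 : v * v = 1) : v = 1 := by
  have h1 := T.odd (Subgroup.zpowers v) ?_ ?_
  · rw [Nat.card_zpowers] at h1
    have h2 : orderOf v ∣ 2 := orderOf_dvd_of_pow_eq_one (by rw [pow_two, hv2])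
    rcases (Nat.dvd_prime Nat.prime_two).1 h2 with h3 | h3
    · exact orderOf_eq_one_iff.1 h3
    · rw [h3] at h1
      exact absurd h1 (by decide)
  · rintro x ⟨n, rfl⟩ k
    exact ((show Commute v (φ k) from hv k).zpow_left n)
  · rintro x ⟨n, rfl⟩ k
    exact ((show Commute v (φ' k) from hv' k).zpow_left n)

theorem Cen.mul {v w : G} (hv : Cen φ v) (hw : Cen φ w) : Cen φ (v * w) := fun k => by
  rw [mul_assoc, hw, ← mul_assoc, hv, mul_assoc]

theorem Cen.inv {v : G} (hv : Cen φ v) : Cen φ v⁻¹ := fun k => by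
  rw [inv_mul_eq_iff_eq_mul, ← mul_assoc, hv, mul_assoc, mul_inv_cancel, mul_one]

theorem cen_one : Cen φ (1 : G) := fun k => by rw [one_mul, mul_one]

/-- (C1) the only involution of `C(L)` commuting with `t'` is `t`. -/
theorem Two.C1 (T : Two φ φ') {v : G} (hv : Cen φ v) (hv2 : v * v = 1) (hv1 : v ≠ 1)
    (hvt : v * φ' τ0 = φ' τ0 * v) : v = φ τ0 := by
  obtain ⟨h, hh⟩ := T.std'.acts v hvt
  obtain ⟨s, hs⟩ := T.std'.acts (φ τ0) T.comm.symm
  have hsq : h * h = 1 ∨ h * h = τ := Acts.sq_cases T.std'.inj hh (by rw [hv2]; exact cen_one)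
  have h1 : h ≠ 1 := fun e => hv1 (T.eq_one hv (cen_of_acts hh (Or.inl e)) hv2)
  have h2 : h ≠ τ := fun e => hv1 (T.eq_one hv (cen_of_acts hh (Or.inr e)) hv2)
  have hsc : ∀ k ∈ K, k * h = h * k → s * k = k * s := by
    intro k hk hkh
    have h3 := (Acts.comm_iff T.std'.inj hh ⟨k, hk⟩).2 hkh.symm
    have h4 := T.std.cent v hv hv2 hv1 _ h3.symm
    exact (Acts.comm_iff T.std'.inj hs ⟨k, hk⟩).1 h4.symm
  have hs1 : s ≠ 1 ∧ s ≠ τ := by
    constructor
    · exact fun e => T.t_ne (T.eq_one cen_t (cen_of_acts hs (Or.inl e)) t_sq)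
    · exact fun e => T.t_ne (T.eq_one cen_t (cen_of_acts hs (Or.inr e)) t_sq)
  have key : s * h = 1 ∨ s * h = τ := by
    rcases FactF1.cent_cent (h := h) (g := s) (by rw [pow_two]; exact hsq) h1 h2 hsc with e | e | e | e
    · exact absurd e hs1.1
    · exact absurd e hs1.2
    · rw [e]; exact hsq
    · rw [e, mul_assoc, ← τ_comm h, ← mul_assoc]
      rcases hsq with e' | e'
      · right; rw [e', one_mul]
      · left; rw [e', τ_mul_τ]
  have h5 : φ τ0 * v = 1 := by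
    refine T.eq_one (cen_t.mul hv) (cen_of_acts (hs.mul hh) key) ?_
    calc φ τ0 * v * (φ τ0 * v) = φ τ0 * (v * φ τ0) * v := by group
      _ = φ τ0 * (φ τ0 * v) * v := by rw [hv]
      _ = (φ τ0 * φ τ0) * (v * v) := by group
      _ = 1 := by rw [t_sq, hv2, one_mul]
  have h6 : φ τ0 * (φ τ0 * v) = φ τ0 := by rw [h5, mul_one]
  rwa [← mul_assoc, t_sq, one_mul] at h6

/-- `t'` acts on `L` as an inner automorphism given by an involution: then `t' ∈ L`. -/
theorem Two.kindA (T : Two φ φ') {k : K} (h : Acts φ (φ' τ0) k) (hk : k * k = 1) : ∃ l : K, φ' τ0 = φ l := by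
  set y : G := φ' τ0 * (φ k)⁻¹ with hy
  have e0 : φ' τ0 = y * φ k := by rw [hy]; group
  have hyc : Cen φ y := by
    have h1 := h.mul (acts_of (φ := φ) k).inv
    rw [mul_inv_cancel] at h1
    exact cen_of_acts h1 (Or.inl rfl)
  have e1 : y * y = 1 := by
    have h1 : φ' τ0 * φ' τ0 = 1 := t_sq
    rw [e0] at h1
    calc y * y = y * (y * φ k) * (φ k)⁻¹ := by group
      _ = y * (φ k * y) * (φ k)⁻¹ := by rw [hyc]
      _ = (y * φ k) * (y * φ k) * ((φ k)⁻¹ * (φ k)⁻¹) := by group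
      _ = 1 := by rw [h1, ← mul_inv_rev, ← map_mul, hk, map_one]; group
  have e2 : y * φ' τ0 = φ' τ0 * y := by
    rw [e0, hyc k, ← mul_assoc, hyc k]
  by_cases hy1 : y = 1
  · exact ⟨k, by rw [e0, hy1, one_mul]⟩
  · refine ⟨τ0 * k, ?_⟩
    rw [e0, T.C1 hyc e1 hy1 e2, map_mul]

/-! ### the parity argument -/

/-- the index of the centraliser of `φ a0` in `C(t)` -/
theorem Std.index_a [Finite G] (F : Std φ) : ((centralizer {φ a0}).subgroupOf (centralizer {φ τ0})).index = 5775 := by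
  set C : Subgroup G := centralizer {φ τ0} with hC
  set A : Subgroup C := (centralizer {φ a0}).subgroupOf C with hA
  have memA : ∀ g : C, g ∈ A ↔ (g : G) * φ a0 = φ a0 * g := fun g => by
    rw [hA, mem_subgroupOf, mem_centralizer_singleton_iff]
  set L : Subgroup C := (toC φ).range with hL
  have hLn : L.Normal := by
    refine ⟨?_⟩
    rintro _ ⟨k, rfl⟩ g
    obtain ⟨h, hh⟩ := F.acts g (mem_centralizer_singleton_iff.1 g.2)
    exact ⟨conjK h k, Subtype.ext (hh k).symm⟩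
  have hsup : A ⊔ L = ⊤ := by
    rw [eq_top_iff]
    rintro g -
    obtain ⟨h, hh⟩ := F.acts g (mem_centralizer_singleton_iff.1 g.2)
    have h1 : IsConj a0 (conjK h a0) := by
      refine isConj_of (g := a0) s8_a ?_
      exact isConj_iff.2 ⟨h, rfl⟩
    obtain ⟨l, hl⟩ := isConj_iff.1 h1
    have h2 : (g : G) * φ a0 * (g : G)⁻¹ = φ l * φ a0 * (φ l)⁻¹ := by
      rw [hh, ← hl, map_mul, map_mul, map_inv]
    have h3 : (toC φ l)⁻¹ * g ∈ A := by
      rw [memA]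
      change (φ l)⁻¹ * (g : G) * φ a0 = φ a0 * ((φ l)⁻¹ * (g : G))
      calc (φ l)⁻¹ * (g : G) * φ a0 = (φ l)⁻¹ * ((g : G) * φ a0 * (g : G)⁻¹) * g := by group
        _ = (φ l)⁻¹ * (φ l * φ a0 * (φ l)⁻¹) * g := by rw [h2]
        _ = φ a0 * ((φ l)⁻¹ * (g : G)) := by group
    have h4 : g = toC φ l * ((toC φ l)⁻¹ * g) := by group
    rw [h4]
    exact mul_mem (mem_sup_right ⟨l, rfl⟩) (mem_sup_left h3)
  have e1 : A.relIndex L * L.index = (A ⊓ L).index := by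
    have := relIndex_inf_mul_relIndex A L ⊤
    rwa [inf_top_eq, relIndex_top_right, relIndex_top_right] at this
  have e2 : L.relIndex A * A.index = (L ⊓ A).index := by
    have := relIndex_inf_mul_relIndex L A ⊤
    rwa [inf_top_eq, relIndex_top_right, relIndex_top_right] at this
  have e3 : L.relIndex A = L.index := by
    have h1 : L.relIndex (A ⊔ L) = L.relIndex A := relIndex_sup_right ..
    rw [← h1, hsup, relIndex_top_right]
  have e4 : A.index = A.relIndex L := by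
    rw [e3] at e2
    rw [inf_comm, ← e2, mul_comm] at e1
    exact (Nat.eq_of_mul_eq_mul_left (Nat.pos_of_ne_zero index_ne_zero_of_finite) e1).symm
  have e5 : (A.comap (toC φ)).index = A.relIndex L := index_comap A (toC φ)
  have e6 : A.comap (toC φ) = (centralizer {a} : Subgroup H0).subgroupOf K := by
    ext k
    rw [mem_comap, memA, mem_subgroupOf, mem_centralizer_singleton_iff]
    constructor
    · intro h
      have h1 : φ (k * a0) = φ (a0 * k) := by rw [map_mul, map_mul]; exact h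
      exact congrArg Subtype.val (F.inj h1)
    · intro h
      have h1 : k * a0 = a0 * k := Subtype.ext h
      change φ k * φ a0 = φ a0 * φ k
      rw [← map_mul, ← map_mul, h1]
  rw [e4, ← e5, e6]
  exact FactF4.relIndex_centralizer_a

theorem b0_eq' : b0 = a0 * τ0 := b0_eq

/-- the index of the centraliser of `φ b0` in `C(t)` -/
theorem Std.index_b [Finite G] (F : Std φ) : ((centralizer {φ b0}).subgroupOf (centralizer {φ τ0})).index = 5775 := by
  rw [← F.index_a]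
  congr 1
  ext g
  have hg := mem_centralizer_singleton_iff.1 g.2
  rw [mem_subgroupOf, mem_centralizer_singleton_iff, mem_subgroupOf, mem_centralizer_singleton_iff, b0_eq', map_mul]
  constructor
  · intro h
    have h1 : (g : G) * φ a0 * φ τ0 = φ a0 * g * φ τ0 := by
      rw [mul_assoc, h, mul_assoc, mul_assoc, hg]
    exact mul_right_cancel h1
  · intro h
    rw [← mul_assoc, h, mul_assoc, hg, ← mul_assoc]

/-- An element of `C(t)` whose centraliser in `C(t)` has odd index acts as `1, τ`, or an element of the classes of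
`a` or `a τ`. -/
theorem Std.odd_cases [Finite G] (F : Std φ) {u : G} {h : H0} (hu : Acts φ u h)
    (hodd : ¬ 2 ∣ ((centralizer {u}).subgroupOf (centralizer {φ τ0})).index) : h ∈ K ∧ h * h = 1 := by
  obtain ⟨c, hc⟩ := FactF4.exists_conj_le isPGroup_S0 hodd
  obtain ⟨hc', hcc⟩ := F.acts c (mem_centralizer_singleton_iff.1 c.2)
  have hu' : Acts φ ((c : G) * u * (c : G)⁻¹) (hc' * h * hc'⁻¹) := (Acts.mul (Acts.mul hcc hu) (Acts.inv hcc))
  have h4 := FactF4.F4 (h := hc' * h * hc'⁻¹) (fun s hs hsK => ?_)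
  · have h8 : hc'⁻¹ * (hc' * h * hc'⁻¹) * hc'⁻¹⁻¹ = h := by group
    have key : hc' * h * hc'⁻¹ ∈ K ∧ (hc' * h * hc'⁻¹) * (hc' * h * hc'⁻¹) = 1 := by
      rcases h4 with h4 | h4 | h4 | h4
      · rw [h4]; exact ⟨K.one_mem, one_mul 1⟩
      · rw [h4]; exact ⟨τ_mem_K, τ_mul_τ⟩
      · rw [h4, ← pow_two]; exact ⟨a0.2, a_sq'⟩
      · rw [h4, ← pow_two]; exact ⟨aτ_mem_K, aτ_sq⟩
    constructor
    · have h7 := (inferInstance : (K : Subgroup H0).Normal).conj_mem _ key.1 hc'⁻¹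
      rwa [h8] at h7
    · rw [← h8]
      calc hc'⁻¹ * (hc' * h * hc'⁻¹) * hc'⁻¹⁻¹ * (hc'⁻¹ * (hc' * h * hc'⁻¹) * hc'⁻¹⁻¹)
          = hc'⁻¹ * ((hc' * h * hc'⁻¹) * (hc' * h * hc'⁻¹)) * hc' := by group
        _ = 1 := by rw [key.2]; group
  · have h1 := hc (toC φ ⟨s, hsK⟩) ⟨⟨s, hsK⟩, mem_S0.2 hs, rfl⟩
    rw [mem_subgroupOf, mem_centralizer_singleton_iff] at h1
    have h2 : (c : G)⁻¹ * φ ⟨s, hsK⟩ * c * u = u * ((c : G)⁻¹ * φ ⟨s, hsK⟩ * c) := h1
    have h3 : φ ⟨s, hsK⟩ * (c * u * (c : G)⁻¹) * (φ ⟨s, hsK⟩)⁻¹ = c * u * (c : G)⁻¹ := by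
      calc φ ⟨s, hsK⟩ * (c * u * (c : G)⁻¹) * (φ ⟨s, hsK⟩)⁻¹
          = c * ((c : G)⁻¹ * φ ⟨s, hsK⟩ * c * u) * (c : G)⁻¹ * (φ ⟨s, hsK⟩)⁻¹ := by group
        _ = c * (u * ((c : G)⁻¹ * φ ⟨s, hsK⟩ * c)) * (c : G)⁻¹ * (φ ⟨s, hsK⟩)⁻¹ := by rw [h2]
        _ = c * u * (c : G)⁻¹ := by group
    have h5 : Acts φ ((c : G) * u * (c : G)⁻¹) (s * (hc' * h * hc'⁻¹) * s⁻¹) := by
      have h6 := Acts.mul (Acts.mul (acts_of (φ := φ) ⟨s, hsK⟩) hu') (Acts.inv (acts_of (φ := φ) ⟨s, hsK⟩))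
      rwa [h3] at h6
    exact Acts.unique F.inj hu' h5

theorem card_centralizer_conj (g t : G) :
    Nat.card (centralizer {g * t * g⁻¹} : Subgroup G) = Nat.card (centralizer {t} : Subgroup G) := by
  have h1 : (centralizer {g * t * g⁻¹} : Subgroup G) = (centralizer {t} : Subgroup G).map (MulAut.conj g).toMonoidHom := by
    ext x
    rw [mem_centralizer_singleton_iff, comm_conj]
    constructor
    · intro h
      refine ⟨g⁻¹ * x * g, mem_centralizer_singleton_iff.2 h, ?_⟩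
      simp only [MulEquiv.toMonoidHom_eq_coe, MonoidHom.coe_coe, MulAut.conj_apply]
      group
    · rintro ⟨y, hy, rfl⟩
      have hy' := mem_centralizer_singleton_iff.1 hy
      simp only [MulEquiv.toMonoidHom_eq_coe, MonoidHom.coe_coe, MulAut.conj_apply]
      have h2 : g⁻¹ * (g * y * g⁻¹) * g = y := by group
      rw [h2, hy']
  rw [h1]
  exact (Nat.card_congr (((centralizer {t} : Subgroup G)).equivMapOfInjective _ (MulAut.conj g).injective).toEquiv).symm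

/-- relative indices of the centralisers of `t` and `t'` -/
theorem Two.index_eq [Finite G] (T : Two φ φ') :
    ((centralizer {φ τ0}).subgroupOf (centralizer {φ' τ0})).index =
      ((centralizer {φ' τ0}).subgroupOf (centralizer {φ τ0})).index := by
  have h1 := FactF4.relIndex_mul_card' (centralizer {φ τ0} : Subgroup G) (centralizer {φ' τ0})
  have h2 := FactF4.relIndex_mul_card' (centralizer {φ' τ0} : Subgroup G) (centralizer {φ τ0})
  have h3 : Nat.card (centralizer {φ' τ0} : Subgroup G) = Nat.card (centralizer {φ τ0} : Subgroup G) := by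
    obtain ⟨g, rfl⟩ := T.conj
    exact card_centralizer_conj g (φ τ0)
  rw [h3, ← h2, inf_comm] at h1
  exact Nat.eq_of_mul_eq_mul_right Nat.card_pos h1

/-- (P6) `t' ∈ L` implies `t ∈ L'`. -/
theorem Two.mem_symm [Finite G] (T : Two φ φ') (h : ∃ k : K, φ' τ0 = φ k) : ∃ k : K, φ τ0 = φ' k := by
  obtain ⟨k, hk⟩ := h
  have key : ∀ {φ'' : K →* G}, Two φ φ'' → (φ'' τ0 = φ a0 ∨ φ'' τ0 = φ b0) → ∃ k : K, φ τ0 = φ'' k := by
    intro φ'' T h
    have h1 : ((centralizer {φ'' τ0}).subgroupOf (centralizer {φ τ0})).index = 5775 := by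
      rcases h with h | h
      · rw [h]; exact T.std.index_a
      · rw [h]; exact T.std.index_b
    rw [← T.index_eq] at h1
    obtain ⟨h0, hh⟩ := T.std'.acts (φ τ0) T.comm.symm
    obtain ⟨h2, h3⟩ := T.std'.odd_cases hh (by rw [h1]; norm_num)
    exact T.symm.kindA (k := ⟨h0, h2⟩) hh (Subtype.ext h3)
  have hk2 : k * k = 1 := T.std.inj (by rw [map_mul, map_one, ← hk, t_sq])
  have hconj : ∀ c : K, (φ' τ0 = φ c * φ a0 * (φ c)⁻¹ ∨ φ' τ0 = φ c * φ b0 * (φ c)⁻¹) → ∃ k : K, φ τ0 = φ' k := by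
    intro c hc
    have hc1 : (φ c)⁻¹ * φ τ0 = φ τ0 * (φ c)⁻¹ := by
      rw [← map_inv, t_comm]
    obtain ⟨l, hl⟩ := key (T.conj_right hc1) (by
      rw [conjHom_apply]
      rcases hc with hc | hc
      · left; rw [hc]; group
      · right; rw [hc]; group)
    refine ⟨l, ?_⟩
    rw [conjHom_apply, inv_inv] at hl
    calc φ τ0 = φ c * ((φ c)⁻¹ * φ τ0) := by group
      _ = φ c * (φ τ0 * (φ c)⁻¹) := by rw [hc1]
      _ = φ c * ((φ c)⁻¹ * φ' l * φ c * (φ c)⁻¹) := by rw [hl]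
      _ = φ' l := by group
  rcases cases_K hk2 with h3 | h3 | h3 | h3
  · exfalso
    rw [h3, map_one] at hk
    exact T.symm.t_ne hk
  · exfalso
    rw [h3] at hk
    exact T.ne hk
  · obtain ⟨c, hc⟩ := isConj_iff.1 h3
    exact hconj c (Or.inl (by rw [hk, ← hc, map_mul, map_mul, map_inv]))
  · obtain ⟨c, hc⟩ := isConj_iff.1 h3
    exact hconj c (Or.inr (by rw [hk, ← hc, map_mul, map_mul, map_inv]))

/-! ### type B -/

theorem pow_three' {H : Type*} [Group H] (g : H) : g ^ 3 = g * g * g := by rw [pow_succ, pow_two]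

/-- (B2) for an arbitrary element of `K` with square `τ`. -/
theorem B2' {k : K} (hk : k * k = τ0) : ∃ p q : K, p * k = k * p ∧ q * k = k * q ∧ p * p * p = 1 ∧ q * q * q = 1 ∧
    (p * q) * (p * q) = 1 ∧ p * q ≠ 1 := by
  obtain ⟨c, hc⟩ := isConj_iff.1 (isConj_x0 hk)
  obtain ⟨p, hp, q, hq, h1, h2, h3, h4, h5, h6, -⟩ := FactB.B2
  have e1 : (⟨p, hp⟩ : K) * x0 = x0 * ⟨p, hp⟩ := Subtype.ext h1
  have e2 : (⟨q, hq⟩ : K) * x0 = x0 * ⟨q, hq⟩ := Subtype.ext h2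
  have e3 : (⟨p, hp⟩ : K) * ⟨p, hp⟩ * ⟨p, hp⟩ = 1 := Subtype.ext (by rw [pow_three'] at h3; exact h3)
  have e4 : (⟨q, hq⟩ : K) * ⟨q, hq⟩ * ⟨q, hq⟩ = 1 := Subtype.ext (by rw [pow_three'] at h4; exact h4)
  have e5 : ((⟨p, hp⟩ : K) * ⟨q, hq⟩) * (⟨p, hp⟩ * ⟨q, hq⟩) = 1 := Subtype.ext (by rw [pow_two] at h5; exact h5)
  have e6 : (⟨p, hp⟩ : K) * ⟨q, hq⟩ ≠ 1 := fun h => h6 (congrArg Subtype.val h)
  generalize (⟨p, hp⟩ : K) = p' at *
  generalize (⟨q, hq⟩ : K) = q' at *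
  refine ⟨c * p' * c⁻¹, c * q' * c⁻¹, ?_, ?_, ?_, ?_, ?_, ?_⟩
  · rw [← hc]
    calc c * p' * c⁻¹ * (c * x0 * c⁻¹) = c * (p' * x0) * c⁻¹ := by group
      _ = c * (x0 * p') * c⁻¹ := by rw [e1]
      _ = _ := by group
  · rw [← hc]
    calc c * q' * c⁻¹ * (c * x0 * c⁻¹) = c * (q' * x0) * c⁻¹ := by group
      _ = c * (x0 * q') * c⁻¹ := by rw [e2]
      _ = _ := by group
  · calc _ = c * (p' * p' * p') * c⁻¹ := by group
      _ = 1 := by rw [e3]; group
  · calc _ = c * (q' * q' * q') * c⁻¹ := by group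
      _ = 1 := by rw [e4]; group
  · calc _ = c * ((p' * q') * (p' * q')) * c⁻¹ := by group
      _ = 1 := by rw [e5]; group
  · intro h
    apply e6
    calc p' * q' = c⁻¹ * (c * p' * c⁻¹ * (c * q' * c⁻¹)) * c := by group
      _ = 1 := by rw [h]; group

/-- An element commuting with `g` and acting: the actions commute modulo `τ`. -/
theorem acts_comm (hφ : Function.Injective φ) {g g' : G} {h h' : H0} (H : Acts φ g h) (H' : Acts φ g' h')
    (hc : g * g' = g' * g) : h * h' * h⁻¹ = h' ∨ h * h' * h⁻¹ = h' * τ := by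
  have h1 := (H.mul H').mul H.inv
  have h2 : g * g' * g⁻¹ = g' := by rw [hc]; group
  rw [h2] at h1
  exact Acts.unique hφ H' h1

/-- type B does not occur -/
theorem Two.not_B [Finite G] (T : Two φ φ') {k : K} (h : Acts φ (φ' τ0) k) : k * k ≠ τ0 := by
  intro hk
  have hk1 : k * k ≠ 1 := fun e => τ0_ne (hk.symm.trans e)
  -- `t'` is not in `L`
  have hL : ¬ ∃ l : K, φ' τ0 = φ l := by
    rintro ⟨l, hl⟩
    have hl2 : l * l = 1 := T.std.inj (by rw [map_mul, map_one, ← hl, t_sq])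
    have h1 : (k : H0) = l ∨ (k : H0) = l * τ := by
      refine Acts.unique T.std.inj ?_ h
      rw [hl]
      exact acts_of l
    rcases h1 with h1 | h1
    · have h2 : k = l := Subtype.ext h1
      rw [h2] at hk1
      exact hk1 hl2
    · have h2 : k = l * τ0 := Subtype.ext h1
      apply hk1
      calc k * k = l * (τ0 * l) * τ0 := by rw [h2]; group
        _ = l * (l * τ0) * τ0 := by rw [← τ0_comm l]
        _ = (l * l) * (τ0 * τ0) := by group
        _ = 1 := by rw [hl2, τ0_sq, one_mul]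
  have hL' : ¬ ∃ l : K, φ τ0 = φ' l := fun e => hL (T.symm.mem_symm e)
  set y : G := φ' τ0 * (φ k)⁻¹ with hy
  have e0 : φ' τ0 = y * φ k := by rw [hy]; group
  have hyc : Cen φ y := by
    have h1 := h.mul (acts_of (φ := φ) k).inv
    rw [mul_inv_cancel] at h1
    exact cen_of_acts h1 (Or.inl rfl)
  have e1 : y * y = φ τ0 := by
    have h1 : φ' τ0 * φ' τ0 = 1 := t_sq
    rw [e0] at h1
    have h2 : (φ k)⁻¹ * (φ k)⁻¹ = φ τ0 := by
      rw [← mul_inv_rev, ← map_mul, hk, ← map_inv]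
      congr 1
      exact inv_eq_of_mul_eq_one_left τ0_sq
    calc y * y = y * (y * φ k) * (φ k)⁻¹ := by group
      _ = y * (φ k * y) * (φ k)⁻¹ := by rw [hyc]
      _ = (y * φ k) * (y * φ k) * ((φ k)⁻¹ * (φ k)⁻¹) := by group
      _ = φ τ0 := by rw [h1, h2, one_mul]
  have e2 : y * φ' τ0 = φ' τ0 * y := by
    rw [e0, hyc k, ← mul_assoc, hyc k]
  -- the action of `y` on `L'`
  obtain ⟨v, hv⟩ := T.std'.acts y e2
  have hvv := hv.mul hv
  rw [e1] at hvv
  have hv4 : (v * v) * (v * v) = 1 ∨ (v * v) * (v * v) = τ :=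
    Acts.sq_cases T.std'.inj hvv (by rw [t_sq]; exact cen_one)
  rcases hv4 with hv4 | hv4
  · exact hL' (T.symm.kindA (k := ⟨v * v, sq_mem_K v⟩) hvv (Subtype.ext hv4))
  obtain ⟨p, q, hp, hq, hp3, hq3, hpq, hpq1⟩ := B2' hk
  have key : ∀ p : K, p * k = k * p → p * p * p = 1 → Cen φ' (φ p) := by
    intro p hp hp3
    have f1 : φ p * y = y * φ p := (hyc p).symm
    have f2 : φ p * φ' τ0 = φ' τ0 * φ p := by
      have f2' : φ p * φ k = φ k * φ p := by rw [← map_mul, hp, map_mul]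
      rw [e0]
      calc φ p * (y * φ k) = φ p * y * φ k := (mul_assoc _ _ _).symm
        _ = y * φ p * φ k := by rw [f1]
        _ = y * (φ p * φ k) := mul_assoc _ _ _
        _ = y * (φ k * φ p) := by rw [f2']
        _ = y * φ k * φ p := (mul_assoc _ _ _).symm
    obtain ⟨g, hg⟩ := T.std'.acts (φ p) f2
    obtain ⟨s, hs3, hs⟩ := acts_cube T.std'.inj hg (by rw [← map_mul, ← map_mul, hp3, map_one])
    have hs3' : (s : H0) * s * s = 1 := congrArg Subtype.val hs3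
    have f3 := comm_of_cube hs3' (acts_comm T.std'.inj hs hv f1)
    have f4 : v ^ 4 = τ := by
      rw [← hv4, show 4 = 2 * 2 by norm_num, pow_mul, pow_two, pow_two]
    have f5 := FactB.B1 f4 (by rw [pow_three']; exact hs3') f3
    exact cen_of_acts hs (Or.inl f5)
  have hpc := key p hp hp3
  have hqc := key q hq hq3
  have h6 : φ (p * q) = φ' τ0 := by
    refine T.symm.C1 (v := φ (p * q)) ?_ ?_ ?_ ?_
    · rw [map_mul]; exact hpc.mul hqc
    · rw [← map_mul, hpq, map_one]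
    · intro e
      exact hpq1 (T.std.inj (by rw [e, map_one]))
    · exact t_comm _
  exact hL ⟨p * q, h6.symm⟩

/-- An element `h` of `H0` outside `K` with `h ^ 2 ∈ ⟨τ⟩` is an involution, of the class of `z` or of `d`. -/
theorem outer_cases {h : H0} (hK : h ∉ K) (h2 : h * h = 1 ∨ h * h = τ) : h * h = 1 ∧ (IsConj gz h ∨ IsConj d h) := by
  rcases Syl.sq_cases (g := h) (by rw [pow_two]; exact h2) with e | e | e | e | e | e | e
  · exact absurd (by rw [e]; exact K.one_mem) hK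
  · exact absurd (by rw [e]; exact τ_mem_K) hK
  · exact absurd ((mem_K_of_isConj e).1 a0.2) hK
  · exact absurd ((mem_K_of_isConj e).1 aτ_mem_K) hK
  · exact absurd ((mem_K_of_isConj e).1 gx_mem) hK
  · obtain ⟨c, rfl⟩ := isConj_iff.1 e
    refine ⟨?_, Or.inl e⟩
    calc c * gz * c⁻¹ * (c * gz * c⁻¹) = c * (gz ^ 2) * c⁻¹ := by rw [pow_two]; group
      _ = 1 := by rw [z_sq']; group
  · obtain ⟨c, rfl⟩ := isConj_iff.1 e
    refine ⟨?_, Or.inr e⟩
    calc c * d * c⁻¹ * (c * d * c⁻¹) = c * (d ^ 2) * c⁻¹ := by rw [pow_two]; group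
      _ = 1 := by rw [d_sq']; group

/-- the kinds of pairs -/
theorem Two.kind [Finite G] (T : Two φ φ') : (∃ k : K, φ' τ0 = φ k) ∨
    ∃ h : H0, h ∉ K ∧ h * h = 1 ∧ (IsConj gz h ∨ IsConj d h) ∧ Acts φ (φ' τ0) h := by
  obtain ⟨h, hh⟩ := T.std.acts (φ' τ0) T.comm
  have h2 : h * h = 1 ∨ h * h = τ := Acts.sq_cases T.std.inj hh (by rw [t_sq]; exact cen_one)
  by_cases hK : h ∈ K
  · left
    rcases h2 with h2 | h2
    · exact T.kindA (k := ⟨h, hK⟩) hh (Subtype.ext h2)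
    · exact absurd (Subtype.ext h2) (T.not_B (k := ⟨h, hK⟩) hh)
  · right
    obtain ⟨h3, h4⟩ := outer_cases hK h2
    exact ⟨h, hK, h3, h4, hh⟩

/-- (P3) -/
theorem Two.P3 [Finite G] (T : Two φ φ') {y : G} (hyt : y * φ' τ0 = φ' τ0 * y) (hy2 : y * y = φ τ0) :
    (∃ k : K, φ τ0 = φ' k) ∧ ∃ k : K, φ' τ0 = φ k := by
  obtain ⟨v, hv⟩ := T.std'.acts y hyt
  have hvv := hv.mul hv
  rw [hy2] at hvv
  have h1 : ∃ k : K, φ τ0 = φ' k := by
    rcases T.symm.kind with h | ⟨h, hK, -, -, hh⟩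
    · exact h
    · exact absurd ((mem_K_of_eq (Acts.unique T.std'.inj hh hvv)).1 (sq_mem_K v)) hK
  exact ⟨h1, T.symm.mem_symm h1⟩

/-- (P9) -/
theorem Two.P9 [Finite G] (T : Two φ φ') (hout : ¬ ∃ k : K, φ' τ0 = φ k) {p q w : K} (hp : p * p * p = 1)
    (hq : q * q * q = 1) (hpt : φ p * φ' τ0 = φ' τ0 * φ p) (hqt : φ q * φ' τ0 = φ' τ0 * φ q)
    (hw : w = p * q * p⁻¹ * q⁻¹) (hw2 : w * w = 1) : ∃ l : K, φ w = φ' l := by
  -- decomposition of the elements of order 3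
  have key : ∀ p : K, p * p * p = 1 → φ p * φ' τ0 = φ' τ0 * φ p →
      ∃ (s : K) (c : G), φ p = c * φ' s ∧ Cen φ' c ∧ c * φ τ0 = φ τ0 * c := by
    intro p hp hpt
    obtain ⟨g, hg⟩ := T.std'.acts (φ p) hpt
    obtain ⟨s, hs3, hs⟩ := acts_cube T.std'.inj hg (by rw [← map_mul, ← map_mul, hp, map_one])
    have hs3' : (s : H0) * s * s = 1 := congrArg Subtype.val hs3
    obtain ⟨ht, hht⟩ := T.std'.acts (φ τ0) T.comm.symm
    have f3 := comm_of_cube hs3' (acts_comm T.std'.inj hs hht (t_comm p))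
    have f4 : φ τ0 * φ' s = φ' s * φ τ0 := (Acts.comm_iff T.std'.inj hht s).2 f3.symm
    refine ⟨s, φ p * (φ' s)⁻¹, by group, ?_, ?_⟩
    · have h1 := hs.mul (acts_of (φ := φ') s).inv
      rw [mul_inv_cancel] at h1
      exact cen_of_acts h1 (Or.inl rfl)
    · have h2 : (φ' s)⁻¹ * φ τ0 = φ τ0 * (φ' s)⁻¹ := by
        rw [inv_mul_eq_iff_eq_mul, ← mul_assoc, ← f4]; group
      rw [mul_assoc, h2, ← mul_assoc, t_comm, mul_assoc]
  obtain ⟨s, c, e1, e2, e3⟩ := key p hp hpt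
  obtain ⟨s', c', e1', e2', e3'⟩ := key q hq hqt
  set y : G := c * c' * c⁻¹ * c'⁻¹ with hy
  set l : K := s * s' * s⁻¹ * s'⁻¹ with hl
  have hyc : Cen φ' y := ((e2.mul e2').mul e2.inv).mul e2'.inv
  have hci : ∀ {c : G}, c * φ τ0 = φ τ0 * c → c⁻¹ * φ τ0 = φ τ0 * c⁻¹ := by
    intro c h
    rw [inv_mul_eq_iff_eq_mul, ← mul_assoc, h]; group
  have hyt : y * φ τ0 = φ τ0 * y := by
    rw [hy]
    calc c * c' * c⁻¹ * c'⁻¹ * φ τ0 = c * c' * c⁻¹ * (c'⁻¹ * φ τ0) := by group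
      _ = c * c' * (c⁻¹ * φ τ0) * c'⁻¹ := by rw [hci e3']; group
      _ = c * (c' * φ τ0) * c⁻¹ * c'⁻¹ := by rw [hci e3]; group
      _ = (c * φ τ0) * c' * c⁻¹ * c'⁻¹ := by rw [e3']; group
      _ = φ τ0 * (c * c' * c⁻¹ * c'⁻¹) := by rw [e3]; group
  have hwy : φ w = y * φ' l := by
    have h1 : ∀ (c : G) (s : K), Cen φ' c → (c * φ' s)⁻¹ = c⁻¹ * φ' s⁻¹ := by
      intro c s hc
      rw [mul_inv_rev, map_inv]
      have := hc.inv s⁻¹
      rw [map_inv] at this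
      exact this.symm
    rw [hw, map_mul, map_mul, map_mul, map_inv, map_inv, e1, e1', h1 c s e2, h1 c' s' e2', hy, hl]
    calc c * φ' s * (c' * φ' s') * (c⁻¹ * φ' s⁻¹) * (c'⁻¹ * φ' s'⁻¹)
        = c * (φ' s * c') * (φ' s' * c⁻¹) * (φ' s⁻¹ * c'⁻¹) * φ' s'⁻¹ := by group
      _ = c * (c' * φ' s) * (c⁻¹ * φ' s') * (c'⁻¹ * φ' s⁻¹) * φ' s'⁻¹ := by
          rw [e2' s, e2.inv s', e2'.inv s⁻¹]
      _ = c * c' * (φ' s * c⁻¹) * (φ' s' * c'⁻¹) * φ' s⁻¹ * φ' s'⁻¹ := by group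
      _ = c * c' * (c⁻¹ * φ' s) * (c'⁻¹ * φ' s') * φ' s⁻¹ * φ' s'⁻¹ := by rw [e2.inv s, e2'.inv s']
      _ = c * c' * c⁻¹ * (φ' s * c'⁻¹) * φ' s' * φ' s⁻¹ * φ' s'⁻¹ := by group
      _ = c * c' * c⁻¹ * (c'⁻¹ * φ' s) * φ' s' * φ' s⁻¹ * φ' s'⁻¹ := by rw [e2'.inv s]
      _ = c * c' * c⁻¹ * c'⁻¹ * φ' (s * s' * s⁻¹ * s'⁻¹) := by
          rw [map_mul, map_mul, map_mul]; group
  have hyy : y * y = φ' (l * l)⁻¹ := by
    have h1 : φ w * φ w = 1 := by rw [← map_mul, hw2, map_one]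
    rw [hwy] at h1
    have h2 : y * y * φ' (l * l) = 1 := by
      rw [map_mul, ← h1]
      calc y * y * (φ' l * φ' l) = y * (y * φ' l) * φ' l := by group
        _ = y * (φ' l * y) * φ' l := by rw [hyc]
        _ = y * φ' l * (y * φ' l) := by group
    rw [map_inv]
    exact eq_inv_of_mul_eq_one_left h2
  have hcen : ∀ k : K, k * (l * l)⁻¹ = (l * l)⁻¹ * k := by
    intro k
    apply T.std'.inj
    rw [map_mul, map_mul, ← hyy]
    exact ((hyc.mul hyc) k).symm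
  have hz : y * y = 1 ∨ y * y = φ' τ0 := by
    have h1 : ((l * l)⁻¹ : K) = 1 ∨ ((l * l)⁻¹ : K) = τ0 := by
      rcases eq_of_central (h := ((l * l)⁻¹ : K)) (fun k hk => (congrArg Subtype.val (hcen ⟨k, hk⟩)).symm) with e | e
      · exact Or.inl (Subtype.ext e)
      · exact Or.inr (Subtype.ext e)
    rcases h1 with e | e
    · left; rw [hyy, e, map_one]
    · right; rw [hyy, e]
  rcases hz with hz | hz
  · by_cases hy1 : y = 1
    · exact ⟨l, by rw [hwy, hy1, one_mul]⟩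
    · refine ⟨τ0 * l, ?_⟩
      rw [hwy, T.symm.C1 hyc hz hy1 hyt]
      exact (map_mul φ' τ0 l).symm
  · exact absurd (T.symm.P3 hyt hz).1 hout

/-- (F5) for all outer involutions. -/
theorem F5_of {h h' : H0} (hc : IsConj h h') (H : FactF5.F5 h) : ∃ p q k w : K, p * p * p = 1 ∧ q * q * q = 1 ∧
    h' * p = p * h' ∧ h' * q = q * h' ∧ w = p * q * p⁻¹ * q⁻¹ ∧ w * w = 1 ∧ w ≠ 1 ∧
    (k : H0) * h' * (k : H0)⁻¹ = h' * w := by
  obtain ⟨c, rfl⟩ := isConj_iff.1 hc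
  obtain ⟨p, hp, q, hq, k, hk, hp3, hq3, hph, hqh, w, hw, hwK, hw2, hw1, -, hkh⟩ := H
  refine ⟨conjK c ⟨p, hp⟩, conjK c ⟨q, hq⟩, conjK c ⟨k, hk⟩, conjK c ⟨w, hwK⟩, ?_, ?_, ?_, ?_, ?_, ?_, ?_, ?_⟩
  · rw [← map_mul, ← map_mul, show (⟨p, hp⟩ : K) * ⟨p, hp⟩ * ⟨p, hp⟩ = 1 from
      Subtype.ext (by rw [pow_three'] at hp3; exact hp3), map_one]
  · rw [← map_mul, ← map_mul, show (⟨q, hq⟩ : K) * ⟨q, hq⟩ * ⟨q, hq⟩ = 1 from
      Subtype.ext (by rw [pow_three'] at hq3; exact hq3), map_one]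
  · rw [coe_conjK]
    calc c * h * c⁻¹ * (c * p * c⁻¹) = c * (h * p) * c⁻¹ := by group
      _ = c * (p * h) * c⁻¹ := by rw [hph]
      _ = _ := by group
  · rw [coe_conjK]
    calc c * h * c⁻¹ * (c * q * c⁻¹) = c * (h * q) * c⁻¹ := by group
      _ = c * (q * h) * c⁻¹ := by rw [hqh]
      _ = _ := by group
  · rw [← map_inv, ← map_inv, ← map_mul, ← map_mul, ← map_mul]
    congr 1
    exact Subtype.ext hw
  · rw [← map_mul, show (⟨w, hwK⟩ : K) * ⟨w, hwK⟩ = 1 from Subtype.ext hw2, map_one]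
  · intro e
    apply hw1
    have e1 : c * w * c⁻¹ = 1 := congrArg Subtype.val e
    exact conj_eq_one_iff.1 e1
  · rw [coe_conjK, coe_conjK]
    calc c * k * c⁻¹ * (c * h * c⁻¹) * (c * k * c⁻¹)⁻¹ = c * (k * h * k⁻¹) * c⁻¹ := by group
      _ = c * (h * w) * c⁻¹ := by rw [hkh]
      _ = _ := by group

/-- From an arbitrary pair one gets a pair with `t' ∈ L`. -/
theorem Two.exists_inner [Finite G] (T : Two φ φ') :
    ∃ φ₁ φ₂ : K →* G, Two φ₁ φ₂ ∧ (∃ k : K, φ₂ τ0 = φ₁ k) ∧ ∃ g, φ₁ = conjHom φ g := by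
  by_cases hin : ∃ k : K, φ' τ0 = φ k
  · exact ⟨φ, φ', T, hin, 1, (conjHom_one φ).symm⟩
  rcases T.kind with h | ⟨h, hK, h2, hcl, hh⟩
  · exact absurd h hin
  obtain ⟨p, q, k, w, hp3, hq3, hph, hqh, hw, hw2, hw1, hkh⟩ : ∃ p q k w : K, p * p * p = 1 ∧ q * q * q = 1 ∧
      h * p = p * h ∧ h * q = q * h ∧ w = p * q * p⁻¹ * q⁻¹ ∧ w * w = 1 ∧ w ≠ 1 ∧
      (k : H0) * h * (k : H0)⁻¹ = h * w := by
    rcases hcl with hc | hc
    · exact F5_of hc FactF5.z
    · exact F5_of hc FactF5.d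
  have hpt := ((Acts.comm_iff T.std.inj hh p).2 hph).symm
  have hqt := ((Acts.comm_iff T.std.inj hh q).2 hqh).symm
  obtain ⟨l, hl⟩ := T.P9 hin hp3 hq3 hpt hqt hw hw2
  have hwh : h * (w : H0) = w * h := by
    rw [hw]
    have e1 : h * ((p : K) : H0)⁻¹ = (p : H0)⁻¹ * h := by
      rw [eq_inv_mul_iff_mul_eq, ← mul_assoc, ← hph]; group
    have e2 : h * ((q : K) : H0)⁻¹ = (q : H0)⁻¹ * h := by
      rw [eq_inv_mul_iff_mul_eq, ← mul_assoc, ← hqh]; group
    change h * ((p : H0) * q * (p : H0)⁻¹ * (q : H0)⁻¹) = (p : H0) * q * (p : H0)⁻¹ * (q : H0)⁻¹ * h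
    calc h * ((p : H0) * q * (p : H0)⁻¹ * (q : H0)⁻¹) = (h * p) * q * (p : H0)⁻¹ * (q : H0)⁻¹ := by group
      _ = p * (h * q) * (p : H0)⁻¹ * (q : H0)⁻¹ := by rw [hph]; group
      _ = p * q * (h * (p : H0)⁻¹) * (q : H0)⁻¹ := by rw [hqh]; group
      _ = p * q * (p : H0)⁻¹ * (h * (q : H0)⁻¹) := by rw [e1]; group
      _ = _ := by rw [e2]; group
  -- conjugating `t'` by `φ k`
  have e1 : φ k * φ' τ0 * (φ k)⁻¹ = φ' (l * τ0) := by
    have e2 : φ' τ0 * (φ k)⁻¹ * (φ' τ0)⁻¹ = φ (conjK h k⁻¹) := by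
      rw [← map_inv]; exact hh k⁻¹
    have e3 : k * conjK h k⁻¹ = w := by
      apply Subtype.ext
      change (k : H0) * (h * (k : H0)⁻¹ * h⁻¹) = w
      calc (k : H0) * (h * (k : H0)⁻¹ * h⁻¹) = (k * h * (k : H0)⁻¹) * h⁻¹ := by group
        _ = h * w * h⁻¹ := by rw [hkh]
        _ = w := by rw [hwh]; group
    calc φ k * φ' τ0 * (φ k)⁻¹ = φ k * (φ' τ0 * (φ k)⁻¹ * (φ' τ0)⁻¹) * φ' τ0 := by group
      _ = φ w * φ' τ0 := by rw [e2, ← map_mul, e3]
      _ = φ' (l * τ0) := by rw [hl, ← map_mul]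
  have hT : Two φ' (conjHom φ' (φ k)) :=
    { std := T.std'
      conj := ⟨φ k, rfl⟩
      ne := by
        rw [conjHom_apply, e1]
        intro e
        have e4 := T.std'.inj e
        have e5 : l = 1 := mul_eq_right.1 e4
        rw [e5, map_one] at hl
        exact hw1 (T.std.inj (by rw [hl, map_one]))
      comm := by
        rw [conjHom_apply, e1, ← map_mul, ← map_mul, ← τ0_comm] }
  obtain ⟨g, hg⟩ := T.conj
  refine ⟨φ', conjHom φ' (φ k), hT, ⟨l * τ0, ?_⟩, g, hg⟩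
  rw [conjHom_apply, e1]

/-- (Step 3) there is a conjugate `t'` of `t` with `t' = φ a` or `t' = φ b`. -/
theorem Std.exists_a [Finite G] (S : Std φ)
    (hex : ∃ g, g * φ τ0 * g⁻¹ ≠ φ τ0 ∧ g * φ τ0 * g⁻¹ * φ τ0 = φ τ0 * (g * φ τ0 * g⁻¹)) :
    ∃ φ' : K →* G, Two φ φ' ∧ (φ' τ0 = φ a0 ∨ φ' τ0 = φ b0) := by
  obtain ⟨g, hg, hgc⟩ := hex
  have T : Two φ (conjHom φ g) := ⟨S, ⟨g, rfl⟩, hg, hgc⟩
  obtain ⟨φ₁, φ₂, T₁, ⟨k, hk⟩, c, rfl⟩ := T.exists_inner
  -- back to `φ`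
  have T₂ := T₁.conj_both c⁻¹
  rw [conjHom_conjHom, inv_mul_cancel, conjHom_one] at T₂
  have hk' : conjHom φ₂ c⁻¹ τ0 = φ k := by
    rw [conjHom_apply, hk, conjHom_apply]; group
  generalize conjHom φ₂ c⁻¹ = φ₃ at T₂ hk'
  have hk2 : k * k = 1 := S.inj (by rw [map_mul, map_one, ← hk', t_sq])
  have hcomm : ∀ c : K, (φ c)⁻¹ * φ τ0 = φ τ0 * (φ c)⁻¹ := fun c => by rw [← map_inv, t_comm]
  rcases cases_K hk2 with h3 | h3 | h3 | h3
  · exfalso
    rw [h3, map_one] at hk'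
    exact T₂.symm.t_ne hk'
  · exfalso
    rw [h3] at hk'
    exact T₂.ne hk'
  · obtain ⟨c, hc⟩ := isConj_iff.1 h3
    refine ⟨_, T₂.conj_right (hcomm c), Or.inl ?_⟩
    rw [conjHom_apply, hk', ← hc, map_mul, map_mul, map_inv]; group
  · obtain ⟨c, hc⟩ := isConj_iff.1 h3
    refine ⟨_, T₂.conj_right (hcomm c), Or.inr ?_⟩
    rw [conjHom_apply, hk', ← hc, map_mul, map_mul, map_inv]; group

end Cfsg.Agent.StandardComponent.HS.PairA
end

-- part: HN/FactF5a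
section
set_option autoImplicit false

/-!
Fact F5a on `H0 = 2.HS.2` (for S1752): for `h = z` and `h = d` there are elements `p₁, p₂` of order 3 of `C_K(h)` whose
commutator `w` is an involution of type `a`.
-/

namespace Cfsg.Agent.HN.FactF5a

open Cfsg.Agent.HN.Pres Cfsg.Agent.HN.HS100 Cfsg.Agent.HN.P1408 Cfsg.Agent.HN.H0Basic
open Cfsg.Agent.HN.Syl Cfsg.Agent.HN.Classes Cfsg.Agent.HN.FactF5
open Cfsg.Agent.SporadicA.PermTab

/-- The statement for an element `h`. -/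
def F5a (h : H0) : Prop :=
  ∃ p₁ ∈ K, ∃ p₂ ∈ K, p₁ ^ 3 = 1 ∧ p₂ ^ 3 = 1 ∧ p₁ * h = h * p₁ ∧ p₂ * h = h * p₂ ∧
    ∃ w : H0, w = p₁ * p₂ * p₁⁻¹ * p₂⁻¹ ∧ w ∈ K ∧ w * w = 1 ∧ w ≠ 1 ∧ w ≠ τ ∧ IsConj a w

/-- the test -/
def chk (v p q k : List ℕ) : Bool :=
  band (inK p) (band (inK q) (band (eqw (p ++ (p ++ p)) []) (band (eqw (q ++ (q ++ q)) [])
    (band (eqw (p ++ v) (v ++ p)) (band (eqw (q ++ v) (v ++ q))
    (band (inK (p ++ (q ++ (iw p ++ iw q))))
    (eqw (k ++ ([2, 2, 2] ++ iw k)) (p ++ (q ++ (iw p ++ iw q))))))))))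

theorem F5a_of_chk {v p q k : List ℕ} (h : chk v p q k = true) : F5a (hw v) := by
  unfold chk at h
  simp only [band_eq_true] at h
  obtain ⟨h1, h2, h4, h5, h6, h7, h9, h13⟩ := h
  have hw' : hw (p ++ (q ++ (iw p ++ iw q))) = hw p * hw q * (hw p)⁻¹ * (hw q)⁻¹ := by
    rw [hw_append, hw_append, hw_append, hw_iw, hw_iw]; group
  have hc : hw k * a * (hw k)⁻¹ = hw (p ++ (q ++ (iw p ++ iw q))) := by
    have := hw_eq h13
    rw [hw_append k, hw_append [2, 2, 2], hw_iw, hw_a] at this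
    rw [mul_assoc]
    exact this
  have haa : a * a = 1 := by
    rw [← hw_a, ← hw_append, ← hw_nil]
    exact hw_eq (by decide +kernel)
  refine ⟨hw p, mem_K_of_inK h1, hw q, mem_K_of_inK h2, ?_, ?_, ?_, ?_,
    hw (p ++ (q ++ (iw p ++ iw q))), hw', mem_K_of_inK h9, ?_, ?_, ?_, isConj_iff.2 ⟨hw k, hc⟩⟩
  · have := hw_eq h4
    rw [hw_append, hw_append, hw_nil] at this
    rw [pow_succ, pow_two, mul_assoc]
    exact this
  · have := hw_eq h5
    rw [hw_append, hw_append, hw_nil] at this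
    rw [pow_succ, pow_two, mul_assoc]
    exact this
  · have := hw_eq h6
    rwa [hw_append, hw_append] at this
  · have := hw_eq h7
    rwa [hw_append, hw_append] at this
  · rw [← hc]
    calc hw k * a * (hw k)⁻¹ * (hw k * a * (hw k)⁻¹) = hw k * (a * a) * (hw k)⁻¹ := by group
      _ = 1 := by rw [haa]; group
  · rw [← hc]
    intro h
    apply a_ne_one
    calc a = (hw k)⁻¹ * (hw k * a * (hw k)⁻¹) * hw k := by group
      _ = 1 := by rw [h]; group
  · rw [← hc]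
    intro h
    apply a_ne_τ
    calc a = (hw k)⁻¹ * (hw k * a * (hw k)⁻¹) * hw k := by group
      _ = (hw k)⁻¹ * (τ * hw k) := by rw [h]; group
      _ = (hw k)⁻¹ * (hw k * τ) := by rw [τ_comm]
      _ = τ := by group

theorem chk_z : chk [4] [3, 0, 3, 1, 2, 2, 1, 3, 3, 1, 3, 1, 3, 1, 3]
    [4, 3, 3, 4, 3, 3, 4, 3, 3, 4, 3, 3] [3, 0, 3, 0, 3, 0, 2, 2, 0] = true := by decide +kernel

theorem chk_d : chk [1, 3, 1, 2, 1, 4, 3, 4, 2, 4] [3, 0, 2, 1]
    [4, 3, 4, 2] [3, 3, 3, 0, 2, 2, 2, 4, 3, 3, 0, 3, 4, 3, 4, 3, 3, 4] = true := by decide +kernel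

theorem z : F5a gz := by
  have h := F5a_of_chk chk_z
  rwa [hw_z] at h

theorem d : F5a Syl.d := F5a_of_chk chk_d

end Cfsg.Agent.HN.FactF5a
end

-- part: HN/FactF5b
section
set_option autoImplicit false

/-!
Fact F5b on `H0 = 2.HS.2` (for S1752): for `h = z` and `h = d` there are elements `p₁, p₂` of order 3 of `C_K(h)` whose
commutator `w` is an involution of type `b = a τ`.
-/

namespace Cfsg.Agent.HN.FactF5b

open Cfsg.Agent.HN.Pres Cfsg.Agent.HN.HS100 Cfsg.Agent.HN.P1408 Cfsg.Agent.HN.H0Basic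
open Cfsg.Agent.HN.Syl Cfsg.Agent.HN.Classes Cfsg.Agent.HN.FactF5
open Cfsg.Agent.SporadicA.PermTab

/-- The statement for an element `h`. -/
def F5b (h : H0) : Prop :=
  ∃ p₁ ∈ K, ∃ p₂ ∈ K, p₁ ^ 3 = 1 ∧ p₂ ^ 3 = 1 ∧ p₁ * h = h * p₁ ∧ p₂ * h = h * p₂ ∧
    ∃ w : H0, w = p₁ * p₂ * p₁⁻¹ * p₂⁻¹ ∧ w ∈ K ∧ w * w = 1 ∧ w ≠ 1 ∧ w ≠ τ ∧ IsConj (a * τ) w

theorem hw_b : hw [2, 2, 2, 0, 0] = a * τ := by
  rw [show ([2, 2, 2, 0, 0] : List ℕ) = [2, 2, 2] ++ [0, 0] from rfl, hw_append, hw_a, hw_τ]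

/-- the test -/
def chk (v p q k : List ℕ) : Bool :=
  band (inK p) (band (inK q) (band (eqw (p ++ (p ++ p)) []) (band (eqw (q ++ (q ++ q)) [])
    (band (eqw (p ++ v) (v ++ p)) (band (eqw (q ++ v) (v ++ q))
    (band (inK (p ++ (q ++ (iw p ++ iw q))))
    (eqw (k ++ ([2, 2, 2, 0, 0] ++ iw k)) (p ++ (q ++ (iw p ++ iw q))))))))))

theorem F5b_of_chk {v p q k : List ℕ} (h : chk v p q k = true) : F5b (hw v) := by
  unfold chk at h
  simp only [band_eq_true] at h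
  obtain ⟨h1, h2, h4, h5, h6, h7, h9, h13⟩ := h
  have hw' : hw (p ++ (q ++ (iw p ++ iw q))) = hw p * hw q * (hw p)⁻¹ * (hw q)⁻¹ := by
    rw [hw_append, hw_append, hw_append, hw_iw, hw_iw]; group
  have hc : hw k * (a * τ) * (hw k)⁻¹ = hw (p ++ (q ++ (iw p ++ iw q))) := by
    have := hw_eq h13
    rw [hw_append k, hw_append [2, 2, 2, 0, 0], hw_iw, hw_b] at this
    rw [mul_assoc]
    exact this
  have haa : a * τ * (a * τ) = 1 := by
    rw [← hw_b, ← hw_append, ← hw_nil]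
    exact hw_eq (by decide +kernel)
  refine ⟨hw p, mem_K_of_inK h1, hw q, mem_K_of_inK h2, ?_, ?_, ?_, ?_,
    hw (p ++ (q ++ (iw p ++ iw q))), hw', mem_K_of_inK h9, ?_, ?_, ?_, isConj_iff.2 ⟨hw k, hc⟩⟩
  · have := hw_eq h4
    rw [hw_append, hw_append, hw_nil] at this
    rw [pow_succ, pow_two, mul_assoc]
    exact this
  · have := hw_eq h5
    rw [hw_append, hw_append, hw_nil] at this
    rw [pow_succ, pow_two, mul_assoc]
    exact this
  · have := hw_eq h6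
    rwa [hw_append, hw_append] at this
  · have := hw_eq h7
    rwa [hw_append, hw_append] at this
  · rw [← hc]
    calc hw k * (a * τ) * (hw k)⁻¹ * (hw k * (a * τ) * (hw k)⁻¹) = hw k * (a * τ * (a * τ)) * (hw k)⁻¹ := by group
      _ = 1 := by rw [haa]; group
  · rw [← hc]
    intro h
    apply a_ne_τ
    have h1 : a * τ = 1 := by
      calc a * τ = (hw k)⁻¹ * (hw k * (a * τ) * (hw k)⁻¹) * hw k := by group
        _ = 1 := by rw [h]; group
    rw [eq_inv_of_mul_eq_one_left h1, τ_inv]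
  · rw [← hc]
    intro h
    apply a_ne_one
    have h1 : a * τ = τ := by
      calc a * τ = (hw k)⁻¹ * (hw k * (a * τ) * (hw k)⁻¹) * hw k := by group
        _ = (hw k)⁻¹ * (τ * hw k) := by rw [h]; group
        _ = (hw k)⁻¹ * (hw k * τ) := by rw [τ_comm]
        _ = τ := by group
    exact mul_eq_right.1 h1

theorem chk_z : chk [4] [2, 1, 2, 2, 1, 3, 1, 2, 2, 1, 3, 3]
    [3, 4, 2, 4, 2, 2, 4, 3, 3, 3, 4, 3, 3, 3] [3, 0, 2, 2, 2, 0, 3, 3, 4] = true := by decide +kernel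

theorem chk_d : chk [1, 3, 1, 2, 1, 4, 3, 4, 2, 4] [4, 1, 3, 4, 2, 1]
    [4, 3, 4, 3, 4, 2, 4, 1, 3, 1, 2, 2] [3, 0, 3, 3, 0, 3, 1, 2, 2, 2, 4] = true := by decide +kernel

theorem z : F5b gz := by
  have h := F5b_of_chk chk_z
  rwa [hw_z] at h

theorem d : F5b Syl.d := F5b_of_chk chk_d

end Cfsg.Agent.HN.FactF5b
end

-- part: StandardComponent/HS/PairC
section
set_option autoImplicit false

/-!
S1752: a function of the embedding `φ` which is constant on the pairs with `t' ∈ L` is constant on all pairs.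
-/

namespace Cfsg.Agent.StandardComponent.HS.PairA

open Cfsg.Agent.HN.Pres Cfsg.Agent.HN.HS100 Cfsg.Agent.HN.P1408 Cfsg.Agent.HN.H0Basic
open Cfsg.Agent.HN.Syl Cfsg.Agent.HN.Classes Cfsg.Agent.HN.FusGen Cfsg.Agent.HN.FusOne
open Cfsg.Agent.HN.FusK0
open Cfsg.Agent.StandardComponent.HS.FourK0 Cfsg.Agent.StandardComponent.HS.Four
open Cfsg.Agent.StandardComponent.HS.FourOuter
open Cfsg.Agent.HN
open Subgroup

variable {G : Type*} [Group G] {φ φ' : K →* G}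

/-- two elements of order 3 of `C_K(h)` with commutator an involution conjugate to `e` -/
def F5e (e h : H0) : Prop :=
  ∃ p₁ ∈ K, ∃ p₂ ∈ K, p₁ ^ 3 = 1 ∧ p₂ ^ 3 = 1 ∧ p₁ * h = h * p₁ ∧ p₂ * h = h * p₂ ∧
    ∃ w : H0, w = p₁ * p₂ * p₁⁻¹ * p₂⁻¹ ∧ w ∈ K ∧ w * w = 1 ∧ w ≠ 1 ∧ w ≠ τ ∧ IsConj e w

theorem F5e.conj {e h h' : H0} (hc : IsConj h h') (H : F5e e h) : ∃ p q w : K, p * p * p = 1 ∧ q * q * q = 1 ∧
    h' * p = p * h' ∧ h' * q = q * h' ∧ w = p * q * p⁻¹ * q⁻¹ ∧ w * w = 1 ∧ w ≠ τ0 ∧ IsConj e w := by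
  obtain ⟨c, rfl⟩ := isConj_iff.1 hc
  obtain ⟨p, hp, q, hq, hp3, hq3, hph, hqh, w, hw, hwK, hw2, hw1, hwt, hew⟩ := H
  refine ⟨conjK c ⟨p, hp⟩, conjK c ⟨q, hq⟩, conjK c ⟨w, hwK⟩, ?_, ?_, ?_, ?_, ?_, ?_, ?_, ?_⟩
  · rw [← map_mul, ← map_mul, show (⟨p, hp⟩ : K) * ⟨p, hp⟩ * ⟨p, hp⟩ = 1 from
      Subtype.ext (by rw [pow_three'] at hp3; exact hp3), map_one]
  · rw [← map_mul, ← map_mul, show (⟨q, hq⟩ : K) * ⟨q, hq⟩ * ⟨q, hq⟩ = 1 from
      Subtype.ext (by rw [pow_three'] at hq3; exact hq3), map_one]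
  · rw [coe_conjK]
    calc c * h * c⁻¹ * (c * p * c⁻¹) = c * (h * p) * c⁻¹ := by group
      _ = c * (p * h) * c⁻¹ := by rw [hph]
      _ = _ := by group
  · rw [coe_conjK]
    calc c * h * c⁻¹ * (c * q * c⁻¹) = c * (h * q) * c⁻¹ := by group
      _ = c * (q * h) * c⁻¹ := by rw [hqh]
      _ = _ := by group
  · rw [← map_inv, ← map_inv, ← map_mul, ← map_mul, ← map_mul]
    congr 1
    exact Subtype.ext hw
  · rw [← map_mul, show (⟨w, hwK⟩ : K) * ⟨w, hwK⟩ = 1 from Subtype.ext hw2, map_one]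
  · intro e1
    apply hwt
    have e2 : c * w * c⁻¹ = τ := congrArg Subtype.val e1
    calc w = c⁻¹ * (c * w * c⁻¹) * c := by group
      _ = c⁻¹ * (τ * c) := by rw [e2]; group
      _ = c⁻¹ * (c * τ) := by rw [← τ_comm c]
      _ = τ := by group
  · rw [coe_conjK]
    exact hew.trans (isConj_iff.2 ⟨c, rfl⟩)

/-- reduction of the outer pairs to the inner pairs -/
theorem Two.const_of [Finite G] {β : Type*} (f : (K →* G) → β)
    (hf : ∀ φ₁ φ₂, Two φ₁ φ₂ → (∃ k, φ₂ τ0 = φ₁ k) → f φ₁ = f φ₂) (T : Two φ φ') {e : K}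
    (he : ∀ k : K, IsConj (e : H0) k → IsConj (φ τ0) (φ k)) (hz : F5e e gz) (hd : F5e e d) : f φ = f φ' := by
  by_cases hin : ∃ k : K, φ' τ0 = φ k
  · exact hf _ _ T hin
  rcases T.kind with h | ⟨h, hK, h2, hcl, hh⟩
  · exact absurd h hin
  obtain ⟨p, q, w, hp3, hq3, hph, hqh, hw, hw2, hwt, hew⟩ : ∃ p q w : K, p * p * p = 1 ∧ q * q * q = 1 ∧
      h * p = p * h ∧ h * q = q * h ∧ w = p * q * p⁻¹ * q⁻¹ ∧ w * w = 1 ∧ w ≠ τ0 ∧ IsConj (e : H0) w := by
    rcases hcl with hc | hc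
    · exact hz.conj hc
    · exact hd.conj hc
  have hpt := ((Acts.comm_iff T.std.inj hh p).2 hph).symm
  have hqt := ((Acts.comm_iff T.std.inj hh q).2 hqh).symm
  obtain ⟨l, hl⟩ := T.P9 hin hp3 hq3 hpt hqt hw hw2
  obtain ⟨c, hc⟩ := isConj_iff.1 (he w hew)
  have e1 : φ w ≠ φ τ0 := fun e1 => hwt (T.std.inj e1)
  have T₁ : Two φ (conjHom φ c) :=
    { std := T.std
      conj := ⟨c, rfl⟩
      ne := by rw [conjHom_apply, hc]; exact e1
      comm := by rw [conjHom_apply, hc, t_comm] }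
  obtain ⟨g, hg⟩ := T.conj
  have T₂ : Two φ' (conjHom φ c) :=
    { std := T.std'
      conj := ⟨c * g⁻¹, by rw [hg, conjHom_conjHom]; congr 1; group⟩
      ne := by
        rw [conjHom_apply, hc]
        exact fun e2 => hin ⟨w, e2.symm⟩
      comm := by rw [conjHom_apply, hc, hl, t_comm] }
  rw [hf _ _ T₁ ⟨w, by rw [conjHom_apply, hc]⟩, hf _ _ T₂ ⟨l, by rw [conjHom_apply, hc, hl]⟩]

/-- A function of the embedding which is constant on the pairs with `t' ∈ L` is constant on all pairs. -/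
theorem Two.const [Finite G] {β : Type*} (f : (K →* G) → β)
    (hf : ∀ φ₁ φ₂, Two φ₁ φ₂ → (∃ k, φ₂ τ0 = φ₁ k) → f φ₁ = f φ₂) (T : Two φ φ') : f φ = f φ' := by
  obtain ⟨g, hg⟩ := T.conj
  have hgt : φ' τ0 = g * φ τ0 * g⁻¹ := by rw [hg, conjHom_apply]
  obtain ⟨φ'', ⟨-, ⟨c, rfl⟩, -, -⟩, h⟩ := T.std.exists_a ⟨g, by rw [← hgt]; exact T.ne, by rw [← hgt]; exact T.comm⟩
  rw [conjHom_apply] at h
  rcases h with h | h
  · refine T.const_of f hf (e := a0) (fun k hk => ?_) FactF5a.z FactF5a.d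
    exact (isConj_iff.2 ⟨c, h⟩ : IsConj (φ τ0) (φ a0)).trans (φ.map_isConj (isConj_of (g := a0) s8_a hk))
  · refine T.const_of f hf (e := b0) (fun k hk => ?_) FactF5b.z FactF5b.d
    exact (isConj_iff.2 ⟨c, h⟩ : IsConj (φ τ0) (φ b0)).trans (φ.map_isConj (isConj_of (g := b0) s8_aτ hk))

end Cfsg.Agent.StandardComponent.HS.PairA
end

-- part: StandardComponent/HS/PairD
section
set_option autoImplicit false

/-!
S1752: the odd part `W` of `C(L)` is normalised by every `g` such that `t` and its conjugate by `g` commute, if it is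
the same for the pairs with `t' ∈ L`.
-/

namespace Cfsg.Agent.StandardComponent.HS.PairA

open Cfsg.Agent.HN.Pres Cfsg.Agent.HN.HS100 Cfsg.Agent.HN.P1408 Cfsg.Agent.HN.H0Basic
open Cfsg.Agent.HN.FusK0
open Cfsg.Agent.StandardComponent.HS.FourK0 Cfsg.Agent.StandardComponent.HS.Four
open Cfsg.Agent.StandardComponent.HS.FourOuter
open Cfsg.Agent.HN
open Subgroup

variable {G : Type*} [Group G] {φ φ' : K →* G}

/-- the elements of odd order centralising `φ K` -/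
def Wset (φ : K →* G) : Set G := {w | Cen φ w ∧ Odd (orderOf w)}

theorem mem_Wset {w : G} : w ∈ Wset φ ↔ Cen φ w ∧ Odd (orderOf w) := Iff.rfl

theorem orderOf_conj (g w : G) : orderOf (g * w * g⁻¹) = orderOf w := by
  have := orderOf_injective (MulAut.conj g).toMonoidHom (MulAut.conj g).injective w
  simpa using this

theorem mem_Wset_conjHom {g w : G} : g * w * g⁻¹ ∈ Wset (conjHom φ g) ↔ w ∈ Wset φ := by
  rw [mem_Wset, mem_Wset, cen_conjHom, orderOf_conj]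
  have h1 : g⁻¹ * (g * w * g⁻¹) * g = w := by group
  rw [h1]

/-- the elements of `C(t)` normalise `C(L)`. -/
theorem Std.cen_conj (S : Std φ) {g v : G} (hg : g * φ τ0 = φ τ0 * g) (hv : Cen φ v) : Cen φ (g * v * g⁻¹) := by
  obtain ⟨h, hh⟩ := S.acts g hg
  have h1 := (hh.mul (acts_one hv)).mul hh.inv
  refine cen_of_acts h1 (Or.inl ?_)
  rw [mul_one, mul_inv_cancel]

theorem Std.nrm_of [Finite G] (S : Std φ)
    (hf : ∀ φ₁ φ₂ : K →* G, Two φ₁ φ₂ → (∃ k, φ₂ τ0 = φ₁ k) → Wset φ₁ = Wset φ₂) (g : G)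
    (hg : Commute (φ τ0) (g * φ τ0 * g⁻¹)) {w : G} (hw : w ∈ Wset φ) : g * w * g⁻¹ ∈ Wset φ := by
  by_cases h1 : g * φ τ0 * g⁻¹ = φ τ0
  · exact ⟨S.cen_conj (mul_inv_eq_iff_eq_mul.1 h1) hw.1, by rw [orderOf_conj]; exact hw.2⟩
  · have T : Two φ (conjHom φ g) := ⟨S, ⟨g, rfl⟩, h1, hg.symm⟩
    have h2 := (mem_Wset_conjHom (g := g)).2 hw
    rwa [← T.const Wset hf] at h2

/-- It is enough to show one inclusion of sets. -/
theorem Wset_eq_of {φ₁ φ₂ : K →* G} (T : Two φ₁ φ₂) [Finite G] (hk : ∃ k, φ₂ τ0 = φ₁ k)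
    (H : ∀ φ₁ φ₂ : K →* G, Two φ₁ φ₂ → (∃ k, φ₂ τ0 = φ₁ k) → (∃ k, φ₁ τ0 = φ₂ k) → ∀ w ∈ Wset φ₁, Cen φ₂ w) :
    Wset φ₁ = Wset φ₂ := by
  have hk' := T.mem_symm hk
  apply Set.Subset.antisymm
  · exact fun w hw => ⟨H _ _ T hk hk' w hw, hw.2⟩
  · exact fun w hw => ⟨H _ _ T.symm hk' hk w hw, hw.2⟩

/-- `nrm` from the statement that the odd elements of `C(L)` centralise `L'`, for the pairs with `t' ∈ L`, `t ∈ L'`. -/
theorem Std.nrm [Finite G] (S : Std φ)
    (H : ∀ φ₁ φ₂ : K →* G, Two φ₁ φ₂ → (∃ k, φ₂ τ0 = φ₁ k) → (∃ k, φ₁ τ0 = φ₂ k) → ∀ w ∈ Wset φ₁, Cen φ₂ w) (g : G)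
    (hg : Commute (φ τ0) (g * φ τ0 * g⁻¹)) {w : G} (hw : w ∈ Wset φ) : g * w * g⁻¹ ∈ Wset φ :=
  S.nrm_of (fun _ _ T hk => Wset_eq_of T hk H) g hg hw

end Cfsg.Agent.StandardComponent.HS.PairA
end
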