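import Cfsg.Agent.StandardComponent.HS.FinalTwo
import Cfsg.Agent.StandardComponent.HS.PairF
import Cfsg.Agent.StandardComponent.HS.FourFalse
import Cfsg.Agent.StandardComponent.HS.StdPhi
set_option linter.all false

set_option autoImplicit false

/-!
S1752: the final assembly.
-/

namespace Cfsg.Agent.StandardComponent.HS.Final

open Cfsg.Agent.HN.Pres Cfsg.Agent.HN.HS100 Cfsg.Agent.HN.H0Basic
open Cfsg.Agent.HN.Syl Cfsg.Agent.HN.Classes Cfsg.Agent.HN.FusOne Cfsg.Agent.HN.FusK0
open Cfsg.Agent.StandardComponent.HS.FourK0 Cfsg.Agent.StandardComponent.HS.Four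
open Cfsg.Agent.StandardComponent.HS.PairA
open Subgroup

universe u

variable {G : Type u} [Group G] {φ : K →* G}

theorem ctx_of (S : Std φ) : HS.Ctx φ where
  inj := S.inj
  act := S.acts
  tight := by
    intro g v hv1 hv2 hv hv'
    by_contra hg
    have h1 := S.tight g hg (Subgroup.zpowers v) ?_ ?_
    · rw [Nat.card_zpowers, orderOf_eq_prime (by rw [pow_two, hv2]) hv1] at h1
      exact absurd h1 (by decide)
    · rintro x ⟨n, rfl⟩ k
      exact ((show Commute v (φ k) from hv k).zpow_left n)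
    · rintro x ⟨n, rfl⟩ k
      exact ((show Commute v (g * φ k * g⁻¹) from hv' k).zpow_left n)

theorem x0_ne : x0 ≠ 1 ∧ x0 ≠ τ0 := by
  constructor
  · intro h
    have h1 := x0_sq
    rw [h, one_mul] at h1
    exact FourOuter.τ0_ne h1.symm
  · intro h
    have h1 := x0_sq
    rw [h, FourOuter.τ0_sq] at h1
    exact FourOuter.τ0_ne h1.symm

/-- type B is impossible -/
theorem hx_of [Finite G] (S : Std φ) (s : G) (hs : PairA.Cen φ s) : ¬ IsConj (φ τ0) (s * φ x0) := by
  intro hc
  obtain ⟨g, hg⟩ := isConj_iff.1 hc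
  have hst : s * φ τ0 = φ τ0 * s := hs τ0
  have hact : FourOuter.Acts φ (s * φ x0) x0 := by
    have h1 := (acts_one hs).mul (FourOuter.acts_of (φ := φ) x0)
    rwa [one_mul] at h1
  have hne : s * φ x0 ≠ φ τ0 := by
    intro e
    have h1 : FourOuter.Acts φ (φ τ0) (x0 : K) := by rw [← e]; exact hact
    rcases FourOuter.Acts.unique S.inj (FourOuter.acts_of τ0) h1 with h2 | h2
    · exact x0_ne.2 (Subtype.ext h2)
    · apply x0_ne.1
      apply Subtype.ext
      rw [h2]
      exact τ_mul_τ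
  have T : Two φ (conjHom φ g) :=
    { std := S
      conj := ⟨g, rfl⟩
      ne := by rw [conjHom_apply, hg]; exact hne
      comm := by
        rw [conjHom_apply, hg, mul_assoc, FourOuter.t_comm, ← mul_assoc, hst, mul_assoc] }
  refine T.not_B (k := x0) ?_ x0_sq
  rw [conjHom_apply, hg]
  exact hact

/-- If `C(L)` has an element of order 4 then `b` is not fused to `t`. -/
theorem hb_of [Finite G] (S : Std φ) {r : G} (hr : PairA.Cen φ r) (hr2 : r * r = φ τ0) : ¬ IsConj (φ τ0) (φ b0) := by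
  intro hc
  obtain ⟨g, hg⟩ := isConj_iff.1 hc
  have hb : b0 ≠ τ0 := fun h => aτ_ne_τ (congrArg Subtype.val h)
  have T : Two φ (conjHom φ g) :=
    { std := S
      conj := ⟨g, rfl⟩
      ne := by rw [conjHom_apply, hg]; exact fun h => hb (S.inj h)
      comm := by rw [conjHom_apply, hg, FourOuter.t_comm] }
  have P : AP (conjHom φ g) φ b0 :=
    { two := T.symm
      he := Or.inr rfl
      ht := by rw [conjHom_apply, hg]
      ht' := T.mem_symm ⟨b0, by rw [conjHom_apply, hg]⟩ }
  have hr' : PairA.Cen (conjHom φ g) (g * r * g⁻¹) := by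
    rw [cen_conjHom]
    have h1 : g⁻¹ * (g * r * g⁻¹) * g = r := by group
    rw [h1]
    exact hr
  have hr2' : g * r * g⁻¹ * (g * r * g⁻¹) = conjHom φ g τ0 := by
    rw [conjHom_apply, ← hr2]; group
  obtain ⟨h, hh⟩ := P.two.std'.acts _ (P.comm_t' hr')
  have h1 : (b0 : H0) = a := (P.acts_four hr' hr2' hh).2
  have h2 : a * τ = a := h1
  exact τ_ne_one (mul_eq_left.1 h2)

/-- **The main theorem.** -/
theorem iso_of_std [Finite G] [IsSimpleGroup G] (hG : ¬ IsMulCommutative G) (S : Std φ)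
    (hex : ∃ g, g * φ τ0 * g⁻¹ ≠ φ τ0 ∧ g * φ τ0 * g⁻¹ * φ τ0 = φ τ0 * (g * φ τ0 * g⁻¹)) :
    Cfsg.Spor.IsoHN G := by
  obtain ⟨φ', T, h⟩ := S.exists_a hex
  obtain ⟨e, he, hte⟩ : ∃ e : K, ((e : H0) = a ∨ (e : H0) = a * τ) ∧ φ' τ0 = φ e := by
    rcases h with h | h
    · exact ⟨a0, Or.inl rfl, h⟩
    · exact ⟨b0, Or.inr rfl, h⟩
  have P : AP φ' φ e := ⟨T.symm, he, hte, T.mem_symm ⟨e, hte⟩⟩
  have S' : Std φ' := T.std'
  have H := fun φ₁ φ₂ (T : Two φ₁ φ₂) h h' => odd_cen (G := G) T h h'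
  have H' : ∀ w ∈ Wset φ', PairA.Cen φ w := fun w hw => P.odd_cen hw
  have hodd := P.two.odd_BB
  have hcen : ∀ w ∈ BB φ' φ, PairA.Cen φ' w := fun w hw => hw.1
  rcases P.cases H' with hR | ⟨r, hr, hr2, hR⟩
  · exact FinalTwo.iso S' hodd hcen hR H
  · exfalso
    refine FourFalse.false hG (φ := φ') (W := BB φ' φ) (r := r) ?_
    exact
      { ctx := ctx_of S'
        odd := hodd
        cen := hcen
        nrm := by
          intro g hg w hw
          rw [P.two.mem_BB_iff H'] at hw ⊢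
          exact S'.nrm H g hg hw
        rc := hr
        r2 := hr2
        hR := hR
        ex := by
          obtain ⟨g, hg⟩ := T.symm.conj
          have h1 : g * φ' τ0 * g⁻¹ = φ τ0 := by rw [hg, conjHom_apply]
          exact ⟨g, by rw [h1]; exact T.symm.ne, by rw [h1]; exact T.symm.comm⟩
        hb := hb_of S' hr hr2
        hx := fun s hs _ => hx_of S' s hs }

end Cfsg.Agent.StandardComponent.HS.Final
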