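import Cfsg.Agent.HN.FactF4
import Cfsg.Agent.StandardComponent.HS.PairD
set_option linter.all false

set_option autoImplicit false
set_option linter.unusedSectionVars false

/-!
S1752 (`2.HS` standard ⇒ `HN`): the analysis of commuting pairs of conjugates of `t`, in the group `G` itself.

`φ : K →* G` is an embedding of `K = 2.HS` (the even part of `H0 = 2.HS.2`), `t = φ τ0`, and `C(t)` acts on `φ K`
as a subgroup of `H0`.  `Cen φ` is the centraliser of `φ K`.
-/

namespace Cfsg.Agent.StandardComponent.HS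

open Cfsg.Agent.HN.Pres Cfsg.Agent.HN.HS100 Cfsg.Agent.HN.H0Basic Cfsg.Agent.HN.FusK0 Cfsg.Agent.HN.Syl
open Cfsg.Agent.HN.Classes Cfsg.Agent.HN.Twist Cfsg.Agent.HN.FusOne
open Cfsg.Agent.StandardComponent.HS.Four

variable {G : Type*} [Group G]

/-- `v` centralises `φ K` -/
def Cen (φ : K →* G) (v : G) : Prop := ∀ k : K, v * φ k = φ k * v

/-- `g` acts on `φ K` as `h ∈ H0` -/
def Acts (φ : K →* G) (g : G) (h : H0) : Prop := ∀ k : K, g * φ k * g⁻¹ = φ (conjK h k)

/-- the conjugate embedding -/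
def cj (g : G) (φ : K →* G) : K →* G := (MulAut.conj g).toMonoidHom.comp φ

theorem cj_apply (g : G) (φ : K →* G) (k : K) : cj g φ k = g * φ k * g⁻¹ := rfl

theorem cj_cj (g h : G) (φ : K →* G) : cj g (cj h φ) = cj (g * h) φ := by
  ext k
  simp only [cj_apply]
  group

theorem cj_one (φ : K →* G) : cj 1 φ = φ := by
  ext k
  simp only [cj_apply]
  group

/-- **The setting.** -/
structure Ctx (φ : K →* G) : Prop where
  inj : Function.Injective φ
  /-- `C(t)` acts on `φ K` as a subgroup of `H0` -/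
  act : ∀ g, g * φ τ0 = φ τ0 * g → ∃ h : H0, Acts φ g h
  /-- tight embedding -/
  tight : ∀ g v : G, v ≠ 1 → v * v = 1 → Cen φ v → Cen (cj g φ) v → g * φ τ0 = φ τ0 * g

theorem conjK_mul (g h : H0) (k : K) : conjK (g * h) k = conjK g (conjK h k) := by
  apply Subtype.ext
  simp only [coe_conjK]
  group

theorem conjK_one (k : K) : conjK 1 k = k := by
  apply Subtype.ext
  simp only [coe_conjK]
  group

theorem conjK_τ (k : K) : conjK τ k = k := by
  apply Subtype.ext
  rw [coe_conjK, ← τ_comm, mul_assoc, mul_inv_cancel, mul_one]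

theorem conjK_mul_τ (h : H0) (k : K) : conjK (h * τ) k = conjK h k := by
  rw [conjK_mul, conjK_τ]

theorem conjK_τ0 (h : H0) : conjK h τ0 = τ0 := by
  apply Subtype.ext
  rw [coe_conjK]
  change h * τ * h⁻¹ = τ
  rw [τ_comm, mul_assoc, mul_inv_cancel, mul_one]

theorem conjK_eq_iff {h : H0} {k : K} : conjK h k = k ↔ h * k = k * h := by
  constructor
  · intro e
    have := congrArg Subtype.val e
    rw [coe_conjK] at this
    calc h * (k : H0) = (h * k * h⁻¹) * h := by group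
      _ = k * h := by rw [this]
  · intro e
    apply Subtype.ext
    rw [coe_conjK, e]
    group

/-- the elements of `H0` centralising `K` -/
theorem cent_K {g : H0} (hg : ∀ k : K, g * k = k * g) : g = 1 ∨ g = τ := by
  have h1 := Cfsg.Agent.HN.FactF1.cent_cent (h := a) (g := g) (Or.inl (by rw [pow_two, a_sq])) a_ne_one a_ne_τ
    (fun k hk _ => hg ⟨k, hk⟩)
  have h2 := Cfsg.Agent.HN.FactF1.cent_cent (h := gz) (g := g) (Or.inl rels_H0.r7) z_ne_one z_ne_τ
    (fun k hk _ => hg ⟨k, hk⟩)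
  rcases h1 with h1 | h1 | h1 | h1
  · exact Or.inl h1
  · exact Or.inr h1
  · exfalso
    have ha : g ∈ K := by rw [h1]; exact a_mem_K
    rcases h2 with h2 | h2 | h2 | h2
    · exact a_ne_one (h1.symm.trans h2)
    · exact a_ne_τ (h1.symm.trans h2)
    · rw [h2] at ha; exact gz_notMem_K ha
    · rw [h2] at ha
      exact gz_notMem_K ((K.mul_mem_cancel_right τ_mem_K).1 ha)
  · exfalso
    have ha : g ∈ K := by rw [h1]; exact K.mul_mem a_mem_K τ_mem_K
    rcases h2 with h2 | h2 | h2 | h2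
    · exact aτ_ne_one (h1.symm.trans h2)
    · exact aτ_ne_τ (h1.symm.trans h2)
    · rw [h2] at ha; exact gz_notMem_K ha
    · rw [h2] at ha
      exact gz_notMem_K ((K.mul_mem_cancel_right τ_mem_K).1 ha)

namespace Acts

variable {φ : K →* G}

theorem one : Acts φ 1 1 := fun k => by rw [conjK_one]; group

theorem mul {g g' : G} {h h' : H0} (H : Acts φ g h) (H' : Acts φ g' h') : Acts φ (g * g') (h * h') := by
  intro k
  rw [conjK_mul, ← H, ← H']
  group

theorem inv {g : G} {h : H0} (H : Acts φ g h) : Acts φ g⁻¹ h⁻¹ := by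
  intro k
  have h1 := H (conjK h⁻¹ k)
  rw [← conjK_mul, mul_inv_cancel, conjK_one] at h1
  rw [← h1]
  group

theorem of_range (k : K) : Acts φ (φ k) (k : H0) := by
  intro l
  rw [← map_inv, ← map_mul, ← map_mul]
  congr 1

theorem mul_τ {g : G} {h : H0} (H : Acts φ g h) : Acts φ g (h * τ) := by
  intro k
  rw [conjK_mul_τ]
  exact H k

theorem pow {g : G} {h : H0} (H : Acts φ g h) (n : ℕ) : Acts φ (g ^ n) (h ^ n) := by
  induction n with
  | zero => rw [pow_zero, pow_zero]; exact one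
  | succ n ih => rw [pow_succ, pow_succ]; exact ih.mul H

theorem of_cen {g : G} (H : Cen φ g) : Acts φ g 1 := by
  intro k
  rw [conjK_one, H k]
  group

theorem cen {g : G} (H : Acts φ g 1) : Cen φ g := by
  intro k
  have := H k
  rw [conjK_one] at this
  calc g * φ k = (g * φ k * g⁻¹) * g := by group
    _ = φ k * g := by rw [this]

theorem cen_τ {g : G} (H : Acts φ g τ) : Cen φ g := by
  apply cen
  have := H.mul_τ
  rwa [τ_mul_τ] at this

/-- the element of `H0` is unique modulo `τ` -/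
theorem unique (hi : Function.Injective φ) {g : G} {h h' : H0} (H : Acts φ g h) (H' : Acts φ g h') :
    h' = h ∨ h' = h * τ := by
  have h1 : ∀ k : K, (h⁻¹ * h') * (k : H0) = k * (h⁻¹ * h') := by
    intro k
    have h2 : conjK h k = conjK h' k := hi (by rw [← H, ← H'])
    rw [← conjK_eq_iff, conjK_mul, ← h2, ← conjK_mul, inv_mul_cancel, conjK_one]
  rcases cent_K h1 with h2 | h2
  · left
    exact (inv_mul_eq_one.1 h2).symm
  · right
    rw [← h2]
    group

/-- `g` commutes with `φ τ0` -/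
theorem comm {g : G} {h : H0} (H : Acts φ g h) : g * φ τ0 = φ τ0 * g := by
  have := H τ0
  rw [conjK_τ0] at this
  calc g * φ τ0 = (g * φ τ0 * g⁻¹) * g := by group
    _ = φ τ0 * g := by rw [this]

theorem conj {g : G} {h : H0} (H : Acts φ g h) (c : G) : Acts (cj c φ) (c * g * c⁻¹) h := by
  intro k
  simp only [cj_apply]
  rw [← H k]
  group

/-- conjugation by an element which acts -/
theorem cj_iff {c g : G} {k h : H0} (hc : Acts φ c k) : Acts (cj c φ) g h ↔ Acts φ g (k * h * k⁻¹) := by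
  have e : ∀ l : K, cj c φ l = φ (conjK k l) := fun l => hc l
  constructor
  · intro H l
    have h1 := H (conjK k⁻¹ l)
    rw [e, e, ← conjK_mul, ← conjK_mul, mul_inv_cancel, conjK_one] at h1
    rw [h1, ← conjK_mul]
  · intro H l
    rw [e, e, H, ← conjK_mul, ← conjK_mul]
    congr 2
    group

end Acts

theorem Cen.conj {φ : K →* G} {v : G} (H : Cen φ v) (c : G) : Cen (cj c φ) (c * v * c⁻¹) := by
  intro k
  rw [cj_apply]
  calc c * v * c⁻¹ * (c * φ k * c⁻¹) = c * (v * φ k) * c⁻¹ := by group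
    _ = c * (φ k * v) * c⁻¹ := by rw [H k]
    _ = _ := by group

theorem Cen.of_conj {φ : K →* G} {v c : G} (H : Cen (cj c φ) v) : Cen φ (c⁻¹ * v * c) := by
  have := H.conj c⁻¹
  rw [cj_cj, inv_mul_cancel, cj_one, inv_inv] at this
  exact this

theorem Cen.mul {φ : K →* G} {v w : G} (H : Cen φ v) (H' : Cen φ w) : Cen φ (v * w) := by
  intro k
  rw [mul_assoc, H', ← mul_assoc, H, mul_assoc]

theorem Cen.inv {φ : K →* G} {v : G} (H : Cen φ v) : Cen φ v⁻¹ := by
  intro k
  have := H k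
  calc v⁻¹ * φ k = v⁻¹ * (φ k * v) * v⁻¹ := by group
    _ = v⁻¹ * (v * φ k) * v⁻¹ := by rw [this]
    _ = _ := by group

theorem cen_τ0 (φ : K →* G) : Cen φ (φ τ0) := by
  intro k
  rw [← map_mul, ← map_mul]
  congr 1
  exact Subtype.ext (τ_comm (k : H0)).symm

namespace Ctx

variable {φ : K →* G} (C : Ctx φ)
include C

theorem conj (g : G) : Ctx (cj g φ) where
  inj := (MulAut.conj g).injective.comp C.inj
  act := by
    intro m hm
    have h1 : (g⁻¹ * m * g) * φ τ0 = φ τ0 * (g⁻¹ * m * g) := by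
      rw [cj_apply] at hm
      calc (g⁻¹ * m * g) * φ τ0 = g⁻¹ * (m * (g * φ τ0 * g⁻¹)) * g := by group
        _ = g⁻¹ * (g * φ τ0 * g⁻¹ * m) * g := by rw [hm]
        _ = _ := by group
    obtain ⟨h, hh⟩ := C.act _ h1
    refine ⟨h, ?_⟩
    have := hh.conj g
    have e : g * (g⁻¹ * m * g) * g⁻¹ = m := by group
    rwa [e] at this
  tight := by
    intro c v hv1 hv2 h1 h2
    rw [cj_cj] at h2
    have h3 := h1.of_conj
    have h4 := h2.conj g⁻¹
    rw [cj_cj, inv_inv] at h4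
    have h5 := C.tight (g⁻¹ * (c * g)) (g⁻¹ * v * g) (by
      intro h; apply hv1
      have : v = g * (g⁻¹ * v * g) * g⁻¹ := by group
      rw [this, h]; group) (by
      calc g⁻¹ * v * g * (g⁻¹ * v * g) = g⁻¹ * (v * v) * g := by group
        _ = 1 := by rw [hv2]; group) h3 h4
    rw [cj_apply]
    calc c * (g * φ τ0 * g⁻¹) = g * (g⁻¹ * (c * g) * φ τ0) * g⁻¹ := by group
      _ = g * (φ τ0 * (g⁻¹ * (c * g))) * g⁻¹ := by rw [h5]
      _ = _ := by group

theorem t_sq : φ τ0 * φ τ0 = 1 := by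
  rw [← map_mul, ← map_one φ]
  congr 1
  exact Subtype.ext τ_mul_τ

theorem t_ne : φ τ0 ≠ 1 := fun h => τ_ne_one (congrArg Subtype.val (C.inj (h.trans (map_one φ).symm)))

/-- the involutions of `C(φ K)` have centraliser in `C(t)` -/
theorem cent_of_cen {v : G} (h1 : v ≠ 1) (h2 : v * v = 1) (hv : Cen φ v) {g : G} (hg : g * v = v * g) :
    g * φ τ0 = φ τ0 * g := by
  refine C.tight g v h1 h2 hv ?_
  have := hv.conj g
  have e : g * v * g⁻¹ = v := by rw [hg]; group
  rwa [e] at this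

/-- if `g` moves `t` then `C(φ K)` and its conjugate meet in odd order -/
theorem not_cen {g : G} (hg : g * φ τ0 * g⁻¹ ≠ φ τ0) {v : G} (h1 : v ≠ 1) (h2 : v * v = 1) (hv : Cen φ v) :
    ¬ Cen (cj g φ) v := by
  intro h
  apply hg
  rw [C.tight g v h1 h2 hv h]
  group

/-- **(C1)** the only involution of `C(φ K)` commuting with a conjugate `t' ≠ t` of `t` commuting with `t` is `t`. -/
theorem C1 {g : G} (hne : g * φ τ0 * g⁻¹ ≠ φ τ0)
    (hc : g * φ τ0 * g⁻¹ * φ τ0 = φ τ0 * (g * φ τ0 * g⁻¹)) {v : G} (h1 : v ≠ 1) (h2 : v * v = 1)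
    (hv : Cen φ v) (hvt : v * (g * φ τ0 * g⁻¹) = g * φ τ0 * g⁻¹ * v) : v = φ τ0 := by
  by_contra hvne
  have C' := C.conj g
  obtain ⟨hh, Hv⟩ := C'.act v hvt
  obtain ⟨ht, Ht⟩ := C'.act (φ τ0) hc.symm
  -- `h_v ∉ ⟨τ⟩`
  have n1 : ∀ {w : G} {h : H0}, w ≠ 1 → w * w = 1 → Cen φ w → Acts (cj g φ) w h → h ≠ 1 ∧ h ≠ τ := by
    intro w h w1 w2 wc H
    constructor
    · rintro rfl
      exact C.not_cen hne w1 w2 wc H.cen
    · rintro rfl
      exact C.not_cen hne w1 w2 wc H.cen_τ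
  have hsq : hh ^ 2 = 1 ∨ hh ^ 2 = τ := by
    have h3 := Hv.mul Hv
    rw [h2] at h3
    have h4 := Acts.unique C'.inj Acts.one h3
    rw [← pow_two, one_mul] at h4
    exact h4
  have key : ∀ k ∈ K, k * hh = hh * k → ht * k = k * ht := by
    intro k hk hkh
    have e1 : conjK hh ⟨k, hk⟩ = ⟨k, hk⟩ := conjK_eq_iff.2 hkh.symm
    have e2 := Hv ⟨k, hk⟩
    rw [e1] at e2
    have e3 : cj g φ ⟨k, hk⟩ * v = v * cj g φ ⟨k, hk⟩ := by
      calc cj g φ ⟨k, hk⟩ * v = (v * cj g φ ⟨k, hk⟩ * v⁻¹) * v := by rw [e2]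
        _ = _ := by group
    have e4 := C.cent_of_cen h1 h2 hv e3
    have e5 := Ht ⟨k, hk⟩
    rw [← e4] at e5
    have e6 : conjK ht ⟨k, hk⟩ = ⟨k, hk⟩ := C'.inj (by rw [← e5]; group)
    exact conjK_eq_iff.1 e6
  have ht' := n1 C.t_ne C.t_sq (cen_τ0 φ) Ht
  have hv' := n1 h1 h2 hv Hv
  have hcomm : v * φ τ0 = φ τ0 * v := hv τ0
  have fin : Cen (cj g φ) (v * φ τ0) → False := by
    intro h
    refine C.not_cen hne (v := v * φ τ0) ?_ ?_ (hv.mul (cen_τ0 φ)) h
    · intro h3
      apply hvne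
      have := eq_inv_of_mul_eq_one_left h3
      rw [this]
      exact inv_eq_of_mul_eq_one_left C.t_sq
    · calc v * φ τ0 * (v * φ τ0) = v * (φ τ0 * v) * φ τ0 := by group
        _ = (v * v) * (φ τ0 * φ τ0) := by rw [← hcomm]; group
        _ = 1 := by rw [h2, C.t_sq, one_mul]
  rcases Cfsg.Agent.HN.FactF1.cent_cent hsq hv'.1 hv'.2 key with h | h | h | h
  · exact ht'.1 h
  · exact ht'.2 h
  · apply fin
    have h5 := Hv.mul Ht
    rw [h, ← pow_two] at h5
    rcases hsq with h6 | h6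
    · rw [h6] at h5; exact h5.cen
    · rw [h6] at h5; exact h5.cen_τ
  · apply fin
    have h5 := Hv.mul Ht
    rw [h, ← mul_assoc, ← pow_two] at h5
    rcases hsq with h6 | h6
    · rw [h6, one_mul] at h5; exact h5.cen_τ
    · rw [h6, τ_mul_τ] at h5; exact h5.cen

end Ctx

end Cfsg.Agent.StandardComponent.HS
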