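import Cfsg.Agent.StandardComponent.HS.PairD
import Cfsg.Agent.HN.XWords
import Cfsg.Agent.HN.XInst_mg
import Cfsg.Agent.HN.StepFive
import Cfsg.Agent.HN.Main
import Cfsg.Agent.HN.XSq
import Cfsg.Agent.HN.Central
set_option linter.all false

-- part: StandardComponent/HS/TwoExt
section
set_option autoImplicit false

/-!
S1752, the case `|R| = 2`: a group `Γ` with `φ : K →* Γ` injective, `C(φ K) = {1, t}`, the centraliser of `t = φ τ0`
acting on `φ K` as a subgroup of `H0`.  An element acting as `gz` gives the centraliser `H0` or `T`.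
-/

namespace Cfsg.Agent.StandardComponent.HS.TwoExt

open Cfsg.Agent.HN.Pres Cfsg.Agent.HN.HS100 Cfsg.Agent.HN.H0Basic Cfsg.Agent.HN.FusGen Cfsg.Agent.HN.FusK0
open Cfsg.Agent.HN.Twist Cfsg.Agent.HN.FusOne Cfsg.Agent.HN.Classes Cfsg.Agent.HN.Syl
open Cfsg.Agent.StandardComponent.HS Cfsg.Agent.StandardComponent.HS.Four Cfsg.Agent.StandardComponent.HS.FourOuter

theorem out_mul {m h : H0} (hmK : m ∉ K) (hh : h ∉ K) : m * h ∈ K := by
  rw [mem_K_iff, map_mul]
  have h2 := (Int.units_eq_one_or (sgn m)).resolve_left hmK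
  have h3 := (Int.units_eq_one_or (sgn h)).resolve_left hh
  rw [h2, h3]; rfl

open Classical in
/-- extension of a homomorphism from `K` to the isoclinic group. -/
theorem exists_extT {Γ : Type*} [Group Γ] {φ : K →* Γ} {u : Γ} (hu : Acts φ u gz) (hu2 : u * u = φ τ0) :
    ∃ ψ : T →* Γ, (∀ k : K, ψ (ofH k) = φ k) ∧ ψ (ofH gz) = u ∧
      ∀ m, m ∉ K → ∃ k : K, ψ (ofH m) = φ k * u ∧ m = k * gz := by
  have hh : gz ∉ K := gz_notMem_K
  have hh2 : gz * gz = 1 := gz_sq'
  have hm : ∀ m : H0, m ∉ K → m * gz ∈ K := fun m hmK => out_mul hmK hh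
  have hmn : ∀ m n : H0, m ∈ K → n ∉ K → m * n ∉ K := by
    intro m n hmK hnK h1
    exact hnK (by
      have := K.mul_mem (K.inv_mem hmK) h1
      rwa [inv_mul_cancel_left] at this)
  have hnm : ∀ m n : H0, m ∉ K → n ∈ K → m * n ∉ K := by
    intro m n hmK hnK h1
    exact hmK (by
      have := K.mul_mem h1 (K.inv_mem hnK)
      rwa [mul_inv_cancel_right] at this)
  have hswap : ∀ k : K, u * φ k = φ (conjK gz k) * u := by
    intro k
    rw [← hu k]; group
  have hinv : (gz : H0)⁻¹ = gz := inv_eq_of_mul_eq_one_left hh2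
  let f : T → Γ := fun m' => if hmK : ofH.symm m' ∈ K then φ ⟨ofH.symm m', hmK⟩ else
    φ ⟨ofH.symm m' * gz, hm _ hmK⟩ * u
  have f1 : ∀ m (hmK : m ∈ K), f (ofH m) = φ ⟨m, hmK⟩ := fun m hmK => dif_pos hmK
  have f2 : ∀ m (hmK : m ∉ K), f (ofH m) = φ ⟨m * gz, hm m hmK⟩ * u := fun m hmK => dif_neg hmK
  have fmul : ∀ m' n', f (m' * n') = f m' * f n' := by
    intro m' n'
    obtain ⟨m, rfl⟩ : ∃ m, ofH m = m' := ⟨ofH.symm m', Equiv.apply_symm_apply _ _⟩
    obtain ⟨n, rfl⟩ : ∃ n, ofH n = n' := ⟨ofH.symm n', Equiv.apply_symm_apply _ _⟩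
    by_cases hmK : m ∈ K
    · rw [mul_even_left hmK]
      by_cases hnK : n ∈ K
      · rw [f1 _ (K.mul_mem hmK hnK), f1 _ hmK, f1 _ hnK, ← map_mul]
        rfl
      · rw [f2 _ (hmn m n hmK hnK), f1 _ hmK, f2 _ hnK, ← mul_assoc, ← map_mul]
        congr 2
        exact Subtype.ext (mul_assoc _ _ _)
    · by_cases hnK : n ∈ K
      · rw [mul_even_right _ hnK, f2 _ (hnm m n hmK hnK), f2 _ hmK, f1 _ hnK]
        calc φ ⟨m * n * gz, _⟩ * u = φ (⟨m * gz, hm m hmK⟩ * conjK gz ⟨n, hnK⟩) * u := by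
              congr 2
              apply Subtype.ext
              change m * n * gz = m * gz * (gz * n * gz⁻¹)
              rw [hinv]
              calc m * n * gz = m * 1 * n * gz := by group
                _ = m * (gz * gz) * n * gz := by rw [hh2]
                _ = m * gz * (gz * n * gz) := by group
          _ = φ ⟨m * gz, hm m hmK⟩ * (φ (conjK gz ⟨n, hnK⟩) * u) := by rw [map_mul, mul_assoc]
          _ = φ ⟨m * gz, hm m hmK⟩ * u * φ ⟨n, hnK⟩ := by rw [← hswap, mul_assoc]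
      · have hmnK : m * n * τ ∈ K := K.mul_mem (out_mul hmK hnK) τ_mem_K
        rw [mul_odd hmK hnK, f1 _ hmnK, f2 _ hmK, f2 _ hnK]
        calc φ ⟨m * n * τ, _⟩ = φ (⟨m * gz, hm m hmK⟩ * conjK gz ⟨n * gz, hm n hnK⟩ * τ0) := by
              congr 1
              apply Subtype.ext
              change m * n * τ = m * gz * (gz * (n * gz) * gz⁻¹) * τ
              rw [hinv]
              calc m * n * τ = m * 1 * n * 1 * τ := by group
                _ = m * (gz * gz) * n * (gz * gz) * τ := by rw [hh2]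
                _ = m * gz * (gz * (n * gz) * gz) * τ := by group
          _ = φ ⟨m * gz, hm m hmK⟩ * (φ (conjK gz ⟨n * gz, hm n hnK⟩)) * (u * u) := by
              rw [map_mul, map_mul, hu2]
          _ = φ ⟨m * gz, hm m hmK⟩ * (φ (conjK gz ⟨n * gz, hm n hnK⟩) * u) * u := by group
          _ = φ ⟨m * gz, hm m hmK⟩ * u * (φ ⟨n * gz, hm n hnK⟩ * u) := by rw [← hswap]; group
  refine ⟨MonoidHom.mk' f fmul, fun k => ?_, ?_, fun m hmK => ⟨⟨m * gz, hm m hmK⟩, f2 m hmK, ?_⟩⟩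
  · exact f1 k k.2
  · change f (ofH gz) = u
    rw [f2 gz hh]
    have h1 : (⟨gz * gz, hm gz hh⟩ : K) = 1 := Subtype.ext hh2
    rw [h1, map_one, one_mul]
  · change m = m * gz * gz
    rw [mul_assoc, hh2, mul_one]

/-- `C(φ K) = {1, t}` and the centraliser of `t = φ τ` acts on `φ K` as a subgroup of `H0`. -/
structure Two {Γ : Type*} [Group Γ] (φ : K →* Γ) : Prop where
  inj : Function.Injective φ
  hR : ∀ g, (∀ k, g * φ k = φ k * g) → g = 1 ∨ g = φ τ0
  hM : ∀ g, g * φ τ0 = φ τ0 * g → ∃ h : H0, Acts φ g h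

variable {Γ : Type*} [Group Γ] {φ : K →* Γ}

theorem acts_one : Acts φ (1 : Γ) (1 : H0) := by
  intro k
  rw [one_mul, inv_one, mul_one]
  congr 1
  apply Subtype.ext
  rw [coe_conjK]
  group

theorem acts_pow {g : Γ} {h : H0} (H : Acts φ g h) (n : ℕ) : Acts φ (g ^ n) (h ^ n) := by
  induction n with
  | zero => rw [pow_zero, pow_zero]; exact acts_one
  | succ n ih => rw [pow_succ, pow_succ]; exact Acts.mul ih H

/-- two elements with the same action differ by an element commuting with `φ K`. -/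
theorem comm_of_acts {x y : Γ} {h : H0} (hx : Acts φ x h) (hy : Acts φ y h) (k : K) :
    x⁻¹ * y * φ k = φ k * (x⁻¹ * y) := by
  have h3 : x * φ k * x⁻¹ = y * φ k * y⁻¹ := (hx k).trans (hy k).symm
  calc x⁻¹ * y * φ k = x⁻¹ * (y * φ k * y⁻¹) * y := by group
    _ = x⁻¹ * (x * φ k * x⁻¹) * y := by rw [h3]
    _ = φ k * (x⁻¹ * y) := by group

theorem not_φ (hφ : Function.Injective φ) {u : Γ} {h : H0} (hu : Acts φ u h) (hh : h ∉ K) (k : K) : u ≠ φ k := by
  intro hk
  rw [hk] at hu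
  exact hh ((mem_K_of_eq (Acts.unique hφ (acts_of k) hu)).2 k.2)

/-- an extension of `φ` to `H0` acts as it should. -/
theorem acts_ext {ψ : H0 →* Γ} {u : Γ} (hu : Acts φ u gz) (hψ : ∀ k : K, ψ k = φ k)
    (hψm : ∀ m, m ∉ K → ∃ k : K, ψ m = φ k * u ∧ m = k * gz) (m : H0) : Acts φ (ψ m) m := by
  by_cases hmK : m ∈ K
  · have h2 : ψ m = φ ⟨m, hmK⟩ := hψ ⟨m, hmK⟩
    rw [h2]
    exact acts_of _
  · obtain ⟨k, hk, hmk⟩ := hψm m hmK
    rw [hk, hmk]
    exact Acts.mul (acts_of k) hu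

theorem inj_ext {ψ : H0 →* Γ} {u : Γ} (hφ : Function.Injective φ) (hu : Acts φ u gz) (hψ : ∀ k : K, ψ k = φ k)
    (hψm : ∀ m, m ∉ K → ∃ k : K, ψ m = φ k * u ∧ m = k * gz) : Function.Injective ψ := by
  rw [injective_iff_map_eq_one]
  intro m hm1
  by_cases hmK : m ∈ K
  · have h2 : φ ⟨m, hmK⟩ = 1 := (hψ ⟨m, hmK⟩).symm.trans hm1
    exact congrArg Subtype.val (hφ (h2.trans (map_one φ).symm))
  · obtain ⟨k, hk, hmk⟩ := hψm m hmK
    exfalso
    refine not_φ hφ hu gz_notMem_K k⁻¹ ?_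
    rw [map_inv]
    exact (inv_eq_of_mul_eq_one_right (hk.symm.trans hm1)).symm

/-- the centraliser is `H0`. -/
theorem embH (F : Two φ) {u : Γ} (hu : Acts φ u gz) (hu2 : u * u = 1) :
    ∃ ψ : H0 →* Γ, Emb ψ τ ∧ (∀ k : K, ψ k = φ k) ∧ ψ gz = u := by
  obtain ⟨ψ, hψ, hψh, hψm⟩ := exists_ext gz_notMem_K gz_sq' hu hu2
  have hψτ : ψ τ = φ τ0 := hψ τ0
  refine ⟨ψ, ⟨inj_ext F.inj hu hψ hψm, ?_, τ_comm, τ_mul_τ, τ_ne_one⟩, hψ, hψh⟩
  intro x hx
  rw [hψτ] at hx
  obtain ⟨m, hm⟩ := F.hM x hx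
  rcases F.hR _ (comm_of_acts (acts_ext hu hψ hψm m) hm) with h3 | h3
  · exact ⟨m, inv_mul_eq_one.1 h3⟩
  · exact ⟨m * τ, by rw [map_mul, hψτ]; exact (inv_mul_eq_iff_eq_mul.1 h3).symm⟩

/-- the centraliser is the isoclinic group. -/
theorem embT (F : Two φ) {u : Γ} (hu : Acts φ u gz) (hu2 : u * u = φ τ0) :
    ∃ ψ : T →* Γ, Emb ψ τT ∧ (∀ k : K, ψ (ofH k) = φ k) := by
  obtain ⟨ψ, hψ, hψh, hψm⟩ := exists_extT hu hu2
  have hψτ : ψ τT = φ τ0 := hψ τ0
  have hacts : ∀ m : H0, Acts φ (ψ (ofH m)) m := by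
    intro m
    by_cases hmK : m ∈ K
    · have h2 : ψ (ofH m) = φ ⟨m, hmK⟩ := hψ ⟨m, hmK⟩
      rw [h2]
      exact acts_of _
    · obtain ⟨k, hk, hmk⟩ := hψm m hmK
      rw [hk, hmk]
      exact Acts.mul (acts_of k) hu
  refine ⟨ψ, ⟨?_, ?_, τT_comm, by rw [← pow_two]; exact τT_sq, τT_ne_one⟩, hψ⟩
  · rw [injective_iff_map_eq_one]
    intro m' hm1
    obtain ⟨m, rfl⟩ : ∃ m, ofH m = m' := ⟨ofH.symm m', Equiv.apply_symm_apply _ _⟩
    by_cases hmK : m ∈ K
    · have h2 : φ ⟨m, hmK⟩ = 1 := (hψ ⟨m, hmK⟩).symm.trans hm1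
      have h3 : m = 1 := congrArg Subtype.val (F.inj (h2.trans (map_one φ).symm))
      rw [h3]; rfl
    · obtain ⟨k, hk, hmk⟩ := hψm m hmK
      exfalso
      refine not_φ F.inj hu gz_notMem_K k⁻¹ ?_
      rw [map_inv]
      exact (inv_eq_of_mul_eq_one_right (hk.symm.trans hm1)).symm
  · intro x hx
    rw [hψτ] at hx
    obtain ⟨m, hm⟩ := F.hM x hx
    rcases F.hR _ (comm_of_acts (hacts m) hm) with h3 | h3
    · exact ⟨ofH m, inv_mul_eq_one.1 h3⟩
    · exact ⟨ofH m * τT, by rw [map_mul, hψτ]; exact (inv_mul_eq_iff_eq_mul.1 h3).symm⟩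

end Cfsg.Agent.StandardComponent.HS.TwoExt
end

-- part: HN/XStructW
section
/-!
# The normaliser of `R` in `K = C_G(w)/⟨w⟩`, version with a kernel of odd order

The same as `XStruct`, but the centraliser of `k 0` may contain a group `W` of odd order commuting with everything.
-/

set_option autoImplicit false

namespace Cfsg.Agent.HN.XStructW

open Cfsg.Agent.HN.XMat Cfsg.Agent.HN.Closing Cfsg.Agent.HN.XStruct

variable {K : Type*} [Group K]

/-- The data coming from `C_G(w)/⟨w⟩`. -/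
structure HypW (k γ : ℕ → K) (D S : Set K) (W : Subgroup K) : Prop extends Bas k γ where
  cD : CInv D
  cS : CInv S
  sqD : ∀ e ∈ D, e * e = 1
  sqS : ∀ e ∈ S, e * e = 1
  oddW : Odd (Nat.card W)
  Wk : ∀ o ∈ W, ∀ i < 8, o * k i = k i * o
  Wγ : ∀ o ∈ W, ∀ g, o * γ g = γ g * o
  cent0 : ∀ x, x * k 0 = k 0 * x → ∃ m < 256, ∃ w ∈ S5W, ∃ o ∈ W, x = r k m * evw γ w * o
  k0D : k 0 ∈ D
  oneD : (1 : K) ∉ D
  r3D : r k 3 ∉ D
  r12D : r k 12 ∉ D
  oneS : (1 : K) ∉ S
  k0S : k 0 ∉ S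
  r3S : r k 3 ∉ S
  r12S : r k 12 ∉ S
  sq1 : xi1 γ * xi1 γ = 1
  x1D : xi1 γ ∉ D
  x1S : xi1 γ ∉ S
  sq2 : xi2 k γ * xi2 k γ = 1
  x2D : xi2 k γ ∉ D
  x2S : xi2 k γ ∉ S
  sq3 : xi3 k γ * xi3 k γ = 1
  x3D : xi3 k γ ∉ D
  x3S : xi3 k γ ∈ S
  card3 : Nat.card (Subgroup.centralizer {xi3 k γ}) ≤ 1920 * Nat.card W

namespace HypW

variable {k γ : ℕ → K} {D S : Set K} {W : Subgroup K} (h : HypW k γ D S W)

include h

theorem acts_xi1 : Acts k (xi1 γ) M1 := by
  rw [← mw1]; exact h.acts_evw _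

theorem acts_xi2 : Acts k (xi2 k γ) M2 := by
  rw [← mw2]; exact h.acts_rmul (h.acts_evw _) _

theorem acts_xi3 : Acts k (xi3 k γ) M3 := by
  rw [← mw3]; exact h.acts_rmul (h.acts_evw _) _

theorem W_rr {o : K} (ho : o ∈ W) {m n : ℕ} (hn : n ≤ 8) : o * rr k m n = rr k m n * o := by
  induction n with
  | zero => rw [rr_zero, one_mul, mul_one]
  | succ n ih =>
    rw [rr_succ]
    split
    · rw [← mul_assoc, ih (by omega), mul_assoc, h.Wk o ho n (by omega), mul_assoc]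
    · rw [mul_one, ih (by omega)]

theorem W_r {o : K} (ho : o ∈ W) (m : ℕ) : o * r k m = r k m * o := h.W_rr ho le_rfl

theorem W_evw {o : K} (ho : o ∈ W) (w : List ℕ) : o * evw γ w = evw γ w * o := by
  induction w with
  | nil => rw [evw_nil, mul_one, one_mul]
  | cons g w ih => rw [evw_cons, ← mul_assoc, h.Wγ o ho, mul_assoc, ih, mul_assoc]

theorem W_one {o : K} (ho : o ∈ W) (h2 : o * o = 1) : o = 1 := by
  have h1 : orderOf (⟨o, ho⟩ : W) ∣ Nat.card W := orderOf_dvd_natCard _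
  have h3 : orderOf (⟨o, ho⟩ : W) ∣ 2 := orderOf_dvd_of_pow_eq_one (by rw [pow_two]; exact Subtype.ext h2)
  have h4 : Nat.Coprime 2 (Nat.card W) := (Nat.coprime_two_left (n := Nat.card W)).2 h.oddW
  have h5 : orderOf (⟨o, ho⟩ : W) = 1 := Nat.eq_one_of_dvd_coprimes h4 h3 h1
  exact congrArg Subtype.val (orderOf_eq_one_iff.1 h5)

/-- an element of `W` which is an element of `R` -/
theorem W_eq_r {o : K} (ho : o ∈ W) {m : ℕ} (e : o = r k m) : o = 1 :=
  h.W_one ho (by rw [e, h.toBas.r_sq])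

theorem acts_mulW {x o : K} {P : ℕ} (hx : Acts k x P) (ho : o ∈ W) : Acts k (x * o) P := by
  intro i hi
  rw [← hx i hi]
  have h1 := h.W_r ho (row P i)
  rw [← hx i hi] at h1
  calc (x * o)⁻¹ * k i * (x * o) = o⁻¹ * (x⁻¹ * k i * x * o) := by group
    _ = o⁻¹ * (o * (x⁻¹ * k i * x)) := by rw [h1]
    _ = x⁻¹ * k i * x := by group

/-- `C_K(R) = R × W` -/
theorem mem_R_of_comm {x : K} (hx : ∀ i < 8, x * k i = k i * x) : ∃ m < 256, ∃ o ∈ W, x = r k m * o := by
  obtain ⟨m, hm, w, hw, o, ho, e⟩ := h.cent0 x (hx 0 (by norm_num))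
  have h1 : Acts k x (mw w) := by
    rw [e]; exact h.acts_mulW (h.acts_rmul (h.acts_evw w) m) ho
  have h2 : Acts k x MI := by
    intro i hi
    rw [row_MI hi, Bas.r_pow hi]
    rw [mul_assoc, ← hx i hi]
    group
  have h3 : mw w = mw [] := by
    apply pack_ext (mw_lt _) (mw_lt _)
    intro i hi
    exact h.toBas.acts_unique h1 h2 hi
  have h4 := mw_injOn hw nil_mem_S5W h3
  rw [h4, evw_nil, mul_one] at e
  exact ⟨m, hm, o, ho, e⟩

/-- elements with the same matrix differ by an element of `R × W` -/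
theorem quot_mem {a b : K} {P : ℕ} (ha : Acts k a P) (hb : Acts k b P) :
    ∃ m < 256, ∃ o ∈ W, b * a⁻¹ = r k m * o := by
  apply h.mem_R_of_comm
  intro i hi
  have h1 : a * (b⁻¹ * k i * b) * a⁻¹ = k i := by
    rw [hb i hi, ← ha i hi]; group
  calc b * a⁻¹ * k i = b * a⁻¹ * (a * (b⁻¹ * k i * b) * a⁻¹) := by rw [h1]
    _ = k i * (b * a⁻¹) := by group

theorem xi1_W {o : K} (ho : o ∈ W) : o * xi1 γ = xi1 γ * o := h.W_evw ho _

theorem xi2_W {o : K} (ho : o ∈ W) : o * xi2 k γ = xi2 k γ * o := by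
  unfold xi2
  rw [← mul_assoc, h.W_r ho, mul_assoc, h.W_evw ho, mul_assoc]

theorem xi3_W {o : K} (ho : o ∈ W) : o * xi3 k γ = xi3 k γ * o := by
  unfold xi3
  rw [← mul_assoc, h.W_r ho, mul_assoc, h.W_evw ho, mul_assoc]

/-- adjusting an involution by an element of `R` -/
theorem adjust {M : ℕ} {ξ x : K} (hξ : Acts k ξ M) (hsq : ξ * ξ = 1) (hM : kerIm M = true)
    (hx : x * x = 1) {m : ℕ} (hm : m < 256) (e : x = r k m * ξ) :
    ∃ j < 256, r k j * x * (r k j)⁻¹ = ξ := by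
  have hinv : ξ⁻¹ = ξ := by rw [inv_eq_iff_mul_eq_one, hsq]
  have hc : ∀ j, ξ * r k j * ξ = r k (app M j) := by
    intro j
    rw [← h.toBas.acts_r hξ, hinv]
  have h1 : app M m = m := by
    apply h.toBas.r_inj (app_lt _ _) hm
    rw [← hc m]
    have h2 : r k m * (ξ * r k m * ξ) = 1 := by
      rw [← hx, e]; group
    calc ξ * r k m * ξ = r k m * (r k m * (ξ * r k m * ξ)) := by rw [← mul_assoc (r k m), h.toBas.r_sq, one_mul]
      _ = r k m := by rw [h2, mul_one]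
  obtain ⟨j, hj, hje⟩ := kerIm_spec hM hm h1
  refine ⟨j, hj, ?_⟩
  rw [h.toBas.r_inv, e]
  have h3 : r k (app M j) * r k j = r k m := by rw [← h.toBas.r_xor, hje]
  calc r k j * (r k m * ξ) * r k j = r k j * r k m * (ξ * r k j * ξ) * ξ := by
        have h4 : ξ * r k j * ξ * ξ = ξ * r k j := by rw [mul_assoc, hsq, mul_one]
        rw [mul_assoc (r k j * r k m), h4]; group
    _ = r k j * r k m * r k (app M j) * ξ := by rw [hc]
    _ = r k m * (r k (app M j) * r k j) * ξ := by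
        rw [h.toBas.r_comm j m, mul_assoc (r k m), h.toBas.r_comm j]
    _ = ξ := by rw [h3, h.toBas.r_sq, one_mul]

/-- an involution of the form `r(m) o ξ` with `o ∈ W` has `o = 1`. -/
theorem kill_o {M : ℕ} {ξ x : K} (hξ : Acts k ξ M) (hsq : ξ * ξ = 1) (hW : ∀ o ∈ W, o * ξ = ξ * o)
    (hx : x * x = 1) {m : ℕ} {o : K} (ho : o ∈ W) (e : x = r k m * o * ξ) : o = 1 := by
  have hinv : ξ⁻¹ = ξ := by rw [inv_eq_iff_mul_eq_one, hsq]
  have hc : ξ * r k m * ξ = r k (app M m) := by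
    rw [← h.toBas.acts_r hξ, hinv]
  have h1 := h.W_r ho m
  have h2 := hW o ho
  have h3 : x * x = r k (m ^^^ app M m) * (o * o) := by
    rw [h.toBas.r_xor, ← hc, e]
    calc r k m * o * ξ * (r k m * o * ξ) = r k m * (o * ξ) * (r k m * (o * ξ)) := by group
      _ = r k m * (ξ * o) * (r k m * (ξ * o)) := by rw [h2]
      _ = r k m * ξ * (o * r k m) * ξ * o := by group
      _ = r k m * ξ * (r k m * o) * ξ * o := by rw [h1]
      _ = r k m * ξ * r k m * (o * ξ) * o := by group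
      _ = r k m * ξ * r k m * (ξ * o) * o := by rw [h2]
      _ = r k m * (ξ * r k m * ξ) * (o * o) := by group
  rw [hx] at h3
  have h4 : o * o = r k (m ^^^ app M m) := by
    rw [← h.toBas.r_inv]
    exact eq_inv_of_mul_eq_one_right h3.symm
  exact h.W_one ho (h.W_eq_r (W.mul_mem ho ho) h4)

/-- transfer of a conjugation of matrices -/
theorem transfer {M A : ℕ} {ξ x v : K} {V : ℕ} (hξ : Acts k ξ M) (hsq : ξ * ξ = 1) (hM : kerIm M = true)
    (hW : ∀ o ∈ W, o * ξ = ξ * o)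
    (hx : x * x = 1) (hA : Acts k x A) (hv : Acts k v V) (e : mul V A = mul M V) :
    ∃ j < 256, (r k j * v) * x * (r k j * v)⁻¹ = ξ := by
  have h1 := h.toBas.acts_mul hv hA
  have h2 := h.toBas.acts_mul hξ hv
  rw [← e] at h2
  obtain ⟨m, hm, o, ho, hme⟩ := h.quot_mem h2 h1
  have h3 : v * x * v⁻¹ = r k m * o * ξ := by
    rw [← hme]; group
  have h4 : (v * x * v⁻¹) * (v * x * v⁻¹) = 1 := by
    calc (v * x * v⁻¹) * (v * x * v⁻¹) = v * (x * x) * v⁻¹ := by group
      _ = 1 := by rw [hx]; group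
  have h5 := h.kill_o hξ hsq hW h4 ho h3
  rw [h5, mul_one] at h3
  obtain ⟨j, hj, hje⟩ := h.adjust hξ hsq hM h4 hm h3
  refine ⟨j, hj, ?_⟩
  rw [← hje]; group

theorem r_conj (g m : ℕ) : r k (app (gen g) m) = (γ g)⁻¹ * r k m * γ g := (h.toBas.acts_r (h.act g) m).symm

/-- masks of elements of `D` -/
theorem mem_DD {m : ℕ} (hm : m < 256) (hD : r k m ∈ D) : m ∈ DD := by
  have step : ∀ p g, (r k p ∉ D) → r k (app (gen g) p) ∉ D := by
    intro p g hp hq
    apply hp
    rw [h.r_conj] at hq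
    have := h.cD (γ g) _ hq
    have e : γ g * ((γ g)⁻¹ * r k p * γ g) * (γ g)⁻¹ = r k p := by group
    rwa [e] at this
  rcases mask_cases hm with rfl | h1 | rfl | ⟨t, ht, rfl⟩ | rfl | ⟨t, ht, rfl⟩
  · rw [Bas.r_zero] at hD; exact absurd hD h.oneD
  · exact h1
  · exact absurd hD h.r3D
  · exact absurd hD (tree_spec (P := fun m => r k m ∉ D) step JJ [3] chkJJ
      (by intro p hp; rw [List.mem_singleton.1 hp]; exact h.r3D) t ht)
  · exact absurd hD h.r12D
  · exact absurd hD (tree_spec (P := fun m => r k m ∉ D) step FF [12] chkFF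
      (by intro p hp; rw [List.mem_singleton.1 hp]; exact h.r12D) t ht)

theorem r_DD {w : List ℕ} : r k (app (mw w) 1) = (evw γ w)⁻¹ * k 0 * evw γ w := by
  rw [← h.toBas.acts_r (h.toBas.acts_evw w), Bas.r_one]

theorem mem_D_of_DD {m : ℕ} (hm : m ∈ DD) : r k m ∈ D := by
  obtain ⟨w, hw, rfl⟩ := exists_DW hm
  rw [h.r_DD]
  exact h.cD.inv h.k0D

/-- no element of `S` in `R` -/
theorem not_mem_S {m : ℕ} (hm : m < 256) : r k m ∉ S := by
  have step : ∀ p g, (r k p ∉ S) → r k (app (gen g) p) ∉ S := by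
    intro p g hp hq
    apply hp
    rw [h.r_conj] at hq
    have := h.cS (γ g) _ hq
    have e : γ g * ((γ g)⁻¹ * r k p * γ g) * (γ g)⁻¹ = r k p := by group
    rwa [e] at this
  rcases mask_cases hm with rfl | h1 | rfl | ⟨t, ht, rfl⟩ | rfl | ⟨t, ht, rfl⟩
  · rw [Bas.r_zero]; exact h.oneS
  · obtain ⟨w, hw, rfl⟩ := exists_DW h1
    rw [h.r_DD]
    intro hS
    have := h.cS (evw γ w) _ hS
    have e : evw γ w * ((evw γ w)⁻¹ * k 0 * evw γ w) * (evw γ w)⁻¹ = k 0 := by group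
    rw [e] at this
    exact h.k0S this
  · exact h.r3S
  · exact tree_spec (P := fun m => r k m ∉ S) step JJ [3] chkJJ
      (by intro p hp; rw [List.mem_singleton.1 hp]; exact h.r3S) t ht
  · exact h.r12S
  · exact tree_spec (P := fun m => r k m ∉ S) step FF [12] chkFF
      (by intro p hp; rw [List.mem_singleton.1 hp]; exact h.r12S) t ht

/-- normal form of the elements `x` with `k 0 ^ x ∈ R` -/
theorem normal_form {x : K} (hx : x⁻¹ * k 0 * x ∈ R h.toBas) :
    ∃ m < 256, ∃ w ∈ S5W, ∃ w' ∈ DW, ∃ o ∈ W, x = r k m * evw γ w * evw γ w' * o := by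
  obtain ⟨m, hm, e⟩ := hx
  have h1 : r k m ∈ D := by rw [← e]; exact h.cD.inv h.k0D
  obtain ⟨w', hw', rfl⟩ := exists_DW (h.mem_DD hm h1)
  rw [h.r_DD] at e
  have h2 : (x * (evw γ w')⁻¹) * k 0 = k 0 * (x * (evw γ w')⁻¹) := by
    calc (x * (evw γ w')⁻¹) * k 0 = x * ((evw γ w')⁻¹ * k 0 * evw γ w') * (evw γ w')⁻¹ := by group
      _ = x * (x⁻¹ * k 0 * x) * (evw γ w')⁻¹ := by rw [e]
      _ = k 0 * (x * (evw γ w')⁻¹) := by group
  obtain ⟨m', hm', w, hw, o, ho, e'⟩ := h.cent0 _ h2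
  refine ⟨m', hm', w, hw, w', hw', o, ho, ?_⟩
  rw [mul_assoc _ _ o, ← h.W_evw ho, ← mul_assoc, ← e']; group

theorem acts_nf (m : ℕ) (w w' : List ℕ) {o : K} (ho : o ∈ W) :
    Acts k (r k m * evw γ w * evw γ w' * o) (mul (mw w) (mw w')) :=
  h.acts_mulW (h.toBas.acts_mul (h.toBas.acts_rmul (h.toBas.acts_evw w) m) (h.toBas.acts_evw w')) ho

omit h in
theorem cj_of_acts [Finite K] {hB : Bas k γ} {v : K} {V : ℕ} (hv : Acts k v V) :
    cj v (R hB) = R hB := by
  symm
  apply Subgroup.eq_of_le_of_card_ge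
  · rintro _ ⟨m, hm, rfl⟩
    rw [mem_cj]
    rw [hB.acts_r hv]
    exact r_mem_R _ (app_lt _ _)
  · have : Nat.card (cj v (R hB)) = Nat.card (R hB) := by
      unfold cj
      exact (Nat.card_congr (Subgroup.equivSMul (MulAut.conj v) (R hB)).toEquiv).symm
    rw [this]

theorem conj_mem {x : K} (hx : cj x (R h.toBas) = R h.toBas) {y : K} (hy : y ∈ R h.toBas) :
    x⁻¹ * y * x ∈ R h.toBas := by
  rw [← hx, mem_cj] at hy
  exact hy

theorem nf_of_cj {x : K} (hx : cj x (R h.toBas) = R h.toBas) :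
    ∃ m < 256, ∃ w ∈ S5W, ∃ w' ∈ DW, ∃ o ∈ W, x = r k m * evw γ w * evw γ w' * o :=
  h.normal_form (h.conj_mem hx h.toBas.k0_mem)

/-- the elements of `R` normalise `R` -/
theorem cj_r {m : ℕ} (hm : m < 256) : cj (r k m) (R h.toBas) = R h.toBas := cj_of_mem (r_mem_R _ hm)

theorem cj_evw [Finite K] (w : List ℕ) : cj (evw γ w) (R h.toBas) = R h.toBas :=
  cj_of_acts (h.toBas.acts_evw w)

theorem cj_mul_of {a b : K} (ha : cj a (R h.toBas) = R h.toBas) (hb : cj b (R h.toBas) = R h.toBas) :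
    cj (a * b) (R h.toBas) = R h.toBas := by rw [cj_mul, hb, ha]

theorem cj_inv_of {a : K} (ha : cj a (R h.toBas) = R h.toBas) : cj a⁻¹ (R h.toBas) = R h.toBas :=
  cj_inv_eq ha

theorem cj_W [Finite K] {o : K} (ho : o ∈ W) : cj o (R h.toBas) = R h.toBas := by
  have h1 : Acts k (1 * o) MI := h.acts_mulW Bas.acts_one ho
  rw [one_mul] at h1
  exact cj_of_acts h1

/-- the elements commuting with `k 0` normalise `R` -/
theorem cj_of_comm0 [Finite K] {x : K} (hx : x * k 0 = k 0 * x) : cj x (R h.toBas) = R h.toBas := by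
  obtain ⟨m, hm, w, _, o, ho, rfl⟩ := h.cent0 x hx
  exact h.cj_mul_of (h.cj_mul_of (h.cj_r hm) (h.cj_evw w)) (h.cj_W ho)

/-- **The involutions of the normaliser of `R`**. -/
theorem involution_cases [Finite K] {x : K} (hx : cj x (R h.toBas) = R h.toBas) (hsq : x * x = 1) :
    x ∈ R h.toBas ∨ ∃ v, cj v (R h.toBas) = R h.toBas ∧
      (v * x * v⁻¹ = xi1 γ ∨ v * x * v⁻¹ = xi2 k γ ∨ v * x * v⁻¹ = xi3 k γ) := by
  obtain ⟨m, hm, w, hw, w', hw', o, ho, e⟩ := h.nf_of_cj hx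
  have hA : Acts k x (mul (mw w) (mw w')) := by rw [e]; exact h.acts_nf m w w' ho
  have hI : ∀ {y : K} {P : ℕ}, P < 2 ^ 64 → y * y = 1 → Acts k y P → mul P P = MI := by
    intro y P hP hy ha
    have h1 := h.toBas.acts_mul ha ha
    rw [hy] at h1
    exact pack_ext (mul_lt _ _) MI_lt fun i hi => h.toBas.acts_unique h1 Bas.acts_one hi
  have hRI : ∀ {y : K}, y * y = 1 → Acts k y MI → y ∈ R h.toBas := by
    intro y hy2 hy
    obtain ⟨m1, hm1, o1, ho1, e1⟩ := h.quot_mem (a := 1) (b := y) Bas.acts_one hy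
    rw [inv_one, mul_one] at e1
    have h1 : o1 * o1 = 1 := by
      have h2 := h.W_r ho1 m1
      have h3 := h.toBas.r_sq m1
      calc o1 * o1 = r k m1 * r k m1 * (o1 * o1) := by rw [h3, one_mul]
        _ = r k m1 * (r k m1 * o1) * o1 := by group
        _ = r k m1 * (o1 * r k m1) * o1 := by rw [h2]
        _ = (r k m1 * o1) * (r k m1 * o1) := by group
        _ = 1 := by rw [← e1, hy2]
    rw [h.W_one ho1 h1, mul_one] at e1
    rw [e1]
    exact r_mem_R _ hm1
  have hAI := hI (mul_lt _ _) hsq hA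
  have h1 := List.all_eq_true.1 (List.all_eq_true.1 chkCls _ (mem_S5M hw)) _ (mem_DM hw')
  rw [force_eq] at h1
  unfold cls at h1
  rw [force_eq, hAI, Nat.beq_refl, cond_true, Bool.or_eq_true, Bool.or_eq_true] at h1
  rcases h1 with (h1 | h1) | h1
  · left
    apply hRI hsq
    rw [← Nat.eq_of_beq_eq_true h1]
    exact hA
  · -- fixes a mask of `DD`
    obtain ⟨d, hd, hde⟩ := fixD_spec h1
    obtain ⟨u, hu, rfl⟩ := exists_DW hd
    have hr := h.toBas.acts_r hA (app (mw u) 1)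
    rw [hde, h.r_DD] at hr
    -- `y = u x u⁻¹` commutes with `k 0`
    set y := evw γ u * x * (evw γ u)⁻¹ with hy
    have hyc : y * k 0 = k 0 * y := by
      calc y * k 0 = evw γ u * x * ((evw γ u)⁻¹ * k 0 * evw γ u) * (evw γ u)⁻¹ := by rw [hy]; group
        _ = evw γ u * x * (x⁻¹ * ((evw γ u)⁻¹ * k 0 * evw γ u) * x) * (evw γ u)⁻¹ := by rw [hr]
        _ = k 0 * y := by rw [hy]; group
    have hysq : y * y = 1 := by
      rw [hy]
      calc evw γ u * x * (evw γ u)⁻¹ * (evw γ u * x * (evw γ u)⁻¹) = evw γ u * (x * x) * (evw γ u)⁻¹ := by group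
        _ = 1 := by rw [hsq]; group
    obtain ⟨m2, hm2, w2, hw2, o2, ho2, e2⟩ := h.cent0 y hyc
    have hyA : Acts k y (mw w2) := by
      rw [e2]; exact h.acts_mulW (h.toBas.acts_rmul (h.toBas.acts_evw w2) m2) ho2
    have hyI := hI (mw_lt _) hysq hyA
    have h2 := List.all_eq_true.1 chkS5a _ (mem_S5M hw2)
    rw [force_eq, hyI, Nat.beq_refl, cond_true, Bool.or_eq_true] at h2
    rcases h2 with h2 | h2
    · left
      have h3 : y ∈ R h.toBas := by
        apply hRI hysq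
        rw [← Nat.eq_of_beq_eq_true h2]
        exact hyA
      have h4 := h.conj_mem (h.cj_evw u) h3
      have h5 : (evw γ u)⁻¹ * y * evw γ u = x := by rw [hy]; group
      rwa [h5] at h4
    · right
      rw [List.any_eq_true] at h2
      obtain ⟨t, ht, hte⟩ := h2
      have hte' := Nat.eq_of_beq_eq_true hte
      have h3 := List.all_eq_true.1 chkS5b _ ht
      rcases hb : t.2.1 with _ | _
      · rw [hb, cond_false] at h3
        have h4 := cjw_spec h3
        rw [hte'] at h4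
        obtain ⟨j, hj, hje⟩ := h.transfer h.acts_xi2 h.sq2 chkK2 (fun _ => h.xi2_W) hysq hyA (h.toBas.acts_evw t.2.2) h4
        refine ⟨r k j * evw γ t.2.2 * evw γ u, h.cj_mul_of (h.cj_mul_of (h.cj_r hj) (h.cj_evw _)) (h.cj_evw _),
          Or.inr (Or.inl ?_)⟩
        rw [← hje, hy]; group
      · rw [hb, cond_true] at h3
        have h4 := cjw_spec h3
        rw [hte'] at h4
        obtain ⟨j, hj, hje⟩ := h.transfer h.acts_xi3 h.sq3 chkK3 (fun _ => h.xi3_W) hysq hyA (h.toBas.acts_evw t.2.2) h4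
        refine ⟨r k j * evw γ t.2.2 * evw γ u, h.cj_mul_of (h.cj_mul_of (h.cj_r hj) (h.cj_evw _)) (h.cj_evw _),
          Or.inr (Or.inr ?_)⟩
        rw [← hje, hy]; group
  · -- type (2,1)
    right
    rw [List.any_eq_true] at h1
    obtain ⟨t, ht, hte⟩ := h1
    have hte' := Nat.eq_of_beq_eq_true hte
    have h3 := cjw_spec (List.all_eq_true.1 chkT1 _ ht)
    rw [hte'] at h3
    obtain ⟨j, hj, hje⟩ := h.transfer h.acts_xi1 h.sq1 chkK1 (fun _ => h.xi1_W) hsq hA (h.toBas.acts_evw t.2) h3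
    exact ⟨r k j * evw γ t.2, h.cj_mul_of (h.cj_r hj) (h.cj_evw _), Or.inl hje⟩

/-- elements of `D` normalising `R` are in `R` -/
theorem DR [Finite K] {e : K} (he : e ∈ D) (hsq : e * e = 1) (hc : cj e (R h.toBas) = R h.toBas) :
    e ∈ R h.toBas := by
  rcases h.involution_cases hc hsq with h1 | ⟨v, _, h1 | h1 | h1⟩
  · exact h1
  · exact absurd (h1 ▸ h.cD v _ he) h.x1D
  · exact absurd (h1 ▸ h.cD v _ he) h.x2D
  · exact absurd (h1 ▸ h.cD v _ he) h.x3D

/-- elements of `S` normalising `R` are conjugate to `xi3` -/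
theorem S_conj [Finite K] {s : K} (hs : s ∈ S) (hsq : s * s = 1) (hc : cj s (R h.toBas) = R h.toBas) :
    ∃ v, cj v (R h.toBas) = R h.toBas ∧ v * s * v⁻¹ = xi3 k γ := by
  rcases h.involution_cases hc hsq with ⟨m, hm, rfl⟩ | ⟨v, hv, h1 | h1 | h1⟩
  · exact absurd hs (h.not_mem_S hm)
  · exact absurd (h1 ▸ h.cS v _ hs) h.x1S
  · exact absurd (h1 ▸ h.cS v _ hs) h.x2S
  · exact ⟨v, hv, h1⟩

/-- an element of the class `DD` is conjugate to `k 0` -/
theorem D_conj [Finite K] {e : K} (he : e ∈ D) (hR : e ∈ R h.toBas) :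
    ∃ v, cj v (R h.toBas) = R h.toBas ∧ v * e * v⁻¹ = k 0 := by
  obtain ⟨m, hm, rfl⟩ := hR
  obtain ⟨w, hw, rfl⟩ := exists_DW (h.mem_DD hm he)
  refine ⟨evw γ w, h.cj_evw w, ?_⟩
  rw [h.r_DD]; group

/-! ### The centraliser of `xi3` -/

theorem lift3 {w : List ℕ} (hw : w ∈ C3W) :
    ∃ j < 256, (r k j * evw γ w) * xi3 k γ * (r k j * evw γ w)⁻¹ = xi3 k γ := by
  have e : mul (mw w) M3 = mul M3 (mw w) :=
    Nat.eq_of_beq_eq_true (List.all_eq_true.1 chkCM _ (mem_C3M hw))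
  exact h.transfer h.acts_xi3 h.sq3 chkK3 (fun _ => h.xi3_W) h.sq3 h.acts_xi3 (h.toBas.acts_evw w) e

set_option linter.unusedSectionVars false in
theorem fix3_spec {m : ℕ} (hm : m ∈ fix3) : app M3 m = m ∧ m < 256 := by
  have h1 := List.all_eq_true.1 chkFix3 m hm
  rw [Bool.and_eq_true] at h1
  exact ⟨Nat.eq_of_beq_eq_true h1.1, by have := h1.2; rwa [Nat.blt_eq] at this⟩

theorem comm_of_app {x : K} {P m : ℕ} (hx : Acts k x P) (hm : app P m = m) : r k m * x = x * r k m := by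
  have h1 := h.toBas.acts_r hx m
  rw [hm] at h1
  calc r k m * x = x * (x⁻¹ * r k m * x) := by group
    _ = x * r k m := by rw [h1]

theorem cent3 [Finite K] {x : K} (hx : x * xi3 k γ = xi3 k γ * x) :
    ∃ m < 256, ∃ w ∈ C3W, ∃ o ∈ W, x = r k m * evw γ w * o := by
  classical
  have hC : C3W.Nodup := List.Nodup.of_map mw (by rw [chkC]; exact nodupC)
  choose f hf hfe using fun (w : {w // w ∈ C3W}) => h.lift3 w.2
  have hmem : ∀ y, y * xi3 k γ * y⁻¹ = xi3 k γ → y ∈ Subgroup.centralizer {xi3 k γ} := by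
    intro y hy
    rw [Subgroup.mem_centralizer_singleton_iff]
    calc y * xi3 k γ = y * xi3 k γ * y⁻¹ * y := by group
      _ = xi3 k γ * y := by rw [hy]
  have l16 : fix3.length = 16 := rfl
  have l120 : C3W.length = 120 := by decide +kernel
  let F : Fin fix3.length × Fin C3W.length × W → Subgroup.centralizer {xi3 k γ} := fun a =>
    ⟨r k (fix3.get a.1) * (r k (f ⟨C3W.get a.2.1, List.get_mem _ _⟩) * evw γ (C3W.get a.2.1)) * (a.2.2 : K), by
      apply Subgroup.mul_mem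
      · apply Subgroup.mul_mem
        · rw [Subgroup.mem_centralizer_singleton_iff]
          exact h.comm_of_app h.acts_xi3 (h.fix3_spec (List.get_mem _ _)).1
        · exact hmem _ (hfe ⟨C3W.get a.2.1, List.get_mem _ _⟩)
      · rw [Subgroup.mem_centralizer_singleton_iff]
        exact h.xi3_W a.2.2.2⟩
  have hFi : Function.Injective F := by
    rintro ⟨a, b, o⟩ ⟨a', b', o'⟩ hab
    have h1 : r k (fix3.get a) * (r k (f ⟨C3W.get b, List.get_mem _ _⟩) * evw γ (C3W.get b)) * (o : K)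
        = r k (fix3.get a') * (r k (f ⟨C3W.get b', List.get_mem _ _⟩) * evw γ (C3W.get b')) * (o' : K) :=
      congrArg Subtype.val hab
    have hA1 : Acts k (r k (fix3.get a) * (r k (f ⟨C3W.get b, List.get_mem _ _⟩) * evw γ (C3W.get b)) * (o : K))
        (mw (C3W.get b)) := h.acts_mulW (h.toBas.acts_rmul (h.toBas.acts_rmul (h.toBas.acts_evw _) _) _) o.2
    have hA2 : Acts k (r k (fix3.get a') * (r k (f ⟨C3W.get b', List.get_mem _ _⟩) * evw γ (C3W.get b')) * (o' : K))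
        (mw (C3W.get b')) := h.acts_mulW (h.toBas.acts_rmul (h.toBas.acts_rmul (h.toBas.acts_evw _) _) _) o'.2
    rw [← h1] at hA2
    have h2 : mw (C3W.get b) = mw (C3W.get b') :=
      pack_ext (mw_lt _) (mw_lt _) fun i hi => h.toBas.acts_unique hA1 hA2 hi
    have h3 : C3W.get b = C3W.get b' := mwC_injOn (List.get_mem _ _) (List.get_mem _ _) h2
    have h4 : b = b' := (List.nodup_iff_injective_get.1 hC) h3
    subst h4
    obtain ⟨y, hy⟩ : ∃ y, y = r k (f ⟨C3W.get b, List.get_mem _ _⟩) * evw γ (C3W.get b) := ⟨_, rfl⟩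
    rw [← hy] at h1
    have hyW : ∀ o : K, o ∈ W → y * o = o * y := by
      intro o ho
      rw [hy, mul_assoc, ← h.W_evw ho, ← mul_assoc, ← h.W_r ho, mul_assoc]
    have h5 : r k (fix3.get a) * (o : K) = r k (fix3.get a') * (o' : K) := by
      apply mul_right_cancel (b := y)
      calc r k (fix3.get a) * (o : K) * y = r k (fix3.get a) * (y * (o : K)) := by rw [hyW _ o.2, mul_assoc]
        _ = r k (fix3.get a') * (y * (o' : K)) := by rw [← mul_assoc, h1, mul_assoc]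
        _ = r k (fix3.get a') * (o' : K) * y := by rw [hyW _ o'.2, mul_assoc]
    have h6 : (o : K) * (o' : K)⁻¹ = r k (fix3.get a ^^^ fix3.get a') := by
      rw [h.toBas.r_xor, ← h.toBas.r_inv (fix3.get a)]
      calc (o : K) * (o' : K)⁻¹ = (r k (fix3.get a))⁻¹ * (r k (fix3.get a) * (o : K)) * (o' : K)⁻¹ := by group
        _ = (r k (fix3.get a))⁻¹ * (r k (fix3.get a') * (o' : K)) * (o' : K)⁻¹ := by rw [h5]
        _ = (r k (fix3.get a))⁻¹ * r k (fix3.get a') := by group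
    have h7 : (o : K) * (o' : K)⁻¹ = 1 := h.W_eq_r (W.mul_mem o.2 (W.inv_mem o'.2)) h6
    have h8 : (o : K) = (o' : K) := mul_inv_eq_one.1 h7
    have h9 : o = o' := Subtype.ext h8
    subst h9
    have h10 : r k (fix3.get a) = r k (fix3.get a') := mul_right_cancel h5
    have h11 : fix3.get a = fix3.get a' :=
      h.toBas.r_inj (h.fix3_spec (List.get_mem _ _)).2 (h.fix3_spec (List.get_mem _ _)).2 h10
    have h12 : a = a' := (List.nodup_iff_injective_get.1 nodupFix3) h11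
    rw [h12]
  have hcard : Nat.card (Subgroup.centralizer {xi3 k γ}) ≤ Nat.card (Fin fix3.length × Fin C3W.length × W) := by
    rw [Nat.card_prod, Nat.card_prod, Nat.card_fin, Nat.card_fin, l16, l120, ← mul_assoc]
    exact h.card3
  have hb := hFi.bijective_of_nat_card_le hcard
  obtain ⟨⟨a, b, o⟩, hab⟩ := hb.2 ⟨x, Subgroup.mem_centralizer_singleton_iff.2 hx⟩
  have h1 := congrArg Subtype.val hab
  have h2 : x = r k (fix3.get a) * (r k (f ⟨C3W.get b, List.get_mem _ _⟩) * evw γ (C3W.get b)) * (o : K) := h1.symm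
  refine ⟨fix3.get a ^^^ f ⟨C3W.get b, List.get_mem _ _⟩, ?_, C3W.get b, List.get_mem _ _, o, o.2, ?_⟩
  · exact Nat.xor_lt_two_pow (n := 8) (h.fix3_spec (List.get_mem _ _)).2 (hf _)
  · rw [h2, h.toBas.r_xor]
    simp only [mul_assoc]

theorem cj_of_comm3 [Finite K] {x : K} (hx : x * xi3 k γ = xi3 k γ * x) : cj x (R h.toBas) = R h.toBas := by
  obtain ⟨m, hm, w, _, o, ho, rfl⟩ := h.cent3 hx
  exact h.cj_mul_of (h.cj_mul_of (h.cj_r hm) (h.cj_evw w)) (h.cj_W ho)

/-! ### The number of elements of `D ∩ R` commuting with an element -/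

/-- number of elements of `D ∩ R` commuting with `x` -/
noncomputable def cnt (h : HypW k γ D S W) (x : K) : ℕ := Set.ncard {e : K | e ∈ D ∧ e ∈ R h.toBas ∧ e * x = x * e}

theorem cnt_conj {v : K} (hv : cj v (R h.toBas) = R h.toBas) (x : K) : h.cnt (v * x * v⁻¹) = h.cnt x := by
  unfold cnt
  have hv' := h.cj_inv_of hv
  rw [← Set.ncard_image_of_injective {e : K | e ∈ D ∧ e ∈ R h.toBas ∧ e * x = x * e}
    (f := fun e => v * e * v⁻¹) (by intro a b hab; simpa using hab)]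
  congr 1
  ext e
  simp only [Set.mem_ofPred_eq, Set.mem_image]
  constructor
  · rintro ⟨h1, h2, h3⟩
    refine ⟨v⁻¹ * e * v, ⟨h.cD.inv h1, h.conj_mem hv h2, ?_⟩, by group⟩
    calc v⁻¹ * e * v * x = v⁻¹ * (e * (v * x * v⁻¹)) * v := by group
      _ = v⁻¹ * ((v * x * v⁻¹) * e) * v := by rw [h3]
      _ = x * (v⁻¹ * e * v) := by group
  · rintro ⟨e', ⟨h1, h2, h3⟩, rfl⟩
    refine ⟨h.cD v _ h1, ?_, ?_⟩
    · have := h.conj_mem hv' h2
      simpa using this
    · calc v * e' * v⁻¹ * (v * x * v⁻¹) = v * (e' * x) * v⁻¹ := by group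
        _ = v * (x * e') * v⁻¹ := by rw [h3]
        _ = v * x * v⁻¹ * (v * e' * v⁻¹) := by group

theorem cnt_acts {x : K} {M : ℕ} (hx : Acts k x M) : h.cnt x = cntD M := by
  classical
  unfold cnt cntD
  set l := DD.filter (fun m => Nat.beq (app M m) m) with hl
  have hnd : l.Nodup := List.Nodup.filter _ nodupD
  have e1 : {e : K | e ∈ D ∧ e ∈ R h.toBas ∧ e * x = x * e} = (r k) '' {m | m ∈ l} := by
    ext e
    simp only [Set.mem_ofPred_eq, Set.mem_image]
    constructor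
    · rintro ⟨h1, ⟨m, hm, rfl⟩, h3⟩
      refine ⟨m, ?_, rfl⟩
      rw [hl, List.mem_filter]
      refine ⟨h.mem_DD hm h1, ?_⟩
      have h4 : r k (app M m) = r k m := by
        rw [← h.toBas.acts_r hx, mul_assoc, h3]; group
      rw [h.toBas.r_inj (app_lt _ _) hm h4]
      exact Nat.beq_refl m
    · rintro ⟨m, hm, rfl⟩
      rw [hl, List.mem_filter] at hm
      exact ⟨h.mem_D_of_DD hm.1, r_mem_R _ (DD_lt hm.1), h.comm_of_app hx (Nat.eq_of_beq_eq_true hm.2)⟩
  rw [e1, Set.InjOn.ncard_image]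
  · have e2 : {m | m ∈ l} = (l.toFinset : Set ℕ) := by ext m; simp
    rw [e2, Set.ncard_coe_finset, List.toFinset_card_of_nodup hnd]
  · intro a ha b hb hab
    have ha' : a ∈ l := ha
    have hb' : b ∈ l := hb
    rw [hl, List.mem_filter] at ha' hb'
    exact h.toBas.r_inj (DD_lt ha'.1) (DD_lt hb'.1) hab

theorem cnt_xi1 : h.cnt (xi1 γ) = 0 := by rw [h.cnt_acts h.acts_xi1, cnt1]
theorem cnt_xi2 : h.cnt (xi2 k γ) = 4 := by rw [h.cnt_acts h.acts_xi2, cnt2]
theorem cnt_xi3 : h.cnt (xi3 k γ) = 10 := by rw [h.cnt_acts h.acts_xi3, cnt3]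

theorem cnt_S [Finite K] {s : K} (hs : s ∈ S) (hc : cj s (R h.toBas) = R h.toBas) : h.cnt s = 10 := by
  obtain ⟨v, hv, e⟩ := h.S_conj hs (h.sqS s hs) hc
  rw [← h.cnt_conj hv, e, h.cnt_xi3]

/-! ### The fields of the closing lemma -/

theorem f_sq : ∀ x ∈ R h.toBas, x * x = 1 := by
  rintro _ ⟨m, _, rfl⟩
  exact h.toBas.r_sq m

theorem f_DR [Finite K] : ∀ e ∈ D, cj e (R h.toBas) = R h.toBas → e ∈ R h.toBas :=
  fun e he hc => h.DR he (h.sqD e he) hc

theorem f_uD [Finite K] : ∀ e ∈ D, cj e (R h.toBas) = R h.toBas → ∀ g,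
    cj e (cj g (R h.toBas)) = cj g (R h.toBas) → cj g (R h.toBas) = R h.toBas := by
  intro e he hc g hg
  have h1 := cj_conj' hg
  have he1 : g⁻¹ * e * g ∈ D := h.cD.inv he
  obtain ⟨v, hv, e1⟩ := h.D_conj he (h.f_DR e he hc)
  obtain ⟨v', hv', e2⟩ := h.D_conj he1 (h.f_DR _ he1 h1)
  have h2 : (v * g * v'⁻¹) * k 0 = k 0 * (v * g * v'⁻¹) := by
    calc (v * g * v'⁻¹) * k 0 = (v * g * v'⁻¹) * (v' * (g⁻¹ * e * g) * v'⁻¹) := by rw [e2]
      _ = (v * e * v⁻¹) * (v * g * v'⁻¹) := by group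
      _ = k 0 * (v * g * v'⁻¹) := by rw [e1]
  have h3 := h.cj_of_comm0 h2
  have h4 : g = v⁻¹ * (v * g * v'⁻¹) * v' := by group
  rw [h4]
  exact h.cj_mul_of (h.cj_mul_of (h.cj_inv_of hv) h3) hv'

theorem f_uS [Finite K] : ∀ e ∈ S, cj e (R h.toBas) = R h.toBas → ∀ g,
    cj e (cj g (R h.toBas)) = cj g (R h.toBas) → cj g (R h.toBas) = R h.toBas := by
  intro e he hc g hg
  have h1 := cj_conj' hg
  have he1 : g⁻¹ * e * g ∈ S := h.cS.inv he
  obtain ⟨v, hv, e1⟩ := h.S_conj he (h.sqS e he) hc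
  obtain ⟨v', hv', e2⟩ := h.S_conj he1 (h.sqS _ he1) h1
  have h2 : (v * g * v'⁻¹) * xi3 k γ = xi3 k γ * (v * g * v'⁻¹) := by
    calc (v * g * v'⁻¹) * xi3 k γ = (v * g * v'⁻¹) * (v' * (g⁻¹ * e * g) * v'⁻¹) := by rw [e2]
      _ = (v * e * v⁻¹) * (v * g * v'⁻¹) := by group
      _ = xi3 k γ * (v * g * v'⁻¹) := by rw [e1]
  have h3 := h.cj_of_comm3 h2
  have h4 : g = v⁻¹ * (v * g * v'⁻¹) * v' := by group
  rw [h4]
  exact h.cj_mul_of (h.cj_mul_of (h.cj_inv_of hv) h3) hv'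

theorem f_neD : ∃ e ∈ D, e ∈ R h.toBas := ⟨k 0, h.k0D, h.toBas.k0_mem⟩

theorem f_neS [Finite K] : ∃ s ∈ S, cj s (R h.toBas) = R h.toBas :=
  ⟨xi3 k γ, h.x3S, cj_of_acts h.acts_xi3⟩

theorem f_h6 [Finite K] : ∀ s ∈ S, cj s (R h.toBas) = R h.toBas → ∀ d ∈ D, d ∈ R h.toBas →
    s * d = d * s → s * d ∈ S := by
  intro s hs hsR d hd hdR hc
  have h1 : cj (s * d) (R h.toBas) = R h.toBas := h.cj_mul_of hsR (cj_of_mem hdR)
  have h2 : (s * d) * (s * d) = 1 := by
    calc (s * d) * (s * d) = s * (d * s) * d := by group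
      _ = s * (s * d) * d := by rw [hc]
      _ = (s * s) * (d * d) := by group
      _ = 1 := by rw [h.sqS s hs, h.sqD d hd, one_mul]
  have h3 : h.cnt (s * d) = 10 := by
    rw [← h.cnt_S hs hsR]
    unfold cnt
    congr 1
    ext e
    simp only [Set.mem_ofPred_eq]
    refine and_congr_right fun _ => and_congr_right fun heR => ?_
    obtain ⟨m, _, rfl⟩ := heR
    obtain ⟨m', _, rfl⟩ := hdR
    have hcomm := h.toBas.r_comm m m'
    constructor
    · intro h4
      apply mul_right_cancel (b := r k m')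
      rw [mul_assoc, h4, mul_assoc, mul_assoc, hcomm]
    · intro h4
      rw [← mul_assoc, h4, mul_assoc, mul_assoc, hcomm]
  rcases h.involution_cases h1 h2 with h4 | ⟨v, hv, h4 | h4 | h4⟩
  · exfalso
    have h5 : s ∈ R h.toBas := by
      have := (R h.toBas).mul_mem h4 ((R h.toBas).inv_mem hdR)
      simpa using this
    obtain ⟨m, hm, e⟩ := h5
    exact h.not_mem_S hm (e ▸ hs)
  · rw [← h.cnt_conj hv, h4, h.cnt_xi1] at h3; exact absurd h3 (by norm_num)
  · rw [← h.cnt_conj hv, h4, h.cnt_xi2] at h3; exact absurd h3 (by norm_num)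
  · have h5 : s * d = v⁻¹ * xi3 k γ * v := by rw [← h4]; group
    rw [h5]
    exact h.cS.inv h.x3S

theorem f_h7 [Finite K] : ∀ s ∈ S, cj s (R h.toBas) = R h.toBas → ∀ s' ∈ S, cj s' (R h.toBas) = R h.toBas →
    s * s' = s' * s → ∃ d ∈ D, d ∈ R h.toBas ∧ d * (s * s') = (s * s') * d := by
  intro s hs hsR s' hs' hsR' hc
  obtain ⟨v, hv, e⟩ := h.S_conj hs (h.sqS s hs) hsR
  set t := v * s' * v⁻¹ with ht
  have htS : t ∈ S := h.cS v _ hs'
  have htR : cj t (R h.toBas) = R h.toBas := h.cj_mul_of (h.cj_mul_of hv hsR') (h.cj_inv_of hv)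
  have htc : t * xi3 k γ = xi3 k γ * t := by
    rw [← e, ht]
    calc v * s' * v⁻¹ * (v * s * v⁻¹) = v * (s' * s) * v⁻¹ := by group
      _ = v * (s * s') * v⁻¹ := by rw [hc]
      _ = v * s * v⁻¹ * (v * s' * v⁻¹) := by group
  obtain ⟨m, hm, w, hw, o, ho, e2⟩ := h.cent3 htc
  have htA : Acts k t (mw w) := by rw [e2]; exact h.acts_mulW (h.toBas.acts_rmul (h.toBas.acts_evw w) m) ho
  have hc10 : cntD (mw w) = 10 := by rw [← h.cnt_acts htA, h.cnt_S htS htR]
  have hI : mul (mw w) (mw w) = MI := by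
    have h1 := h.toBas.acts_mul htA htA
    rw [h.sqS t htS] at h1
    exact pack_ext (mul_lt _ _) MI_lt fun i hi => h.toBas.acts_unique h1 Bas.acts_one hi
  have h2 := List.all_eq_true.1 chkH7 _ (mem_C3M hw)
  rw [hI, hc10, force_eq] at h2
  simp only [Nat.beq_refl, Bool.and_self, cond_true] at h2
  obtain ⟨d, hd, hde⟩ := fixD_spec h2
  have h3 := h.comm_of_app (h.toBas.acts_mul h.acts_xi3 htA) hde
  refine ⟨v⁻¹ * r k d * v, h.cD.inv (h.mem_D_of_DD hd), h.conj_mem hv (r_mem_R _ (DD_lt hd)), ?_⟩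
  have h4 : xi3 k γ * t = v * (s * s') * v⁻¹ := by rw [← e, ht]; group
  rw [h4] at h3
  calc v⁻¹ * r k d * v * (s * s') = v⁻¹ * (r k d * (v * (s * s') * v⁻¹)) * v := by group
    _ = v⁻¹ * ((v * (s * s') * v⁻¹) * r k d) * v := by rw [h3]
    _ = s * s' * (v⁻¹ * r k d * v) := by group

/-- matrices of the elements of `S` normalising `R` -/
theorem acts_SL [Finite K] {s : K} (hs : s ∈ S) (hc : cj s (R h.toBas) = R h.toBas) :
    ∃ t ∈ SL, Acts k s t.1 := by
  obtain ⟨m, hm, w, hw, w', hw', o, ho, e⟩ := h.nf_of_cj hc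
  have hA : Acts k s (mul (mw w) (mw w')) := by rw [e]; exact h.acts_nf m w w' ho
  have hI : mul (mul (mw w) (mw w')) (mul (mw w) (mw w')) = MI := by
    have h1 := h.toBas.acts_mul hA hA
    rw [h.sqS s hs] at h1
    exact pack_ext (mul_lt _ _) MI_lt fun i hi => h.toBas.acts_unique h1 Bas.acts_one hi
  have h1 := List.all_eq_true.1 (List.all_eq_true.1 chkClsS _ (mem_S5M hw)) _ (mem_DM hw')
  rw [force_eq] at h1
  unfold clsS at h1
  rw [force_eq, hI, Nat.beq_refl, cond_true, ← h.cnt_acts hA, h.cnt_S hs hc, Nat.beq_refl, cond_true,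
    List.any_eq_true] at h1
  obtain ⟨t, ht, hte⟩ := h1
  refine ⟨t, ht, ?_⟩
  rw [Nat.eq_of_beq_eq_true hte]
  exact hA

/-- every matrix of the list `SL` is the matrix of an element of `S` -/
theorem exists_SL [Finite K] {t : ℕ × List ℕ} (ht : t ∈ SL) :
    ∃ s ∈ S, cj s (R h.toBas) = R h.toBas ∧ Acts k s t.1 := by
  have e := cjw_spec (List.all_eq_true.1 chkSL _ ht)
  have hv := h.cj_evw t.2
  have hA := h.toBas.acts_mul h.acts_xi3 (h.toBas.acts_evw t.2)
  refine ⟨(evw γ t.2)⁻¹ * xi3 k γ * evw γ t.2, h.cS.inv h.x3S,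
    h.cj_mul_of (h.cj_mul_of (h.cj_inv_of hv) (cj_of_acts h.acts_xi3)) hv, ?_⟩
  intro i hi
  have hk : k i ∈ R h.toBas := by rw [← Bas.r_pow (k := k) hi]; exact r_mem_R _ (by interval_cases i <;> norm_num)
  obtain ⟨m, hm, hme⟩ := h.conj_mem (h.cj_inv_of hv) hk
  rw [inv_inv] at hme
  have h1 : app (mw t.2) m = 2 ^ i := by
    apply h.toBas.r_inj (app_lt _ _) (by interval_cases i <;> norm_num)
    rw [← h.toBas.acts_r (h.toBas.acts_evw t.2), ← hme, Bas.r_pow hi]
    group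
  have h2 := h.toBas.acts_r hA m
  rw [← e, app_mul, h1, app_pow _ hi, ← hme] at h2
  rw [← h2]
  group

end HypW

end Cfsg.Agent.HN.XStructW
end

-- part: HN/XCloseW
section
/-!
# Closing: the normal form of all elements of `K = C_G(w)/⟨w⟩`, version with a kernel of odd order

We put `XStructW.HypW` (structure of the normaliser of `R`) and `GoodMask` (the ten good subspaces) into the closing lemma
`Closing.normal_of_cfg`.
-/

set_option autoImplicit false

namespace Cfsg.Agent.HN.XCloseW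

open Cfsg.Agent.HN.XMat Cfsg.Agent.HN.XStruct Cfsg.Agent.HN.XStructW Cfsg.Agent.HN.Closing Cfsg.Agent.HN.GoodMask

variable {K : Type*} [Group K] [Finite K] {k γ : ℕ → K} {D S : Set K} {W : Subgroup K}

theorem coord (h : HypW k γ D S W) : Coord D S (XStruct.R h.toBas) (r k) where
  zero := Bas.r_zero
  xor := fun a _ b _ => h.toBas.r_xor a b
  inj := fun _ ha _ hb e => h.toBas.r_inj ha hb e
  mem := fun x => by
    rw [mem_R]
    constructor
    · rintro ⟨m, hm, rfl⟩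
      exact ⟨m, hm, rfl⟩
    · rintro ⟨m, hm, rfl⟩
      exact ⟨m, hm, rfl⟩
  hD := fun m hm => h.mem_D_of_DD hm
  hS := fun s hs hc => by
    obtain ⟨t, ht, hA⟩ := h.acts_SL hs hc
    exact ⟨t, ht, fun m _ => h.toBas.acts_r hA m⟩
  hS' := fun t ht => by
    obtain ⟨s, hs, hc, hA⟩ := h.exists_SL ht
    exact ⟨s, hs, hc, fun m _ => h.toBas.acts_r hA m⟩

theorem cfg (h : HypW k γ D S W) : Cfg D S (XStruct.R h.toBas) where
  sq := h.f_sq
  DR := h.f_DR
  uD := h.f_uD
  uS := h.f_uS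
  neD := h.f_neD
  neS := h.f_neS
  h6 := h.f_h6
  h7 := fun s hs hc s' hs' hc' he _ => h.f_h7 s hs hc s' hs' hc' he
  g1 := (coord h).g1
  g2 := (coord h).g2
  g3 := (coord h).g3

/-- `R` is normal. -/
theorem cj_eq (h : HypW k γ D S W) (hdis : ∀ e ∈ D, e ∉ S) (x : K) : cj x (XStruct.R h.toBas) = XStruct.R h.toBas :=
  normal_of_cfg h.cD h.cS hdis h.sqD h.sqS (cfg h) x

/-- **Normal form of all elements of `K`.** -/
theorem normal_form (h : HypW k γ D S W) (hdis : ∀ e ∈ D, e ∉ S) (x : K) :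
    ∃ m < 256, ∃ w ∈ S5W, ∃ w' ∈ DW, ∃ o ∈ W, x = r k m * evw γ w * evw γ w' * o :=
  h.nf_of_cj (cj_eq h hdis x)

/-- `K` is generated by the basis of `R` and the acting elements. -/
theorem eq_top (h : HypW k γ D S W) (hdis : ∀ e ∈ D, e ∉ S) {L : Subgroup K} (hk : ∀ i < 8, k i ∈ L)
    (hg : ∀ g, γ g ∈ L) (hW : W ≤ L) : L = ⊤ := by
  rw [eq_top_iff]
  intro x _
  obtain ⟨m, _, w, _, w', _, o, ho, rfl⟩ := normal_form h hdis x
  exact L.mul_mem (L.mul_mem (L.mul_mem (XClose.rr_mem hk m 8 le_rfl) (XClose.evw_mem hg w))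
    (XClose.evw_mem hg w')) (hW ho)

/-- Every involution of `K` is conjugate to an element of `R` or to `xi1, xi2, xi3`. -/
theorem involution_cases (h : HypW k γ D S W) (hdis : ∀ e ∈ D, e ∉ S) {x : K} (hsq : x * x = 1) :
    x ∈ XStruct.R h.toBas ∨ ∃ v, v * x * v⁻¹ = xi1 γ ∨ v * x * v⁻¹ = xi2 k γ ∨ v * x * v⁻¹ = xi3 k γ := by
  rcases h.involution_cases (cj_eq h hdis x) hsq with h1 | ⟨v, _, h1⟩
  · exact Or.inl h1
  · exact Or.inr ⟨v, h1⟩

end Cfsg.Agent.HN.XCloseW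
end

-- part: HN/XCount
section
/-!
# Counting for the closing step: centralisers modulo a central involution

`π : C →* K` is a surjective homomorphism whose kernel is `{1, w}` with `w` central.  We bound the order of
`C_K(π s)` by the order of `C_C(s)`.  From `|C_K(k 0)| ≤ 30720` we get the field `cent0` of `XStruct.Hyp`.
-/

set_option autoImplicit false

namespace Cfsg.Agent.HN.XCount

open Subgroup

section quotient

variable {C K : Type*} [Group C] [Finite C] [Group K] {π : C →* K} {w : C}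

omit [Finite C] in
/-- the preimage of the centraliser of `π s` -/
theorem mem_comap_centralizer (hk : ∀ c, π c = 1 ↔ c = 1 ∨ c = w) {s c : C} :
    c ∈ (centralizer {π s}).comap π ↔ c * s * c⁻¹ = s ∨ c * s * c⁻¹ = w * s := by
  rw [mem_comap, mem_centralizer_singleton_iff]
  constructor
  · intro h
    have h1 : π (c * s * c⁻¹ * s⁻¹) = 1 := by
      rw [map_mul, map_mul, map_mul, map_inv, map_inv, h]; group
    rcases (hk _).1 h1 with h2 | h2
    · left
      rwa [mul_inv_eq_one] at h2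
    · right
      rw [← h2]; group
  · intro h
    have h1 : π (c * s * c⁻¹ * s⁻¹) = 1 := by
      rcases h with h | h
      · rw [h, mul_inv_cancel, map_one]
      · rw [h]
        have : w * s * s⁻¹ = w := by group
        rw [this]
        exact (hk w).2 (Or.inr rfl)
    rw [map_mul, map_mul, map_mul, map_inv, map_inv, mul_inv_eq_one, mul_inv_eq_iff_eq_mul] at h1
    exact h1

theorem card_comap (hπ : Function.Surjective π) (hw : w ≠ 1) (hk : ∀ c, π c = 1 ↔ c = 1 ∨ c = w)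
    (L : Subgroup K) : Nat.card (L.comap π) = 2 * Nat.card L := by
  have h1 : Nat.card π.ker = 2 := by
    have : (π.ker : Set C) = {1, w} := by
      ext c
      simp only [SetLike.mem_coe, MonoidHom.mem_ker, hk, Set.mem_insert_iff, Set.mem_singleton_iff]
    have h2 : Nat.card π.ker = Set.ncard (π.ker : Set C) := rfl
    rw [h2, this, Set.ncard_pair (Ne.symm hw)]
  have h3 := Subgroup.index_comap_of_surjective L hπ
  have h4 := (L.comap π).card_mul_index
  have h5 := L.card_mul_index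
  have h6 : Nat.card C = 2 * Nat.card K := by
    have h7 := π.ker.card_mul_index
    rw [h1, Subgroup.index_ker, MonoidHom.range_eq_top.2 hπ, Subgroup.card_top] at h7
    exact h7.symm
  have hfin : Finite K := Finite.of_surjective π hπ
  have h8 : 0 < L.index := Nat.pos_of_ne_zero L.index_ne_zero_of_finite
  rw [h3] at h4
  apply Nat.eq_of_mul_eq_mul_right h8
  rw [h4, h6, mul_assoc, h5]

/-- conjugation of `s` inside the preimage of the centraliser -/
theorem card_comap_le (hk : ∀ c, π c = 1 ↔ c = 1 ∨ c = w) {s : C} :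
    Nat.card ((centralizer {π s}).comap π) ≤ 2 * Nat.card (centralizer {s}) := by
  set B := (centralizer {π s}).comap π with hB
  have hle : centralizer {s} ≤ B := by
    intro c hc
    rw [hB, mem_comap_centralizer hk]
    left
    rw [mem_centralizer_singleton_iff] at hc
    rw [hc]; group
  by_cases h : ∃ b ∈ B, b * s * b⁻¹ ≠ s
  · obtain ⟨b, hb, hbs⟩ := h
    have hbw : b * s * b⁻¹ = w * s := by
      rcases (mem_comap_centralizer hk).1 hb with h1 | h1
      · exact absurd h1 hbs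
      · exact h1
    -- every element of `B` is in `centralizer s` or `b * centralizer s`
    have hcov : (B : Set C) ⊆ (centralizer {s} : Set C) ∪ (fun c => b * c) '' (centralizer {s} : Set C) := by
      intro c hc
      rcases (mem_comap_centralizer hk).1 hc with h1 | h1
      · left
        rw [SetLike.mem_coe, mem_centralizer_singleton_iff]
        rw [mul_inv_eq_iff_eq_mul] at h1
        exact h1
      · right
        refine ⟨b⁻¹ * c, ?_, by group⟩
        rw [SetLike.mem_coe, mem_centralizer_singleton_iff]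
        rw [← hbw] at h1
        have h2 : c * s = b * s * b⁻¹ * c := by rw [← h1]; group
        rw [mul_assoc, h2]; group
    have h2 := Set.ncard_le_ncard hcov (Set.toFinite _)
    have h3 := Set.ncard_union_le (centralizer {s} : Set C) ((fun c => b * c) '' (centralizer {s} : Set C))
    have h4 : Set.ncard ((fun c => b * c) '' (centralizer {s} : Set C)) ≤ Set.ncard (centralizer {s} : Set C) :=
      Set.ncard_image_le (Set.toFinite _)
    have h5 : Nat.card B = Set.ncard (B : Set C) := rfl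
    have h6 : Nat.card (centralizer {s} : Subgroup C) = Set.ncard (centralizer {s} : Set C) := rfl
    omega
  · have h7 : B ≤ centralizer {s} := by
      intro c hc
      by_contra hcs
      apply h
      refine ⟨c, hc, fun h1 => hcs ?_⟩
      rw [mem_centralizer_singleton_iff]
      rw [mul_inv_eq_iff_eq_mul] at h1
      exact h1
    have h8 : Nat.card B ≤ Nat.card (centralizer {s}) := Subgroup.card_le_of_le h7
    omega

/-- `|C_K(π s)| ≤ |C_C(s)|`. -/
theorem card_centralizer_le (hπ : Function.Surjective π) (hw : w ≠ 1) (hk : ∀ c, π c = 1 ↔ c = 1 ∨ c = w)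
    {s : C} : Nat.card (centralizer {π s}) ≤ Nat.card (centralizer {s}) := by
  have h1 := card_comap hπ hw hk (centralizer {π s})
  have h2 := card_comap_le hk (s := s)
  omega

/-- `2 |C_K(π s)| ≤ |C_C(s)|` if `s` and `w s` are not conjugate. -/
theorem two_card_centralizer_le (hπ : Function.Surjective π) (hw : w ≠ 1) (hk : ∀ c, π c = 1 ↔ c = 1 ∨ c = w)
    {s : C} (hs : ¬ IsConj s (w * s)) : 2 * Nat.card (centralizer {π s}) ≤ Nat.card (centralizer {s}) := by
  rw [← card_comap hπ hw hk]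
  apply Subgroup.card_le_of_le
  intro c hc
  rcases (mem_comap_centralizer hk).1 hc with h1 | h1
  · rw [mem_centralizer_singleton_iff]
    rw [mul_inv_eq_iff_eq_mul] at h1
    exact h1
  · exact absurd (isConj_iff.2 ⟨c, h1⟩) hs

end quotient

/-! ### The field `cent0` -/

section cent0

open Cfsg.Agent.HN.XMat Cfsg.Agent.HN.XStruct

variable {K : Type*} [Group K] [Finite K] {k γ : ℕ → K}

theorem chkRow0 : S5M.all (fun M => Nat.beq (row M 0) 1) = true := by decide +kernel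

theorem card_S5W : S5W.length = 120 := by decide +kernel

theorem nodup_S5W : S5W.Nodup := by decide +kernel

omit [Finite K] in
theorem evw_comm (h : Bas k γ) {w : List ℕ} (hw : w ∈ S5W) : evw γ w * k 0 = k 0 * evw γ w := by
  have h1 := h.acts_evw w 0 (by norm_num)
  rw [Nat.eq_of_beq_eq_true (List.all_eq_true.1 chkRow0 _ (mem_S5M hw)), Bas.r_one] at h1
  have h2 : k 0 * evw γ w = evw γ w * ((evw γ w)⁻¹ * k 0 * evw γ w) := by group
  rw [h2, h1]

/-- the field `cent0` from the order of the centraliser of `k 0` -/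
theorem cent0_of_card (h : Bas k γ) (hc : Nat.card (centralizer {k 0}) ≤ 30720) {x : K} (hx : x * k 0 = k 0 * x) :
    ∃ m < 256, ∃ w ∈ S5W, x = r k m * evw γ w := by
  classical
  obtain ⟨P, hP, hPm⟩ : ∃ P : Finset (ℕ × List ℕ), P.card = 30720 ∧ ∀ p, p ∈ P ↔ p.1 < 256 ∧ p.2 ∈ S5W := by
    refine ⟨(Finset.range 256) ×ˢ S5W.toFinset, ?_, fun p => ?_⟩
    · have e1 : ((Finset.range 256) ×ˢ S5W.toFinset).card = (Finset.range 256).card * S5W.toFinset.card :=
        Finset.card_product _ _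
      rw [e1, Finset.card_range, List.toFinset_card_of_nodup nodup_S5W, card_S5W]
    · rw [Finset.mem_product, Finset.mem_range, List.mem_toFinset]
  obtain ⟨f, hfd⟩ : ∃ f : ℕ × List ℕ → K, ∀ p, f p = r k p.1 * evw γ p.2 := ⟨_, fun _ => rfl⟩
  have hf : ∀ p ∈ P, f p ∈ (centralizer {k 0} : Subgroup K) := by
    rintro ⟨m, w⟩ hp
    have hp2 := (hPm _).1 hp
    rw [mem_centralizer_singleton_iff, hfd]
    change r k m * evw γ w * k 0 = k 0 * (r k m * evw γ w)
    rw [mul_assoc, evw_comm h hp2.2, ← mul_assoc, h.k_comm_r (by norm_num), mul_assoc]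
  have hinj : Set.InjOn f P := by
    rintro ⟨m, w⟩ hp ⟨m', w'⟩ hp' e
    have hp2 := (hPm _).1 (Finset.mem_coe.1 hp)
    have hp2' := (hPm _).1 (Finset.mem_coe.1 hp')
    rw [hfd, hfd] at e
    change r k m * evw γ w = r k m' * evw γ w' at e
    have a1 := h.acts_rmul (h.acts_evw w) m
    have a2 := h.acts_rmul (h.acts_evw w') m'
    rw [← e] at a2
    have e1 : mw w = mw w' := pack_ext (mw_lt _) (mw_lt _) fun i hi => h.acts_unique a1 a2 hi
    have e2 := mw_injOn hp2.2 hp2'.2 e1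
    subst e2
    have e3 : m = m' := h.r_inj hp2.1 hp2'.1 (mul_right_cancel e)
    rw [e3]
  have h1 : (P.image f).card = 30720 := by rw [Finset.card_image_of_injOn hinj, hP]
  have h2 : (↑(P.image f) : Set K) = (centralizer {k 0} : Set K) := by
    apply Set.eq_of_subset_of_ncard_le
    · intro y hy
      obtain ⟨p, hp, hpy⟩ := Finset.mem_image.1 (Finset.mem_coe.1 hy)
      rw [← hpy]
      exact hf p hp
    · rw [Set.ncard_coe_finset, h1]
      exact hc
    · exact Set.toFinite _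
  have h3 : x ∈ (↑(P.image f) : Set K) := by
    rw [h2, SetLike.mem_coe, mem_centralizer_singleton_iff]
    exact hx
  obtain ⟨⟨m, w⟩, hp, hx'⟩ := Finset.mem_image.1 (Finset.mem_coe.1 h3)
  have hp2 := (hPm _).1 hp
  exact ⟨m, hp2.1, w, hp2.2, by rw [← hx', hfd]⟩

omit [Finite K] in
theorem W_comm_rr {W : Subgroup K} (Wk : ∀ o ∈ W, ∀ i < 8, o * k i = k i * o) {o : K} (ho : o ∈ W) (m : ℕ) :
    ∀ n ≤ 8, o * rr k m n = rr k m n * o := by
  intro n
  induction n with
  | zero => intro _; rw [rr_zero, one_mul, mul_one]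
  | succ n ih =>
    intro hn
    rw [rr_succ]
    split
    · rw [← mul_assoc, ih (by omega), mul_assoc, Wk o ho n (by omega), mul_assoc]
    · rw [mul_one, ih (by omega)]

omit [Finite K] in
theorem W_comm_evw {W : Subgroup K} (Wγ : ∀ o ∈ W, ∀ g, o * γ g = γ g * o) {o : K} (ho : o ∈ W) (w : List ℕ) :
    o * evw γ w = evw γ w * o := by
  induction w with
  | nil => rw [evw_nil, one_mul, mul_one]
  | cons g w ih => rw [evw_cons, ← mul_assoc, Wγ o ho g, mul_assoc, ih, mul_assoc]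

/-- the field `cent0` of `XStructW.HypW` from the order of the centraliser of `k 0` -/
theorem cent0W_of_card (h : Bas k γ) {W : Subgroup K} (hodd : Odd (Nat.card W))
    (Wk : ∀ o ∈ W, ∀ i < 8, o * k i = k i * o) (Wγ : ∀ o ∈ W, ∀ g, o * γ g = γ g * o)
    (hc : Nat.card (centralizer {k 0}) ≤ 30720 * Nat.card W) {x : K} (hx : x * k 0 = k 0 * x) :
    ∃ m < 256, ∃ w ∈ S5W, ∃ o ∈ W, x = r k m * evw γ w * o := by
  classical
  have hWr : ∀ o ∈ W, ∀ m, o * r k m = r k m * o := fun o ho m => W_comm_rr Wk ho m 8 le_rfl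
  obtain ⟨P, hP, hPm⟩ : ∃ P : Finset ((ℕ × List ℕ) × K), P.card = 30720 * Nat.card W ∧
      ∀ p, p ∈ P ↔ (p.1.1 < 256 ∧ p.1.2 ∈ S5W) ∧ p.2 ∈ W := by
    refine ⟨((Finset.range 256) ×ˢ S5W.toFinset) ×ˢ (Set.toFinite (W : Set K)).toFinset, ?_, fun p => ?_⟩
    · have e1 : (((Finset.range 256) ×ˢ S5W.toFinset) ×ˢ (Set.toFinite (W : Set K)).toFinset).card =
          ((Finset.range 256) ×ˢ S5W.toFinset).card * (Set.toFinite (W : Set K)).toFinset.card :=
        Finset.card_product _ _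
      have e2 : ((Finset.range 256) ×ˢ S5W.toFinset).card = (Finset.range 256).card * S5W.toFinset.card :=
        Finset.card_product _ _
      have e3 : (Set.toFinite (W : Set K)).toFinset.card = Nat.card W := by
        rw [← Set.ncard_eq_toFinset_card]; rfl
      rw [e1, e2, e3, Finset.card_range, List.toFinset_card_of_nodup nodup_S5W, card_S5W]
    · rw [Finset.mem_product, Finset.mem_product, Finset.mem_range, List.mem_toFinset, Set.Finite.mem_toFinset,
        SetLike.mem_coe]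
  obtain ⟨f, hfd⟩ : ∃ f : (ℕ × List ℕ) × K → K, ∀ p, f p = r k p.1.1 * evw γ p.1.2 * p.2 := ⟨_, fun _ => rfl⟩
  have hf : ∀ p ∈ P, f p ∈ (centralizer {k 0} : Subgroup K) := by
    rintro ⟨⟨m, w⟩, o⟩ hp
    have hp2 := (hPm _).1 hp
    rw [mem_centralizer_singleton_iff, hfd]
    change r k m * evw γ w * o * k 0 = k 0 * (r k m * evw γ w * o)
    calc r k m * evw γ w * o * k 0 = r k m * evw γ w * (o * k 0) := by group
      _ = r k m * (evw γ w * k 0) * o := by rw [Wk o hp2.2 0 (by norm_num)]; group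
      _ = (r k m * k 0) * evw γ w * o := by rw [evw_comm h hp2.1.2]; group
      _ = k 0 * (r k m * evw γ w * o) := by rw [h.k_comm_r (by norm_num)]; group
  have hinj : Set.InjOn f P := by
    rintro ⟨⟨m, w⟩, o⟩ hp ⟨⟨m', w'⟩, o'⟩ hp' e
    have hp2 := (hPm _).1 (Finset.mem_coe.1 hp)
    have hp2' := (hPm _).1 (Finset.mem_coe.1 hp')
    rw [hfd, hfd] at e
    change r k m * evw γ w * o = r k m' * evw γ w' * o' at e
    have act : ∀ {y : K} {Q : ℕ} {c : K}, Acts k y Q → c ∈ W → Acts k (y * c) Q := by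
      intro y Q c hy hcW i hi
      calc (y * c)⁻¹ * k i * (y * c) = c⁻¹ * (y⁻¹ * k i * y) * c := by group
        _ = c⁻¹ * (r k (row Q i) * c) := by rw [hy i hi]; group
        _ = r k (row Q i) := by rw [← hWr c hcW]; group
    have a1 := act (h.acts_rmul (h.acts_evw w) m) hp2.2
    have a2 := act (h.acts_rmul (h.acts_evw w') m') hp2'.2
    rw [← e] at a2
    have e1 : mw w = mw w' := pack_ext (mw_lt _) (mw_lt _) fun i hi => h.acts_unique a1 a2 hi
    have e2 := mw_injOn hp2.1.2 hp2'.1.2 e1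
    subst e2
    have e4 : r k m * o = r k m' * o' := by
      have h1 : r k m * o * evw γ w = r k m' * o' * evw γ w := by
        rw [mul_assoc, W_comm_evw Wγ hp2.2, ← mul_assoc, e, mul_assoc, ← W_comm_evw Wγ hp2'.2, ← mul_assoc]
      exact mul_right_cancel h1
    have e5 : r k (m ^^^ m') = o' * o⁻¹ := by
      rw [h.r_xor, h.r_comm]
      have : r k m' * r k m = r k m' * (r k m * o) * o⁻¹ := by group
      rw [this, e4, ← mul_assoc, h.r_sq, one_mul]
    have e6 : r k (m ^^^ m') ∈ W := by rw [e5]; exact W.mul_mem hp2'.2 (W.inv_mem hp2.2)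
    have e7 : r k (m ^^^ m') = 1 := by
      have h1 : orderOf (⟨_, e6⟩ : W) ∣ 2 := by
        rw [orderOf_dvd_iff_pow_eq_one, pow_two]
        exact Subtype.ext (h.r_sq _)
      have h2 : orderOf (⟨_, e6⟩ : W) ∣ Nat.card W := orderOf_dvd_natCard _
      have h3 : orderOf (⟨_, e6⟩ : W) = 1 := by
        rcases (Nat.dvd_prime Nat.prime_two).1 h1 with h4 | h4
        · exact h4
        · rw [h4] at h2
          exact absurd h2 (by
            obtain ⟨q, hq⟩ := hodd
            rw [hq]; omega)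
      rw [orderOf_eq_one_iff] at h3
      exact congrArg Subtype.val h3
    have e8 : m ^^^ m' = 0 := h.inj _ (Nat.xor_lt_two_pow (n := 8) hp2.1.1 hp2'.1.1) e7
    have e9 : m = m' := Nat.xor_eq_zero_iff.1 e8
    subst e9
    have e10 : o = o' := mul_left_cancel e4
    rw [e10]
  have h1 : (P.image f).card = 30720 * Nat.card W := by rw [Finset.card_image_of_injOn hinj, hP]
  have h2 : (↑(P.image f) : Set K) = (centralizer {k 0} : Set K) := by
    apply Set.eq_of_subset_of_ncard_le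
    · intro y hy
      obtain ⟨p, hp, hpy⟩ := Finset.mem_image.1 (Finset.mem_coe.1 hy)
      rw [← hpy]
      exact hf p hp
    · rw [Set.ncard_coe_finset, h1]
      exact hc
    · exact Set.toFinite _
  have h3 : x ∈ (↑(P.image f) : Set K) := by
    rw [h2, SetLike.mem_coe, mem_centralizer_singleton_iff]
    exact hx
  obtain ⟨⟨⟨m, w⟩, o⟩, hp, hx'⟩ := Finset.mem_image.1 (Finset.mem_coe.1 h3)
  have hp2 := (hPm _).1 hp
  exact ⟨m, hp2.1.1, w, hp2.1.2, o, hp2.2, by rw [← hx', hfd]⟩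

end cent0

end Cfsg.Agent.HN.XCount
end

-- part: HN/XInstW
section
/-!
# The configuration `XStructW.HypW` in `C_G(w)/⟨w⟩`, with a kernel of odd order

The centraliser of `t = f τ` is `W × f(H0)`, `W` of odd order commuting with `θ(HN)`.
-/

set_option autoImplicit false
set_option linter.unusedSectionVars false

namespace Cfsg.Agent.HN.XInstW

open Cfsg.Agent.HN.Pres Cfsg.Agent.HN.P1408 Cfsg.Agent.HN.H0Basic Cfsg.Agent.HN.XMat Cfsg.Agent.HN.XStruct
open Cfsg.Agent.HN.XWords Cfsg.Agent.HN.XQuot Cfsg.Agent.HN.FusGen Cfsg.Agent.HN.Closing Cfsg.Agent.HN.XInst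
open Cfsg.Agent.HN.XStructW
open Cfsg.Agent.SporadicA.PermTab (band_eq_true allB allB_iff)

/-- The situation: the centraliser of the involution `t = f τ` is `W × f(H0)`, `θ` extends `f` and commutes with `W`. -/
structure InstW {G : Type*} [Group G] (f : H0 →* G) (θ : Cfsg.Spor.HN →* G) (W : Subgroup G) : Prop where
  inj : Function.Injective f
  ext : ∀ g, θ (NormalH.ψ g) = f g
  odd : Odd (Nat.card W)
  comW : ∀ o ∈ W, ∀ h, o * θ h = θ h * o
  cent : ∀ g, g * f τ = f τ * g → ∃ o ∈ W, ∃ h, g = o * f h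
  hb : ¬ InK f τ (Syl.a * τ)

variable {G : Type*} [Group G] {f : H0 →* G} {θ : Cfsg.Spor.HN →* G} {W : Subgroup G}

namespace InstW

variable (I : InstW f θ W)

include I

theorem w_eq : θ W0 = f (Syl.a * τ) := by rw [W0_eq, I.ext]

theorem t_eq : θ (Q 0) = f τ := by
  rw [← hw_τ, ← I.ext, V_hw (by decide +kernel)]
  rfl

theorem w_ne : θ W0 ≠ 1 := by
  rw [I.w_eq, ← map_one f]
  exact fun h => Classes.aτ_ne_one (I.inj h)

theorem θV {a : List ℕ} (h : okw a = true) : θ (V a) = f (hw a) := by rw [← V_hw h, I.ext]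

theorem ha : InK f τ Syl.a := by
  have := Main.simple_HN
  have h := θ.map_isConj InvHN.isConj_a
  rw [I.ext, I.ext] at h
  exact h.symm

theorem hz : InK f τ gz := by
  have := Main.simple_HN
  have h := θ.map_isConj InvHN.isConj_z
  rw [I.ext, I.ext] at h
  exact h.symm

theorem hd : ¬ InK f τ Syl.d := by
  intro h1
  have := Main.simple_HN
  have h := θ.map_isConj InvHN.isConj_d
  rw [I.ext, I.ext] at h
  exact I.hb (IsConj.trans h1 h)

theorem comf {o : G} (ho : o ∈ W) (h : H0) : o * f h = f h * o := by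
  rw [← I.ext]
  exact I.comW o ho _

theorem tt : f τ * f τ = 1 := by rw [← map_mul, τ_mul_τ, map_one]

theorem t_ne : f τ ≠ 1 := fun h => τ_ne_one (I.inj (h.trans (map_one f).symm))

theorem disj {h : H0} (hh : f h ∈ W) : h = 1 := by
  have h1 : ∀ k, h * k = k * h := by
    intro k
    apply I.inj
    rw [map_mul, map_mul]
    exact I.comf hh k
  have h2 : h * h = 1 := by
    rcases StepFive.cen_H0 h h1 with rfl | rfl
    · rw [one_mul]
    · exact τ_mul_τ
  apply I.inj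
  rw [map_one]
  apply EmbW.eq_one_of_sq I.odd hh
  rw [← map_mul, h2, map_one]

/-- an involution in `W f(h)` -/
theorem split {o u : G} {h : H0} (ho : o ∈ W) (hu : u = o * f h) (h2 : u * u = 1) : o = 1 ∧ h * h = 1 := by
  have h3 := I.comf ho h
  have e1 : o * o = (f (h * h))⁻¹ := by
    rw [eq_inv_iff_mul_eq_one, map_mul]
    calc o * o * (f h * f h) = o * (o * f h) * f h := by group
      _ = o * (f h * o) * f h := by rw [h3]
      _ = u * u := by rw [hu]; group
      _ = 1 := h2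
  have e2 : h * h = 1 := by
    apply I.disj
    have : (f (h * h))⁻¹ ∈ W := by rw [← e1]; exact W.mul_mem ho ho
    exact inv_mem_iff.1 this
  exact ⟨EmbW.eq_one_of_sq I.odd ho (by rw [e1, e2, map_one, inv_one]), e2⟩

/-- conjugating a conjugate of `t` back to `t` -/
theorem exists_conj {k : G} (hk : IsConj (f τ) k) :
    ∃ g : G, g * k * g⁻¹ = f τ ∧ ∀ j, j * k = k * j → ∃ o ∈ W, ∃ c, g * j * g⁻¹ = o * f c := by
  obtain ⟨c, hc⟩ := isConj_iff.1 hk.symm
  refine ⟨c, hc, fun j hj => I.cent _ ?_⟩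
  rw [← hc]
  calc c * j * c⁻¹ * (c * k * c⁻¹) = c * (j * k) * c⁻¹ := by group
    _ = c * (k * j) * c⁻¹ := by rw [hj]
    _ = c * k * c⁻¹ * (c * j * c⁻¹) := by group

theorem bas : Bas (kk θ) (gg θ) where
  comm i hi j hj := f_comm hi hj
  sq i hi := f_sq hi
  act g := f_act g
  inj m hm h := by
    rw [← P_r] at h
    have h1 := (π_eq_one_iff ww (cθ (cwr m))).1 h
    refine mask_zero θ hm I.w_ne fun j hj => ?_
    rcases h1 with h1 | h1
    · rw [h1, one_mul, mul_one]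
    · rw [h1, cθ (cw hj)]

theorem inK_iff {a : List ℕ} (h : okw a = true) : InK f τ (hw a) ↔ IsConj (f τ) (θ (V a)) := by
  rw [I.θV h]
  rfl

theorem not_t_w : ¬ IsConj (f τ) (θ W0) := by rw [I.w_eq]; exact I.hb

theorem not_one : ¬ IsConj (f τ) 1 := by
  intro h
  have := isConj_one_left.1 h
  exact I.t_ne this

/-- an element whose square is `w` is not fused to `t` -/
theorem not_of_sq {u : Cfsg.Spor.HN} (h : u * u = W0) : ¬ IsConj (f τ) (θ u) := by
  intro h1
  have h2 := sq_of_isConj I.tt h1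
  rw [← map_mul, h] at h2
  exact I.w_ne h2

theorem out_of_sq {u : Cfsg.Spor.HN} (hu : W0 * u = u * W0) (h : u * u = W0) :
    P θ u ∉ DS (θ W0) (f τ) ∧ P θ u ∉ SS (θ W0) (f τ) := by
  refine not_mem_of ww (cθ hu) (I.not_of_sq h) ?_
  rw [← map_mul]
  refine I.not_of_sq ?_
  calc u * W0 * (u * W0) = u * (W0 * u) * W0 := by group
    _ = (u * u) * (W0 * W0) := by rw [hu]; group
    _ = W0 := by rw [h, W0_sq, mul_one]

theorem out_of_words {a : List ℕ} (h0 : okw a = true) (hc : W0 * V a = V a * W0) (h1 : ¬ InK f τ (hw a))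
    (h2 : ¬ InK f τ (hw (a ++ w0w))) : P θ (V a) ∉ DS (θ W0) (f τ) ∧ P θ (V a) ∉ SS (θ W0) (f τ) := by
  rw [I.inK_iff h0] at h1
  rw [I.inK_iff (okw_append h0 (by decide +kernel)), V_append, map_mul] at h2
  exact not_mem_of ww (cθ hc) h1 h2

theorem not_d {v : H0} (h : IsConj Syl.d v) : ¬ InK f τ v := fun h1 => I.hd ((InK.iff_of_isConj h).2 h1)
theorem not_b {v : H0} (h : IsConj (Syl.a * τ) v) : ¬ InK f τ v := fun h1 => I.hb ((InK.iff_of_isConj h).2 h1)

theorem c_r3 : W0 * V (qw 0 ++ qw 1) = V (qw 0 ++ qw 1) * W0 := by rw [← r3_eq, cwr]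

theorem c_x2 : W0 * V x2w = V x2w * W0 := by
  rw [← x2_eq, ← mul_assoc, cwr, mul_assoc, cwe, mul_assoc]

theorem c_x3 : W0 * V x3w = V x3w * W0 := by
  rw [← x3_eq, ← mul_assoc, cwr, mul_assoc, cwe, mul_assoc]

theorem r3_out : r (kk θ) 3 ∉ DS (θ W0) (f τ) ∧ r (kk θ) 3 ∉ SS (θ W0) (f τ) := by
  rw [← P_r, r3_eq]
  exact I.out_of_words (by decide +kernel) I.c_r3 (I.not_b conj_r3) (I.not_b (by
    rw [List.append_assoc]; exact conj_r3w))

theorem r12_out : r (kk θ) 12 ∉ DS (θ W0) (f τ) ∧ r (kk θ) 12 ∉ SS (θ W0) (f τ) := by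
  rw [← P_r]
  exact I.out_of_sq (cwr _) r12_sq

theorem x1_eq : xi1 (gg θ) = P θ (evw Γ [0, 2, 0, 2, 0, 2]) := (P_evw _).symm

theorem x2_eq' : xi2 (kk θ) (gg θ) = P θ (V x2w) := by
  rw [← x2_eq, P_nf]; rfl

theorem x3_eq' : xi3 (kk θ) (gg θ) = P θ (V x3w) := by
  rw [← x3_eq, P_nf]; rfl

theorem x1_out : xi1 (gg θ) ∉ DS (θ W0) (f τ) ∧ xi1 (gg θ) ∉ SS (θ W0) (f τ) := by
  rw [I.x1_eq]
  exact I.out_of_sq (cwe _) yh6

theorem x2_out : xi2 (kk θ) (gg θ) ∉ DS (θ W0) (f τ) ∧ xi2 (kk θ) (gg θ) ∉ SS (θ W0) (f τ) := by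
  rw [I.x2_eq']
  exact I.out_of_words (by decide +kernel) I.c_x2 (I.not_d conj_x2) (I.not_d conj_x2w)

theorem P_sq {u : Cfsg.Spor.HN} (hu : W0 * u = u * W0) (h : u * u = 1 ∨ u * u = W0) : P θ u * P θ u = 1 := by
  rw [← P_mul hu hu]
  rcases h with h | h
  · rw [h, P_one]
  · rw [h, P_W0]

theorem x2_sq : V x2w * V x2w = 1 := by
  rw [← V_append, ← V_nil]; exact V_eq (by decide +kernel)

theorem x3_sq : V x3w * V x3w = 1 := by
  rw [← V_append, ← V_nil]; exact V_eq (by decide +kernel)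

theorem t_x3 : IsConj (f τ) (θ (V x3w)) := by
  rw [← I.inK_iff (by decide +kernel)]
  exact I.hz.conj conj_e

theorem not_t_x3w : ¬ IsConj (f τ) (θ (V x3w) * θ W0) := by
  have h := I.not_d conj_ew
  rwa [I.inK_iff (by decide +kernel), V_append, map_mul] at h

theorem x3_S : xi3 (kk θ) (gg θ) ∈ SS (θ W0) (f τ) := by
  rw [I.x3_eq']
  exact ⟨θ (V x3w), cθ I.c_x3, rfl, I.t_x3, I.not_t_x3w⟩

theorem x3_D : xi3 (kk θ) (gg θ) ∉ DS (θ W0) (f τ) := by
  rw [I.x3_eq']
  exact not_mem_D_of ww (cθ I.c_x3) I.not_t_x3w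

theorem k0_labels : IsConj (f τ) (θ (Q 0)) ∧ IsConj (f τ) (θ (Q 0) * θ W0) := by
  rw [I.t_eq, I.w_eq, ← map_mul]
  have h5 : τ * (Syl.a * τ) = Syl.a := by rw [← mul_assoc, ← τ_comm, mul_assoc, τ_mul_τ, mul_one]
  rw [h5]
  exact ⟨IsConj.refl _, I.ha⟩

theorem k0_D : kk θ 0 ∈ DS (θ W0) (f τ) := by
  rw [kk, P, mem_D_iff ww (cθ (cw (by norm_num)))]
  exact I.k0_labels

theorem k0_S : kk θ 0 ∉ SS (θ W0) (f τ) :=
  not_mem_S_of ww (cθ (cw (by norm_num))) I.k0_labels.1 I.k0_labels.2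

theorem one_out : (1 : KK (θ W0)) ∉ DS (θ W0) (f τ) ∧ (1 : KK (θ W0)) ∉ SS (θ W0) (f τ) := by
  rw [← π_one]
  refine not_mem_of ww (by rw [one_mul, mul_one]) I.not_one ?_
  rw [one_mul]
  exact I.not_t_w

/-! ### The centraliser of `k 0` -/

theorem chk_okr : allB (fun m => okw (rmw m)) 128 = true := by decide +kernel

theorem chk_oke : S5W.all (fun w => okw (ew w)) = true := by decide +kernel

theorem comm_aτ {v : H0} (h : θ W0 * f v = f v * θ W0) : v * (Syl.a * τ) = Syl.a * τ * v := by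
  apply I.inj
  rw [map_mul f v, map_mul f (Syl.a * τ), ← I.w_eq, h]

theorem comm_aτ' {v : H0} (h : v * (Syl.a * τ) = Syl.a * τ * v) : f v * θ W0 = θ W0 * f v := by
  rw [I.w_eq, ← map_mul, ← map_mul, h]

/-- the images of the elements of `C_{H0}(aτ)` -/
theorem cent_H0 [Finite G] {v : H0} (hv : v * (Syl.a * τ) = Syl.a * τ * v) :
    ∃ m < 128, ∃ w ∈ S5W, π (θ W0) (f v) = r (kk θ) m * evw (gg θ) w := by
  classical
  have : Finite H0 := H0Basic.finite_H0
  have B := I.bas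
  let A := (Subgroup.centralizer ({Syl.a * τ} : Set H0))
  have hA : ∀ v : A, (v : H0) * (Syl.a * τ) = Syl.a * τ * v := fun v =>
    Subgroup.mem_centralizer_singleton_iff.1 v.2
  let F : A → KK (θ W0) := fun v => π (θ W0) (f v)
  let s : A → A := fun v => ⟨v * (Syl.a * τ), A.mul_mem v.2 (Subgroup.mem_centralizer_singleton_iff.2 rfl)⟩
  have hs : ∀ v, F (s v) = F v := by
    intro v
    change π (θ W0) (f ((v : H0) * (Syl.a * τ))) = π (θ W0) (f v)
    rw [map_mul, ← I.w_eq, π_mul_w ww (I.comm_aτ' (hA v))]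
  have hne : ∀ v, s v ≠ v := by
    intro v h
    have h1 : (v : H0) * (Syl.a * τ) = v := congrArg Subtype.val h
    exact Classes.aτ_ne_one (mul_eq_left.1 h1)
  have hcard := card_le F s hs hne (Set.range F) (fun x hx => hx)
  have hA' : Nat.card A = 30720 := CentUp.card_centralizer_aτ
  rw [hA'] at hcard
  have l120 : S5W.length = 120 := by decide +kernel
  have hnd : S5W.Nodup := List.Nodup.of_map mw (by rw [chkS]; exact nodupS)
  have hmem : ∀ m < 128, ∀ w ∈ S5W, r (kk θ) m * evw (gg θ) w ∈ Set.range F := by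
    intro m hm w hwS
    have h1 : okw (rmw m ++ ew w) = true :=
      okw_append ((allB_iff _ _).1 I.chk_okr m hm) (List.all_eq_true.1 I.chk_oke w hwS)
    have h2 : V (rmw m ++ ew w) = r Q m * evw Γ w := by rw [V_append, V_rmw, V_ew]
    have h3 : θ (V (rmw m ++ ew w)) = f (hw (rmw m ++ ew w)) := I.θV h1
    have h4 : W0 * V (rmw m ++ ew w) = V (rmw m ++ ew w) * W0 := by
      rw [h2, ← mul_assoc, cwr, mul_assoc, cwe, mul_assoc]
    refine ⟨⟨hw (rmw m ++ ew w), ?_⟩, ?_⟩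
    · rw [Subgroup.mem_centralizer_singleton_iff]
      apply I.comm_aτ
      rw [← h3, ← cθ h4]
    · change π (θ W0) (f (hw (rmw m ++ ew w))) = _
      rw [← h3, ← P_nf, h2]
      rfl
  let F' : Fin 128 × Fin S5W.length → Set.range F := fun p =>
    ⟨r (kk θ) p.1 * evw (gg θ) (S5W.get p.2), hmem p.1 p.1.2 _ (List.get_mem _ _)⟩
  have hinj : Function.Injective F' := by
    rintro ⟨m, w⟩ ⟨m', w'⟩ h
    have h1 : r (kk θ) m * evw (gg θ) (S5W.get w) = r (kk θ) m' * evw (gg θ) (S5W.get w') :=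
      congrArg Subtype.val h
    have hA1 : Acts (kk θ) (r (kk θ) m * evw (gg θ) (S5W.get w)) (mw (S5W.get w)) := B.acts_rmul (B.acts_evw _) _
    have hA2 : Acts (kk θ) (r (kk θ) m' * evw (gg θ) (S5W.get w')) (mw (S5W.get w')) :=
      B.acts_rmul (B.acts_evw _) _
    rw [← h1] at hA2
    have h2 : mw (S5W.get w) = mw (S5W.get w') :=
      pack_ext (mw_lt _) (mw_lt _) fun i hi => B.acts_unique hA1 hA2 hi
    have h3 : S5W.get w = S5W.get w' := mw_injOn (List.get_mem _ _) (List.get_mem _ _) h2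
    have h4 : w = w' := (List.nodup_iff_injective_get.1 hnd) h3
    subst h4
    have h5 : r (kk θ) m = r (kk θ) m' := mul_right_cancel h1
    have h6 : (m : ℕ) = m' := B.r_inj (by omega) (by omega) h5
    rw [Fin.ext h6]
  have hc2 : Nat.card (Set.range F) ≤ Nat.card (Fin 128 × Fin S5W.length) := by
    rw [Nat.card_prod, Nat.card_fin, Nat.card_fin, l120]
    omega
  have hb := hinj.bijective_of_nat_card_le hc2
  obtain ⟨⟨m, w⟩, h⟩ := hb.2 ⟨F ⟨v, Subgroup.mem_centralizer_singleton_iff.2 hv⟩, ⟨_, rfl⟩⟩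
  exact ⟨m, m.2, S5W.get w, List.get_mem _ _, (congrArg Subtype.val h).symm⟩

theorem cWw {o : G} (ho : o ∈ W) : o * θ W0 = θ W0 * o := I.comW o ho _

omit I in
/-- the image of `W` -/
noncomputable def ρ (I : InstW f θ W) : W →* KK (θ W0) :=
  MonoidHom.mk' (fun o => π (θ W0) o) (fun a b => π_mul (I.cWw a.2) (I.cWw b.2))

omit I in
theorem ρ_apply (I : InstW f θ W) (o : W) : I.ρ o = π (θ W0) o := rfl

omit I in
/-- the image of `W` -/
noncomputable def WK (I : InstW f θ W) : Subgroup (KK (θ W0)) := I.ρ.range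

theorem ρ_inj : Function.Injective I.ρ := by
  rw [injective_iff_map_eq_one]
  intro o ho
  rw [ρ_apply, π_eq_one_iff ww (I.cWw o.2)] at ho
  rcases ho with h | h
  · exact Subtype.ext h
  · exfalso
    apply I.w_ne
    apply EmbW.eq_one_of_sq I.odd (w := θ W0) _ ww
    rw [← h]
    exact o.2

theorem card_WK : Nat.card I.WK = Nat.card W :=
  (Nat.card_congr (MonoidHom.ofInjective I.ρ_inj).toEquiv).symm

theorem mem_WK {x : KK (θ W0)} : x ∈ I.WK ↔ ∃ o ∈ W, π (θ W0) o = x := by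
  constructor
  · rintro ⟨o, rfl⟩
    exact ⟨o, o.2, rfl⟩
  · rintro ⟨o, ho, rfl⟩
    exact ⟨⟨o, ho⟩, rfl⟩

theorem odd_WK : Odd (Nat.card I.WK) := by rw [I.card_WK]; exact I.odd

/-- the image of `W` commutes with the image of `θ` -/
theorem WK_comm {x : KK (θ W0)} (hx : x ∈ I.WK) {u : Cfsg.Spor.HN} (hu : W0 * u = u * W0) :
    x * P θ u = P θ u * x := by
  obtain ⟨o, ho, rfl⟩ := I.mem_WK.1 hx
  rw [P, ← π_mul (I.cWw ho) (cθ hu), ← π_mul (cθ hu) (I.cWw ho), I.comW o ho]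

theorem cent_t [Finite G] {u : G} (hu : u * θ W0 = θ W0 * u) (ht : u * f τ = f τ * u) :
    ∃ m < 128, ∃ w ∈ S5W, ∃ o ∈ I.WK, π (θ W0) u = r (kk θ) m * evw (gg θ) w * o := by
  obtain ⟨o, ho, v, rfl⟩ := I.cent u ht
  have hv : f v * θ W0 = θ W0 * f v := by
    have h1 := comm_mul (comm_inv (I.cWw ho)) hu
    rwa [inv_mul_cancel_left] at h1
  obtain ⟨m, hm, w, hw, h⟩ := I.cent_H0 (I.comm_aτ hv.symm)
  refine ⟨m, hm, w, hw, π (θ W0) o, I.mem_WK.2 ⟨o, ho, rfl⟩, ?_⟩
  rw [← h, ← π_mul hv (I.cWw ho), I.comf ho]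

/-- the centraliser of `k 0` -/
theorem f_cent0 [Finite G] (x : KK (θ W0)) (hx : x * kk θ 0 = kk θ 0 * x) :
    ∃ m < 256, ∃ w ∈ S5W, ∃ o ∈ I.WK, x = r (kk θ) m * evw (gg θ) w * o := by
  have B := I.bas
  obtain ⟨u, hu, rfl⟩ := π_surj x
  have c0 := cθ (θ := θ) (cw (i := 0) (by norm_num))
  have c7 := cθ (θ := θ) (cw (i := 7) (by norm_num))
  rw [kk, P, ← π_mul hu c0, ← π_mul c0 hu, π_eq_iff ww (comm_mul hu c0) (comm_mul c0 hu), I.t_eq] at hx
  rcases hx with hx | hx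
  · obtain ⟨m, hm, w, hw, o, ho, h⟩ := I.cent_t hu hx.symm
    exact ⟨m, by omega, w, hw, o, ho, h⟩
  · have h7 : f τ * θ (Q 7) = θ (Q 7) * (f τ * θ W0) := by
      have h1 := Q_comm (i := 0) (j := 7) (by norm_num) (by norm_num)
      have h2 : (Bm 7).testBit 0 = true := by decide +kernel
      rw [h2] at h1
      have h3 : Q 0 * Q 7 = Q 7 * (Q 0 * W0) := h1
      have h4 := congrArg θ h3
      rwa [map_mul, map_mul, map_mul, I.t_eq] at h4
    have hq : (θ (Q 7) * u) * f τ = f τ * (θ (Q 7) * u) := by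
      calc (θ (Q 7) * u) * f τ = θ (Q 7) * (u * f τ) * (θ W0 * θ W0) := by rw [ww]; group
        _ = θ (Q 7) * (u * f τ * θ W0) * θ W0 := by group
        _ = θ (Q 7) * (f τ * u) * θ W0 := by rw [hx]
        _ = θ (Q 7) * f τ * (u * θ W0) := by group
        _ = θ (Q 7) * (f τ * θ W0) * u := by rw [hu]; group
        _ = f τ * (θ (Q 7) * u) := by rw [← h7, mul_assoc]
    obtain ⟨m, hm, w, hw, o, ho, h⟩ := I.cent_t (comm_mul c7 hu) hq
    rw [π_mul c7 hu] at h
    have h8 : kk θ 7 * π (θ W0) u = r (kk θ) m * evw (gg θ) w * o := h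
    refine ⟨2 ^ 7 ^^^ m, Nat.xor_lt_two_pow (n := 8) (by norm_num) (by omega), w, hw, o, ho, ?_⟩
    rw [B.r_xor, Bas.r_pow (by norm_num), mul_assoc, mul_assoc, ← mul_assoc (r (kk θ) m), ← h8, ← mul_assoc,
      B.sq 7 (by norm_num), one_mul]

/-! ### The centraliser of `xi3` -/

theorem f_card3 [Finite G] : Nat.card (Subgroup.centralizer {xi3 (kk θ) (gg θ)}) ≤ 1920 * Nat.card I.WK := by
  classical
  have : Finite H0 := H0Basic.finite_H0
  -- conjugate `e` to `t`
  obtain ⟨g, hg, hcent⟩ := I.exists_conj I.t_x3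
  obtain ⟨o', ho', v, hv'⟩ := hcent (θ W0) (cθ I.c_x3).symm
  have hsq' : g * θ W0 * g⁻¹ * (g * θ W0 * g⁻¹) = 1 := by
    calc g * θ W0 * g⁻¹ * (g * θ W0 * g⁻¹) = g * (θ W0 * θ W0) * g⁻¹ := by group
      _ = 1 := by rw [ww]; group
  obtain ⟨hoo, hvv⟩ := I.split ho' hv' hsq'
  have hv : f v = g * θ W0 * g⁻¹ := by rw [hv', hoo, one_mul]
  have hwg : θ W0 = g⁻¹ * f v * g := by rw [hv]; group
  have heg : θ (V x3w) = g⁻¹ * f τ * g := by rw [← hg]; group
  -- `v` is conjugate to `d`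
  have hv2 : v ^ 2 = 1 := by rw [pow_two, hvv]
  have hnv : ¬ InK f τ v := by
    intro h
    apply I.not_t_w
    rw [hwg]
    refine IsConj.trans h (isConj_iff.2 ⟨g⁻¹, by group⟩)
  have hnvτ : ¬ InK f τ (v * τ) := by
    intro h
    apply I.not_t_x3w
    have : θ (V x3w) * θ W0 = g⁻¹ * f (v * τ) * g := by
      rw [τ_comm v, map_mul, hwg, heg]; group
    rw [this]
    refine IsConj.trans h (isConj_iff.2 ⟨g⁻¹, by group⟩)
  have hvd : IsConj Syl.d v := by
    rcases Syl.involution_cases hv2 with h | h | h | h | h | h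
    · exfalso
      apply I.w_ne
      rw [hwg, h, map_one]; group
    · exact absurd (h ▸ InK.refl) hnv
    · exact absurd (I.ha.conj h) hnv
    · exfalso
      apply hnvτ
      refine I.ha.conj ?_
      obtain ⟨c, hc⟩ := isConj_iff.1 h
      refine isConj_iff.2 ⟨c, ?_⟩
      rw [← hc]
      have h1 := τ_comm c⁻¹
      calc c * Syl.a * c⁻¹ = c * Syl.a * (τ * τ) * c⁻¹ := by rw [τ_mul_τ, mul_one]
        _ = c * (Syl.a * τ) * (τ * c⁻¹) := by group
        _ = c * (Syl.a * τ) * (c⁻¹ * τ) := by rw [h1]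
        _ = c * (Syl.a * τ) * c⁻¹ * τ := by group
    · exact absurd (I.hz.conj h) hnv
    · exact h
  obtain ⟨c, hc⟩ := isConj_iff.1 hvd
  let A := (Subgroup.centralizer ({Syl.d} : Set H0))
  have hA : ∀ a : A, (a : H0) * Syl.d = Syl.d * a := fun a => Subgroup.mem_centralizer_singleton_iff.1 a.2
  let F : A × W → KK (θ W0) := fun a => π (θ W0) (g⁻¹ * ((a.2 : G) * f (c * a.1 * c⁻¹)) * g)
  let s : A × W → A × W := fun a =>
    (⟨a.1 * Syl.d, A.mul_mem a.1.2 (Subgroup.mem_centralizer_singleton_iff.2 rfl)⟩, a.2)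
  have hcomm : ∀ a : A × W, (g⁻¹ * ((a.2 : G) * f (c * a.1 * c⁻¹)) * g) * θ W0 =
      θ W0 * (g⁻¹ * ((a.2 : G) * f (c * a.1 * c⁻¹)) * g) := by
    intro a
    have h1 : (c * a.1 * c⁻¹) * v = v * (c * a.1 * c⁻¹) := by
      rw [← hc]
      calc c * a.1 * c⁻¹ * (c * Syl.d * c⁻¹) = c * (a.1 * Syl.d) * c⁻¹ := by group
        _ = c * (Syl.d * a.1) * c⁻¹ := by rw [hA]
        _ = c * Syl.d * c⁻¹ * (c * a.1 * c⁻¹) := by group
    have h2 := I.comf a.2.2 v
    calc (g⁻¹ * ((a.2 : G) * f (c * a.1 * c⁻¹)) * g) * θ W0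
        = g⁻¹ * ((a.2 : G) * (f (c * a.1 * c⁻¹) * f v)) * g := by rw [hwg]; group
      _ = g⁻¹ * ((a.2 : G) * (f v * f (c * a.1 * c⁻¹))) * g := by rw [← map_mul, h1, map_mul]
      _ = g⁻¹ * (((a.2 : G) * f v) * f (c * a.1 * c⁻¹)) * g := by group
      _ = g⁻¹ * ((f v * (a.2 : G)) * f (c * a.1 * c⁻¹)) * g := by rw [h2]
      _ = θ W0 * (g⁻¹ * ((a.2 : G) * f (c * a.1 * c⁻¹)) * g) := by rw [hwg]; group
  have hs : ∀ a, F (s a) = F a := by
    intro a
    change π (θ W0) (g⁻¹ * ((a.2 : G) * f (c * (a.1 * Syl.d) * c⁻¹)) * g) =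
      π (θ W0) (g⁻¹ * ((a.2 : G) * f (c * a.1 * c⁻¹)) * g)
    have h1 : g⁻¹ * ((a.2 : G) * f (c * (a.1 * Syl.d) * c⁻¹)) * g =
        (g⁻¹ * ((a.2 : G) * f (c * a.1 * c⁻¹)) * g) * θ W0 := by
      have h2 : c * (a.1 * Syl.d) * c⁻¹ = c * a.1 * c⁻¹ * v := by rw [← hc]; group
      rw [h2, map_mul, hwg]; group
    rw [h1, π_mul_w ww (hcomm a)]
  have hne : ∀ a, s a ≠ a := by
    intro a h
    have h1 : (a.1 : H0) * Syl.d = a.1 := congrArg (fun x : A × W => (x.1 : H0)) h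
    exact Classes.d_ne_one (mul_eq_left.1 h1)
  have hcard := card_le F s hs hne (Subgroup.centralizer {xi3 (kk θ) (gg θ)} : Set (KK (θ W0))) ?_
  · have hA' : Nat.card A ≤ 3840 := CentUp.card_centralizer_d_le
    have h1 : Nat.card (Subgroup.centralizer {xi3 (kk θ) (gg θ)} : Set (KK (θ W0))) =
      Nat.card (Subgroup.centralizer {xi3 (kk θ) (gg θ)}) := rfl
    rw [h1, Nat.card_prod] at hcard
    rw [I.card_WK]
    have h2 : Nat.card A * Nat.card W ≤ 3840 * Nat.card W := Nat.mul_le_mul_right _ hA'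
    omega
  · intro x hx
    rw [SetLike.mem_coe, Subgroup.mem_centralizer_singleton_iff, I.x3_eq'] at hx
    obtain ⟨u, hu, rfl⟩ := π_surj x
    have ce := cθ (θ := θ) I.c_x3
    rw [P, ← π_mul hu ce, ← π_mul ce hu, π_eq_iff ww (comm_mul hu ce) (comm_mul ce hu)] at hx
    rcases hx with hx | hx
    · obtain ⟨o, ho, b, hb⟩ := hcent u hx.symm
      have hbv : b * v = v * b := by
        apply I.inj
        rw [map_mul, map_mul]
        have h1 : (o * f b) * f v = f v * (o * f b) := by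
          rw [← hb, hv]
          calc g * u * g⁻¹ * (g * θ W0 * g⁻¹) = g * (u * θ W0) * g⁻¹ := by group
            _ = g * (θ W0 * u) * g⁻¹ := by rw [hu]
            _ = g * θ W0 * g⁻¹ * (g * u * g⁻¹) := by group
        have h2 := I.comf ho v
        apply mul_left_cancel (a := o)
        calc o * (f b * f v) = o * f b * f v := by group
          _ = f v * (o * f b) := h1
          _ = (f v * o) * f b := by group
          _ = (o * f v) * f b := by rw [h2]
          _ = o * (f v * f b) := by group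
      refine ⟨(⟨c⁻¹ * b * c, ?_⟩, ⟨o, ho⟩), ?_⟩
      · rw [Subgroup.mem_centralizer_singleton_iff]
        have hd : Syl.d = c⁻¹ * v * c := by rw [← hc]; group
        rw [hd]
        calc c⁻¹ * b * c * (c⁻¹ * v * c) = c⁻¹ * (b * v) * c := by group
          _ = c⁻¹ * (v * b) * c := by rw [hbv]
          _ = c⁻¹ * v * c * (c⁻¹ * b * c) := by group
      · change π (θ W0) (g⁻¹ * (o * f (c * (c⁻¹ * b * c) * c⁻¹)) * g) = π (θ W0) u
        have h1 : c * (c⁻¹ * b * c) * c⁻¹ = b := by group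
        rw [h1, ← hb]
        congr 1
        group
    · exfalso
      -- `e` would be conjugate to `e w`
      apply I.not_t_x3w
      refine I.t_x3.trans (isConj_iff.2 ⟨u⁻¹, ?_⟩)
      rw [inv_inv, mul_assoc, hx]
      have h1 : u⁻¹ * (u * θ (V x3w) * θ W0) = θ (V x3w) * θ W0 := by group
      exact h1

/-- **The configuration** -/
theorem hyp [Finite G] : HypW (kk θ) (gg θ) (DS (θ W0) (f τ)) (SS (θ W0) (f τ)) I.WK where
  toBas := I.bas
  cD := cinv_D
  cS := cinv_S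
  sqD := sq_D I.tt
  sqS := sq_S I.tt
  oddW := I.odd_WK
  Wk := fun _ ho _ hi => I.WK_comm ho (cw hi)
  Wγ := fun _ ho g => I.WK_comm ho (cwg g)
  cent0 := I.f_cent0
  k0D := I.k0_D
  oneD := I.one_out.1
  r3D := I.r3_out.1
  r12D := I.r12_out.1
  oneS := I.one_out.2
  k0S := I.k0_S
  r3S := I.r3_out.2
  r12S := I.r12_out.2
  sq1 := by rw [I.x1_eq]; exact I.P_sq (cwe _) (Or.inr yh6)
  x1D := I.x1_out.1
  x1S := I.x1_out.2
  sq2 := by rw [I.x2_eq']; exact I.P_sq I.c_x2 (Or.inl I.x2_sq)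
  x2D := I.x2_out.1
  x2S := I.x2_out.2
  sq3 := by rw [I.x3_eq']; exact I.P_sq I.c_x3 (Or.inl I.x3_sq)
  x3D := I.x3_D
  x3S := I.x3_S
  card3 := I.f_card3

theorem disjDS : ∀ e ∈ DS (θ W0) (f τ), e ∉ SS (θ W0) (f τ) := by
  rintro _ ⟨u, hu, rfl, h1, h2⟩
  exact not_mem_S_of ww hu h1 h2

/-- **The centraliser of `w`** -/
theorem cent_w [Finite G] (u : G) (hu : u * f (Syl.a * τ) = f (Syl.a * τ) * u) : ∃ o ∈ W, ∃ h, u = o * θ h := by
  rw [← I.w_eq] at hu
  obtain ⟨m, _, w, _, w', _, x, hx, h⟩ := XCloseW.normal_form I.hyp I.disjDS (π (θ W0) u)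
  obtain ⟨o, ho, rfl⟩ := I.mem_WK.1 hx
  have hc1 : W0 * (r Q m * evw Γ w) = r Q m * evw Γ w * W0 := by
    rw [← mul_assoc, cwr, mul_assoc, cwe, mul_assoc]
  have hc : W0 * (r Q m * evw Γ w * evw Γ w') = r Q m * evw Γ w * evw Γ w' * W0 := by
    rw [← mul_assoc, hc1, mul_assoc _ W0, cwe, ← mul_assoc]
  have h1 : π (θ W0) (θ (r Q m * evw Γ w * evw Γ w') * o) = π (θ W0) u := by
    have h2 : P θ (r Q m * evw Γ w * evw Γ w') = r (kk θ) m * evw (gg θ) w * evw (gg θ) w' := by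
      rw [P_mul hc1 (cwe w'), P_nf, P_evw]
    rw [h, ← h2]
    exact π_mul (cθ hc) (I.cWw ho)
  rcases (π_eq_iff ww (comm_mul (cθ hc) (I.cWw ho)) hu).1 h1 with h3 | h3
  · exact ⟨o, ho, _, by rw [h3, I.comW o ho]⟩
  · refine ⟨o, ho, r Q m * evw Γ w * evw Γ w' * W0, ?_⟩
    rw [h3, map_mul θ _ W0, ← I.comW o ho, mul_assoc]

end InstW

/-- **The closing with a kernel of odd order.** -/
theorem centW (G : Type*) [Group G] [Finite G] : StepFive.CentW G := by
  intro θ W hinj hodd hcom hcent hne g hg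
  have I : InstW (θ.comp NormalH.ψ) θ W := by
    refine ⟨?_, fun _ => rfl, hodd, hcom, ?_, ?_⟩
    · exact hinj.comp (NormalH.ψ_injective H0Basic.finite_H0 H0Basic.card_H0_le XSq.hx_sq_ne)
    · intro g hg
      obtain ⟨w, hw, h, rfl⟩ := hcent g hg
      have h1 : θ h * θ (NormalH.ψ τ) = θ (NormalH.ψ τ) * θ h := by
        have h2 := hcom w hw (NormalH.ψ τ)
        have h3 : w * θ h * θ (NormalH.ψ τ) = θ (NormalH.ψ τ) * (w * θ h) := hg
        apply mul_left_cancel (a := w)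
        calc w * (θ h * θ (NormalH.ψ τ)) = w * θ h * θ (NormalH.ψ τ) := by group
          _ = (θ (NormalH.ψ τ) * w) * θ h := by rw [h3]; group
          _ = w * (θ (NormalH.ψ τ) * θ h) := by rw [← h2]; group
      have h4 : h * NormalH.ψ τ = NormalH.ψ τ * h := hinj (by rw [map_mul, map_mul, h1])
      have h5 : NormalH.ψ τ = Pres.hx ^ 2 := by
        rw [show τ = gx ^ 2 from rfl, map_pow, NormalH.ψ_gx]
      have h6 : h ∈ NormalH.ψ.range := by
        rw [NormalH.range_ψ, ← Central.centralizer_eq, Subgroup.mem_centralizer_singleton_iff, ← h5, h4]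
      obtain ⟨v, rfl⟩ := h6
      exact ⟨w, hw, v, rfl⟩
    · exact hne
  exact I.cent_w g hg

end Cfsg.Agent.HN.XInstW
end

-- part: HN/StepFiveMain
section
/-!
# A simple group with `C_G(t) = W × 2.HS.2`, `W` of odd order, is the Harada–Norton group
-/

set_option autoImplicit false

namespace Cfsg.Agent.HN.StepFiveMain

open Cfsg.Agent.HN.Pres Cfsg.Agent.HN.H0Basic Cfsg.Agent.HN.EmbW

/-- **The Harada–Norton group.** -/
theorem iso {G : Type*} [Group G] [Finite G] [IsSimpleGroup G] {φ : H0 →* G} {W : Subgroup G}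
    (E : EmbO φ τ W) : Cfsg.Spor.IsoHN G := StepFive.iso' E (XInstW.centW G)

end Cfsg.Agent.HN.StepFiveMain
end

-- part: StandardComponent/HS/TwoMain
section
set_option autoImplicit false

/-!
S1752, the case `|R| = 2`: `φ : K →* G` is injective (`K = 2.HS`), `C_G(φ K) = W × ⟨t⟩` with `W` of odd order, `C_G(t)`
acts on `φ K` as a subgroup of `H0`, and `W` is normalised by every `g` such that `gtg⁻¹` commutes with `t`.  Then a simple
group `G` is the Harada–Norton group.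
-/

namespace Cfsg.Agent.StandardComponent.HS.TwoMain

open Cfsg.Agent.HN.Pres Cfsg.Agent.HN.HS100 Cfsg.Agent.HN.H0Basic Cfsg.Agent.HN.FusGen Cfsg.Agent.HN.FusK0
open Cfsg.Agent.HN.Twist Cfsg.Agent.HN.FusOne Cfsg.Agent.HN.Classes Cfsg.Agent.HN.Syl Cfsg.Agent.HN.EmbW
open Cfsg.Agent.StandardComponent.HS Cfsg.Agent.StandardComponent.HS.Four Cfsg.Agent.StandardComponent.HS.FourOuter
open Cfsg.Agent.StandardComponent.HS.TwoExt Cfsg.Agent.HN Subgroup

/-- The data. -/
structure Data {G : Type*} [Group G] (φ : K →* G) (W : Subgroup G) : Prop where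
  inj : Function.Injective φ
  odd : Odd (Nat.card W)
  comW : ∀ w ∈ W, ∀ k, w * φ k = φ k * w
  hR : ∀ g, (∀ k, g * φ k = φ k * g) → ∃ w ∈ W, g = w ∨ g = w * φ τ0
  hM : ∀ g, g * φ τ0 = φ τ0 * g → ∃ h : H0, Acts φ g h
  nrm : ∀ g, Commute (φ τ0) (g * φ τ0 * g⁻¹) → ∀ w ∈ W, g * w * g⁻¹ ∈ W

namespace Data

variable {G : Type*} [Group G] {φ : K →* G} {W : Subgroup G} (D : Data φ W)

include D

omit D in
theorem tt : φ τ0 * φ τ0 = 1 := by rw [← map_mul, FourOuter.τ0_sq, map_one]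

omit D in
theorem t_comm (k : K) : φ k * φ τ0 = φ τ0 * φ k := by rw [← map_mul, ← map_mul, τ0_comm]

theorem t_ne : φ τ0 ≠ 1 := fun h => τ0_ne (D.inj (h.trans (map_one φ).symm))

theorem orderOf_t : orderOf (φ τ0) = 2 :=
  orderOf_eq_prime (by rw [pow_two]; exact tt) D.t_ne

theorem t_notMem : φ τ0 ∉ W := fun h => D.t_ne (eq_one_of_sq D.odd h tt)

theorem disj {k : K} (hk : φ k ∈ W) : k = 1 := by
  have h1 : ∀ l, k * l = l * k := by
    intro l
    apply D.inj
    rw [map_mul, map_mul]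
    exact D.comW _ hk l
  rcases StepFive.cen_K k h1 with h | h
  · exact h
  · exact absurd (h ▸ hk) D.t_notMem

/-- an involution in the coset `W t` is `t`. -/
theorem eq_t {u w : G} (hw : w ∈ W) (hu : u = w * φ τ0) (h2 : u * u = 1) : u = φ τ0 := by
  have h1 : w * w = 1 := by
    have h3 := D.comW w hw τ0
    calc w * w = w * (φ τ0 * φ τ0) * w := by rw [tt, mul_one]
      _ = (w * φ τ0) * (φ τ0 * w) := by group
      _ = u * u := by rw [← h3, hu]
      _ = 1 := h2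
  rw [hu, eq_one_of_sq D.odd hw h1, one_mul]

omit D in
theorem conj_sq (g : G) : g * φ τ0 * g⁻¹ * (g * φ τ0 * g⁻¹) = 1 := by
  calc g * φ τ0 * g⁻¹ * (g * φ τ0 * g⁻¹) = g * (φ τ0 * φ τ0) * g⁻¹ := by group
    _ = 1 := by rw [tt]; group

theorem mem_normalizer [Finite G] {g : G} (hg : Commute (φ τ0) (g * φ τ0 * g⁻¹)) : g ∈ NN W := by
  have h1 : W.map (MulAut.conj g).toMonoidHom ≤ W := by
    rintro _ ⟨w, hw, rfl⟩
    exact D.nrm g hg w hw
  have h2 : W.map (MulAut.conj g).toMonoidHom = W := by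
    apply Subgroup.eq_of_le_of_card_ge h1
    rw [Nat.card_congr (Subgroup.equivMapOfInjective W (MulAut.conj g).toMonoidHom (MulAut.conj g).injective).toEquiv]
  rw [mem_normalizer_iff]
  intro w
  constructor
  · intro hw
    exact D.nrm g hg w hw
  · intro hw
    rw [← h2] at hw
    obtain ⟨v, hv, he⟩ := hw
    have h3 : g * v * g⁻¹ = g * w * g⁻¹ := he
    have h4 : v = w := mul_left_cancel (mul_right_cancel h3)
    rwa [← h4]

theorem mem_of_comm [Finite G] {g : G} (hg : g * φ τ0 = φ τ0 * g) : g ∈ NN W := by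
  apply D.mem_normalizer
  rw [mul_inv_eq_iff_eq_mul.2 hg]

theorem φ_mem [Finite G] (k : K) : φ k ∈ NN W := D.mem_of_comm (t_comm k)

/-- `φ` with values in `N_G(W)` -/
def φN [Finite G] : K →* NN W := φ.codRestrict (NN W) D.φ_mem

/-- `φ` with values in `N_G(W)/W` -/
def φQ [Finite G] : K →* QN W := (pr W).comp D.φN

theorem φQ_apply [Finite G] (k : K) : D.φQ k = pr W (D.φN k) := rfl

theorem φQ_inj [Finite G] : Function.Injective D.φQ := by
  rw [injective_iff_map_eq_one]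
  intro k hk
  exact D.disj (pr_eq_one.1 hk)

/-- an element of `N_G(W)` centralising `t` modulo `W` centralises `t`. -/
theorem comm_of_pr [Finite G] {g : NN W} (hg : pr W g * D.φQ τ0 = D.φQ τ0 * pr W g) :
    (g : G) * φ τ0 = φ τ0 * g := by
  have h1 : pr W (g * D.φN τ0 * g⁻¹ * (D.φN τ0)⁻¹) = 1 := by
    rw [map_mul, map_mul, map_mul, map_inv, map_inv]
    rw [φQ_apply] at hg
    rw [hg]
    group
  have h2 : (g : G) * φ τ0 * (g : G)⁻¹ * (φ τ0)⁻¹ ∈ W := pr_eq_one.1 h1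
  exact mul_inv_eq_iff_eq_mul.1 (D.eq_t h2 (by group) (conj_sq _))

theorem two [Finite G] : Two D.φQ where
  inj := D.φQ_inj
  hR := by
    intro x hx
    obtain ⟨g, rfl⟩ := pr_surj W x
    have hgt := D.comm_of_pr (hx τ0)
    obtain ⟨h, hh⟩ := D.hM g hgt
    have h1 : ∀ k, conjK h k = k := by
      intro k
      have h2 : pr W (g * D.φN k * g⁻¹ * (D.φN k)⁻¹) = 1 := by
        rw [map_mul, map_mul, map_mul, map_inv, map_inv]
        have h3 := hx k
        rw [φQ_apply] at h3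
        rw [h3]
        group
      have h4 : (g : G) * φ k * (g : G)⁻¹ * (φ k)⁻¹ ∈ W := pr_eq_one.1 h2
      rw [hh k, ← map_inv, ← map_mul] at h4
      exact mul_inv_eq_one.1 (D.disj h4)
    obtain ⟨w, hw, h5⟩ := D.hR g (fun k => by
      have h6 := hh k
      rw [h1 k] at h6
      exact mul_inv_eq_iff_eq_mul.1 h6)
    have hwN : w ∈ NN W := le_normalizer hw
    rcases h5 with h5 | h5
    · left
      apply pr_eq_one.2
      rw [h5]
      exact hw
    · right
      rw [φQ_apply]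
      have h6 : g = ⟨w, hwN⟩ * D.φN τ0 := Subtype.ext h5
      have h7 : pr W ⟨w, hwN⟩ = 1 := pr_eq_one.2 hw
      rw [h6, map_mul, h7, one_mul]
  hM := by
    intro x hx
    obtain ⟨g, rfl⟩ := pr_surj W x
    obtain ⟨h, hh⟩ := D.hM g (D.comm_of_pr hx)
    refine ⟨h, fun k => ?_⟩
    rw [φQ_apply, φQ_apply, ← map_inv, ← map_mul, ← map_mul]
    congr 1
    exact Subtype.ext (hh k)

/-- a commuting conjugate of `t` in `N_G(W)/W` -/
theorem hexQ [Finite G] [IsSimpleGroup G] : ∃ x : QN W, x * D.φQ τ0 * x⁻¹ ≠ D.φQ τ0 ∧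
    x * D.φQ τ0 * x⁻¹ * D.φQ τ0 = D.φQ τ0 * (x * D.φQ τ0 * x⁻¹) := by
  obtain ⟨g, hg, hcomm⟩ := Cfsg.Agent.SporRec.LyReduce.exists_conj_ne (φ τ0) D.orderOf_t
    ⟨φ ⟨gx, gx_mem⟩, φ ⟨gy, gy_mem⟩, fun h => by
      rw [← map_mul, ← map_mul] at h
      have h1 : gx * gy = gy * gx := congrArg Subtype.val (D.inj h)
      have h2 : P1408.hw [0, 2] ≠ P1408.hw [2, 0] := hw_ne rfl rfl (p := 3) (by norm_num) (by decide +kernel)
      apply h2
      rw [P1408.hw_cons 0 [2], P1408.hw_cons 2 [], P1408.hw_cons 2 [0], P1408.hw_cons 0 [], P1408.hw_nil, P1408.hw_x,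
        P1408.hw_y, mul_one, mul_one, h1]⟩
  have hN := D.mem_normalizer hcomm
  refine ⟨pr W ⟨g, hN⟩, ?_, ?_⟩
  · intro h
    have h2 : pr W (⟨g, hN⟩ * D.φN τ0 * (⟨g, hN⟩ : NN W)⁻¹ * (D.φN τ0)⁻¹) = 1 := by
      rw [map_mul, map_mul, map_mul, map_inv, map_inv]
      rw [φQ_apply] at h
      rw [h, mul_inv_cancel]
    have h3 : g * φ τ0 * g⁻¹ * (φ τ0)⁻¹ ∈ W := pr_eq_one.1 h2
    exact hg (D.eq_t h3 (by group) (conj_sq g))
  · rw [φQ_apply, ← map_inv, ← map_mul, ← map_mul, ← map_mul, ← map_mul]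
    congr 1
    exact Subtype.ext hcomm.symm.eq

omit D in
/-- the commuting conjugate in terms of an embedding -/
theorem hex_of {H Γ : Type*} [Group H] [Group Γ] {ψ : H →* Γ} {τ' : H} (E : Emb ψ τ')
    (hx : ∃ x : Γ, x * ψ τ' * x⁻¹ ≠ ψ τ' ∧ x * ψ τ' * x⁻¹ * ψ τ' = ψ τ' * (x * ψ τ' * x⁻¹)) :
    ∃ h, InK ψ τ' h ∧ h ≠ τ' := by
  obtain ⟨x, h1, h2⟩ := hx
  obtain ⟨h, hh⟩ := E.cent _ h2
  refine ⟨h, isConj_iff.2 ⟨x, hh.symm⟩, ?_⟩
  rintro rfl
  exact h1 hh.symm

/-- an outer element can be chosen with square `1` or `t` and acting as `gz`. -/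
theorem exists_outer_two [Finite G] {g : G} {h : H0} (hg : Acts φ g h) (hh : h ∉ K) :
    ∃ u : G, Acts φ u gz ∧ (u * u = 1 ∨ u * u = φ τ0) := by
  have hk : gz * h⁻¹ ∈ K := out_mul gz_notMem_K (fun h1 => hh (inv_mem_iff.1 h1))
  obtain ⟨g1, hg1⟩ : ∃ g1, g1 = φ ⟨gz * h⁻¹, hk⟩ * g := ⟨_, rfl⟩
  have ha : Acts φ g1 gz := by
    have h1 := Acts.mul (acts_of (φ := φ) ⟨gz * h⁻¹, hk⟩) hg
    have h2 : ((⟨gz * h⁻¹, hk⟩ : K) : H0) * h = gz := by
      change gz * h⁻¹ * h = gz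
      group
    rw [h2, ← hg1] at h1
    exact h1
  have hn : ∀ n : ℕ, Odd n → (gz : H0) ^ n = gz := by
    rintro n ⟨k, rfl⟩
    rw [pow_succ, pow_mul, pow_two, gz_sq', one_pow, one_mul]
  have hsq : ∃ w ∈ W, g1 * g1 = w ∨ g1 * g1 = w * φ τ0 := by
    apply D.hR
    intro k
    have h1 := Acts.mul ha ha k
    rw [gz_sq'] at h1
    have h2 := acts_one (φ := φ) k
    rw [one_mul, inv_one, mul_one] at h2
    rw [← h2] at h1
    exact mul_inv_eq_iff_eq_mul.1 h1
  obtain ⟨w, hw, hsq⟩ := hsq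
  have hwn : w ^ Nat.card W = 1 := by
    have h1 : (⟨w, hw⟩ : W) ^ Nat.card W = 1 := pow_card_eq_one'
    exact congrArg Subtype.val h1
  refine ⟨g1 ^ Nat.card W, ?_, ?_⟩
  · have h1 := acts_pow ha (Nat.card W)
    rwa [hn _ D.odd] at h1
  · rw [← pow_add, ← two_mul, pow_mul, pow_two]
    rcases hsq with h1 | h1
    · left
      rw [h1, hwn]
    · right
      have h2 : Commute w (φ τ0) := D.comW w hw τ0
      rw [h1, h2.mul_pow, hwn, one_mul]
      obtain ⟨k, hk⟩ := D.odd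
      rw [hk, pow_succ, pow_mul, pow_two, tt, one_pow, one_mul]

/-- **The case `|R| = 2`.** -/
theorem iso [Finite G] [IsSimpleGroup G] : Cfsg.Spor.IsoHN G := by
  haveI : Finite (QN W) := Quotient.finite _
  by_cases hin : ∀ g, g * φ τ0 = φ τ0 * g → ∀ h, Acts φ g h → h ∈ K
  · -- the centraliser is `W × K`
    exfalso
    have E : EmbO φ τ0 W :=
      { inj := D.inj
        comm := τ0_comm
        sq := FourOuter.τ0_sq
        ne := τ0_ne
        odd := D.odd
        comW := D.comW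
        cent := by
          intro g hg
          obtain ⟨h, hh⟩ := D.hM g hg
          have hK := hin g hg h hh
          obtain ⟨w, hw, h1⟩ := D.hR _ (comm_of_acts (acts_of (φ := φ) ⟨h, hK⟩) hh)
          rcases h1 with h1 | h1
          · refine ⟨w, hw, ⟨h, hK⟩, ?_⟩
            rw [D.comW w hw, inv_mul_eq_iff_eq_mul.1 h1]
          · refine ⟨w, hw, ⟨h, hK⟩ * τ0, ?_⟩
            rw [D.comW w hw, inv_mul_eq_iff_eq_mul.1 h1, map_mul, mul_assoc, D.comW w hw]
        nrm := D.nrm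
        cen := StepFive.cen_K }
    exact StepFive.false_K E
  · push Not at hin
    obtain ⟨g, -, h, hg, hh⟩ := hin
    obtain ⟨u, hu, hu2⟩ := D.exists_outer_two hg hh
    have hut : u * φ τ0 = φ τ0 * u := by
      have h1 := hu τ0
      have h2 : conjK gz τ0 = τ0 := by
        apply Subtype.ext
        rw [coe_conjK]
        change gz * τ * gz⁻¹ = τ
        rw [τ_comm, mul_inv_cancel_right]
      rw [h2] at h1
      exact mul_inv_eq_iff_eq_mul.1 h1
    have huN := D.mem_of_comm hut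
    have huQ : Acts D.φQ (pr W ⟨u, huN⟩) gz := by
      intro k
      rw [φQ_apply, φQ_apply, ← map_inv, ← map_mul, ← map_mul]
      congr 1
      exact Subtype.ext (hu k)
    rcases hu2 with hu2 | hu2
    · -- `H0`
      have huQ2 : pr W ⟨u, huN⟩ * pr W ⟨u, huN⟩ = 1 := by
        rw [← map_mul]
        have : (⟨u, huN⟩ : NN W) * ⟨u, huN⟩ = 1 := Subtype.ext hu2
        rw [this, map_one]
      obtain ⟨ψ, E, hψ, hψz⟩ := embH D.two huQ huQ2
      have hex := hex_of E (by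
        have h1 : ψ τ = D.φQ τ0 := hψ τ0
        rw [h1]
        exact D.hexQ)
      obtain ⟨hz, -, -⟩ := MainFus.main' E hex
      -- the involution `Z`
      obtain ⟨x, hx⟩ := isConj_iff.1 hz
      obtain ⟨c, rfl⟩ := pr_surj W x
      obtain ⟨Z, hZ⟩ : ∃ Z : G, Z = c * φ τ0 * (c : G)⁻¹ := ⟨_, rfl⟩
      have hZ2 : Z * Z = 1 := by rw [hZ]; exact conj_sq _
      have hZW : ∀ w ∈ W, w * Z = Z * w := by
        intro w hw
        have h1 : (c : G)⁻¹ * w * c ∈ W := by
          have h2 := mem_normalizer_iff.1 ((NN W).inv_mem c.2) w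
          rw [inv_inv] at h2
          exact h2.1 hw
        have h2 := D.comW _ h1 τ0
        rw [hZ]
        calc w * (c * φ τ0 * (c : G)⁻¹) = c * (((c : G)⁻¹ * w * c) * φ τ0) * (c : G)⁻¹ := by group
          _ = c * (φ τ0 * ((c : G)⁻¹ * w * c)) * (c : G)⁻¹ := by rw [h2]
          _ = c * φ τ0 * (c : G)⁻¹ * w := by group
      have hZu : Z * u⁻¹ ∈ W := by
        have h1 : pr W (c * D.φN τ0 * c⁻¹ * (⟨u, huN⟩ : NN W)⁻¹) = 1 := by
          rw [map_mul, map_mul, map_mul, map_inv, map_inv]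
          have h2 : ψ τ = pr W (D.φN τ0) := hψ τ0
          rw [h2, hψz] at hx
          rw [hx, mul_inv_cancel]
        have h3 : (c : G) * φ τ0 * (c : G)⁻¹ * u⁻¹ ∈ W := pr_eq_one.1 h1
        rw [hZ]
        exact h3
      have hZa : Acts φ Z gz := by
        intro k
        have h1 := D.comW _ hZu (conjK gz k)
        calc Z * φ k * Z⁻¹ = (Z * u⁻¹) * (u * φ k * u⁻¹) * (Z * u⁻¹)⁻¹ := by group
          _ = (Z * u⁻¹) * φ (conjK gz k) * (Z * u⁻¹)⁻¹ := by rw [hu k]
          _ = φ (conjK gz k) := by rw [h1, mul_inv_cancel_right]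
      obtain ⟨χ, hχ, hχz, hχm⟩ := exists_ext gz_notMem_K gz_sq' hZa hZ2
      have hχτ : χ τ = φ τ0 := hχ τ0
      have E' : EmbO χ τ W :=
        { inj := inj_ext D.inj hZa hχ hχm
          comm := τ_comm
          sq := τ_mul_τ
          ne := τ_ne_one
          odd := D.odd
          comW := by
            intro w hw m
            by_cases hmK : m ∈ K
            · have h2 : χ m = φ ⟨m, hmK⟩ := hχ ⟨m, hmK⟩
              rw [h2]
              exact D.comW w hw _
            · obtain ⟨k, hk, -⟩ := hχm m hmK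
              rw [hk, ← mul_assoc, D.comW w hw, mul_assoc, hZW w hw, mul_assoc]
          cent := by
            intro g hg
            rw [hχτ] at hg
            obtain ⟨m, hm⟩ := D.hM g hg
            obtain ⟨w, hw, h1⟩ := D.hR _ (comm_of_acts (acts_ext hZa hχ hχm m) hm)
            have hcw : ∀ m : H0, w * χ m = χ m * w := by
              intro m
              by_cases hmK : m ∈ K
              · have h2 : χ m = φ ⟨m, hmK⟩ := hχ ⟨m, hmK⟩
                rw [h2]
                exact D.comW w hw _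
              · obtain ⟨k, hk, -⟩ := hχm m hmK
                rw [hk, ← mul_assoc, D.comW w hw, mul_assoc, hZW w hw, mul_assoc]
            rcases h1 with h1 | h1
            · exact ⟨w, hw, m, by rw [hcw, inv_mul_eq_iff_eq_mul.1 h1]⟩
            · refine ⟨w, hw, m * τ, ?_⟩
              rw [hcw, inv_mul_eq_iff_eq_mul.1 h1, map_mul, hχτ, mul_assoc, D.comW w hw]
          nrm := by rw [hχτ]; exact D.nrm
          cen := StepFive.cen_H0 }
      exact StepFiveMain.iso E'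
    · -- the isoclinic group
      exfalso
      have huQ2 : pr W ⟨u, huN⟩ * pr W ⟨u, huN⟩ = D.φQ τ0 := by
        rw [← map_mul, φQ_apply]
        congr 1
        exact Subtype.ext hu2
      obtain ⟨ψ, E, hψ⟩ := embT D.two huQ huQ2
      refine isoclinic_false' E (hex_of E ?_)
      have h1 : ψ τT = D.φQ τ0 := hψ τ0
      rw [h1]
      exact D.hexQ

end Data

end Cfsg.Agent.StandardComponent.HS.TwoMain
end

-- part: StandardComponent/HS/FinalTwo
section
set_option autoImplicit false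

/-!
S1752, the case `|R| = 2`: the recognition of `HN` from `C(L) = W ⟨t⟩`.
-/

namespace Cfsg.Agent.StandardComponent.HS.FinalTwo

open Cfsg.Agent.HN.Pres Cfsg.Agent.HN.HS100 Cfsg.Agent.HN.H0Basic
open Cfsg.Agent.HN.FusK0
open Cfsg.Agent.StandardComponent.HS.FourK0 Cfsg.Agent.StandardComponent.HS.Four
open Cfsg.Agent.StandardComponent.HS.FourOuter
open Cfsg.Agent.StandardComponent.HS
open Cfsg.Agent.StandardComponent.HS.PairA
open Cfsg.Agent.HN
open Subgroup

variable {G : Type*} [Group G] {φ : K →* G}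

theorem odd_of_mem [Finite G] {W : Subgroup G} (hodd : Odd (Nat.card W)) {w : G} (hw : w ∈ W) : Odd (orderOf w) := by
  refine Odd.of_dvd_nat hodd ?_
  have h1 : orderOf (⟨w, hw⟩ : W) ∣ Nat.card W := orderOf_dvd_natCard _
  rwa [Subgroup.orderOf_mk] at h1

theorem mem_iff [Finite G] (S : Std φ) {W : Subgroup G} (hodd : Odd (Nat.card W)) (hcen : ∀ w ∈ W, Cen φ w)
    (hR : ∀ g, Cen φ g → ∃ w ∈ W, g = w ∨ g = w * φ τ0) {g : G} : g ∈ W ↔ g ∈ Wset φ := by
  constructor
  · exact fun h => ⟨hcen g h, odd_of_mem hodd h⟩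
  · rintro ⟨h1, h2⟩
    obtain ⟨w, hw, rfl | h3⟩ := hR g h1
    · exact hw
    · exfalso
      have hc : Commute w (φ τ0) := hcen w hw τ0
      have h4 : g ^ orderOf g = 1 := pow_orderOf_eq_one g
      obtain ⟨m, hm⟩ := h2
      have h5 : φ τ0 ^ orderOf g = φ τ0 := by
        rw [hm, pow_succ, pow_mul, pow_two, t_sq, one_pow, one_mul]
      have h6 : w ^ orderOf g * φ τ0 = 1 := by
        have h7 : g ^ orderOf g = w ^ orderOf g * φ τ0 ^ orderOf g := by
          have h10 : ∀ n : ℕ, g ^ n = w ^ n * φ τ0 ^ n := by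
            intro n
            rw [h3]
            exact hc.mul_pow n
          exact h10 _
        rw [h5, h4] at h7
        exact h7.symm
      have h8 : φ τ0 ∈ W := by
        rw [← inv_eq_of_mul_eq_one_right h6]
        exact W.inv_mem (W.pow_mem hw _)
      have h9 := odd_of_mem hodd h8
      rw [orderOf_eq_prime (by rw [pow_two, t_sq]) S.t_ne] at h9
      exact absurd h9 (by decide)

/-- **The case `|R| = 2`.** -/
theorem iso [Finite G] [IsSimpleGroup G] (S : Std φ) {W : Subgroup G} (hodd : Odd (Nat.card W))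
    (hcen : ∀ w ∈ W, Cen φ w) (hR : ∀ g, Cen φ g → ∃ w ∈ W, g = w ∨ g = w * φ τ0)
    (H : ∀ φ₁ φ₂ : K →* G, Two φ₁ φ₂ → (∃ k, φ₂ τ0 = φ₁ k) → (∃ k, φ₁ τ0 = φ₂ k) → ∀ w ∈ Wset φ₁, Cen φ₂ w) :
    Cfsg.Spor.IsoHN G := by
  have D : TwoMain.Data φ W :=
    { inj := S.inj
      odd := hodd
      comW := fun w hw k => hcen w hw k
      hR := hR
      hM := S.acts
      nrm := by
        intro g hg w hw
        rw [mem_iff S hodd hcen hR] at hw ⊢
        exact S.nrm H g hg hw }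
  exact D.iso

end Cfsg.Agent.StandardComponent.HS.FinalTwo
end
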