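import Cfsg.Agent.HN.CentUp2
import Cfsg.Agent.HN.Syl
import Cfsg.Agent.HN.ExtR
set_option linter.all false

-- part: StandardComponent/HS/NoD4Facts
section
set_option autoImplicit false

/-!
S1752, `|R| = 4`: the finite facts about `H0 = 2·HS.2` used in the exclusion of the fusion of `τ` and `d`
(`NoD4.lean`).  All of them are equations between words in the generators, and the list of the 256 elements of
the centraliser of `b`, `s2`, `s5`.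
-/

namespace Cfsg.Agent.StandardComponent.HS.NoD4Facts

open Cfsg.Agent.HN.Pres Cfsg.Agent.HN.HS100 Cfsg.Agent.HN.P1408 Cfsg.Agent.HN.H0Basic
open Cfsg.Agent.HN.Syl Cfsg.Agent.HN.Classes Cfsg.Agent.HN.ColChain Cfsg.Agent.HN.CentUp Cfsg.Agent.HN.CentUp2
open scoped commutatorElement
open Cfsg.Agent.HN
open Subgroup

/-- b = a τ -/
def wb : List ℕ := [0, 0, 2, 2, 2]
/-- s2 -/
def w2 : List ℕ := [4, 1, 2, 2, 0, 4, 3, 0, 2, 2, 2, 4, 2, 2, 2, 4, 3]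
/-- s3 -/
def w3 : List ℕ := [2, 0, 4, 2, 0, 4, 2, 0, 2, 2, 2, 4, 2, 2, 2, 4]
/-- s4 -/
def w4 : List ℕ := [2, 0, 4, 2, 2, 2, 1, 4, 3]
/-- s5 -/
def w5 : List ℕ := [0, 2, 4, 3, 3, 4, 3, 3, 4, 2, 2, 4, 2, 1]
/-- s8 -/
def w8 : List ℕ := [0, 4, 3, 0, 4, 3, 1, 4, 3]
/-- s3 s7 -/
def w37 : List ℕ := [4, 2, 2, 2, 4, 2, 2, 2, 0, 2, 0, 4, 2, 1, 4, 2]
/-- s4 s8 -/
def w48 : List ℕ := [0, 4, 2, 0, 4, 3, 3, 0, 4, 2]
/-- s4 s3 s7 -/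
def w437 : List ℕ := [3, 4, 1, 2, 2, 0, 4, 2, 2, 0, 2, 2, 2, 4, 2, 2, 2, 4]
/-- s2 s7 s8 -/
def w278 : List ℕ := [2, 4, 2, 2, 2, 4, 2, 2, 2, 4, 3]
/-- x1 = s0 s3 s5 s7 s8, conjugate to d -/
def wx1 : List ℕ := [4, 3, 4, 2, 1, 2, 0, 4, 3, 4, 2, 4, 2, 2, 4, 3, 3, 4, 3, 1]
/-- x2 = s10, conjugate to d -/
def wx2 : List ℕ := [0, 2, 2, 0, 2, 2, 2, 0, 3, 4, 3, 1]
/-- x1 = h1⁻¹ d h1 -/
def wh1 : List ℕ := [2, 2, 0, 3, 0, 3, 3, 4, 3, 4, 3, 4]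
/-- x2 = h2⁻¹ d h2 -/
def wh2 : List ℕ := [0, 2, 2, 2, 4, 3, 3, 0, 3, 0, 2, 4, 2, 2, 4]
/-- τ -/
def wt : List ℕ := [0, 0]
/-- d -/
def wd : List ℕ := [1, 3, 1, 2, 1, 4, 3, 4, 2, 4]
/-- a commutator in `C(x1)` -/
def u1_b : List ℕ := [3, 0, 4, 2, 2, 2, 0, 2, 2, 2, 4, 2, 2, 2, 4, 2]
/-- a commutator in `C(x1)` -/
def v1_b : List ℕ := [2, 0, 4, 2, 2, 2, 1, 4, 3]
/-- a commutator in `C(x1)` -/
def u1_2 : List ℕ := [1, 3, 4, 3, 0, 3, 3, 4, 3, 0, 2, 4, 2, 1, 2, 2]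
/-- a commutator in `C(x1)` -/
def v1_2 : List ℕ := [3, 4, 2, 2, 2, 4, 3, 3, 4, 3, 0, 3, 3, 1, 4]
/-- a commutator in `C(x1)` -/
def u1_4 : List ℕ := [0, 4, 3, 0, 4, 3, 0, 4, 3]
/-- a commutator in `C(x1)` -/
def v1_4 : List ℕ := [4, 3, 1, 3, 0, 3, 4, 3, 0, 3, 4, 3, 1, 2, 4, 2, 4, 2, 4]
/-- a commutator in `C(x1)` -/
def u1_5 : List ℕ := [3, 4, 2, 2, 2, 4, 3, 3, 4, 3, 0, 3, 3, 1, 4]
/-- a commutator in `C(x1)` -/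
def v1_5 : List ℕ := [3, 0, 2, 4, 2, 0, 2, 2, 4, 2, 0, 3, 4, 3, 1, 3]
/-- a commutator in `C(x1)` -/
def u1_37 : List ℕ := [1, 2, 2, 0, 2, 2, 2, 0, 2, 4, 3, 3, 4, 3, 0, 2]
/-- a commutator in `C(x1)` -/
def v1_37 : List ℕ := [4, 1, 2, 2, 0, 4, 3, 0, 2, 2, 2, 4, 2, 2, 2, 4, 3]
/-- a commutator in `C(x2)` -/
def u2_b : List ℕ := [3, 4, 3, 1, 2, 4, 2, 2, 0, 2, 2, 0, 4, 2, 1, 2, 4, 3, 3]
/-- a commutator in `C(x2)` -/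
def v2_b : List ℕ := [3, 0, 4, 3, 4, 3, 4, 3, 3, 4, 2, 2, 2, 4, 2, 2]
/-- a commutator in `C(x2)` -/
def u2_2 : List ℕ := [2, 2, 2]
/-- a commutator in `C(x2)` -/
def v2_2 : List ℕ := [3, 1, 2, 2, 2, 0, 3, 0, 4, 3, 3, 4, 3, 4, 3, 3, 1, 4]
/-- a commutator in `C(x2)` -/
def u2_5 : List ℕ := [0, 2, 4, 3, 1]
/-- a commutator in `C(x2)` -/
def v2_5 : List ℕ := [4, 2, 4, 2, 1, 2, 4, 2, 4, 2, 0, 4, 3, 3, 4, 3, 3, 1, 2, 2]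
/-- the 256 elements of the centraliser of `b`, `s2`, `s5` -/
def c3W : List (List ℕ) := [
  [],
  [0, 0],
  [2, 2, 2],
  [0, 0, 2, 2, 2],
  [0, 4, 2, 0, 4, 2, 0, 4, 2],
  [0, 4, 2, 0, 4, 2, 1, 4, 2],
  [0, 4, 2, 0, 4, 2, 0, 4, 3, 3],
  [0, 4, 2, 0, 4, 2, 1, 4, 3, 3],
  [2, 4, 2, 2, 2, 4, 2, 2, 2, 4, 3],
  [0, 2, 2, 0, 2, 2, 2, 0, 3, 4, 3, 0],
  [0, 2, 2, 0, 2, 2, 2, 0, 3, 4, 3, 1],
  [2, 4, 2, 2, 2, 4, 2, 2, 2, 4, 2, 2],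
  [0, 0, 2, 4, 2, 2, 2, 4, 2, 2, 2, 4, 3],
  [0, 0, 2, 4, 2, 2, 2, 4, 2, 2, 2, 4, 2, 2],
  [0, 2, 4, 2, 2, 2, 0, 2, 2, 2, 0, 2, 2, 0],
  [0, 2, 4, 2, 2, 2, 0, 2, 2, 2, 0, 2, 2, 1],
  [0, 2, 4, 3, 3, 4, 3, 3, 4, 2, 2, 4, 2, 0],
  [0, 2, 4, 3, 3, 4, 3, 3, 4, 2, 2, 4, 2, 1],
  [0, 4, 2, 2, 2, 0, 2, 2, 2, 4, 2, 2, 2, 4],
  [0, 4, 2, 2, 2, 1, 2, 2, 2, 4, 2, 2, 2, 4],
  [3, 0, 3, 3, 0, 2, 2, 2, 0, 2, 4, 2, 0, 2],
  [3, 0, 3, 3, 0, 2, 2, 2, 0, 2, 4, 2, 1, 2],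
  [2, 2, 0, 3, 3, 0, 2, 2, 2, 0, 2, 4, 2, 0, 2],
  [2, 2, 0, 3, 3, 0, 2, 2, 2, 0, 2, 4, 2, 1, 2],
  [1, 3, 4, 3, 0, 2, 2, 2, 0, 3, 4, 2, 2, 4, 2, 0],
  [1, 3, 4, 3, 0, 2, 2, 2, 0, 3, 4, 2, 2, 4, 2, 1],
  [2, 0, 4, 2, 0, 4, 2, 0, 2, 2, 2, 4, 2, 2, 2, 4],
  [2, 0, 4, 2, 0, 4, 2, 1, 2, 2, 2, 4, 2, 2, 2, 4],
  [3, 0, 2, 4, 2, 2, 4, 3, 3, 4, 3, 3, 4, 2, 0, 2],
  [3, 0, 2, 4, 2, 2, 4, 3, 3, 4, 3, 3, 4, 2, 1, 2],
  [3, 0, 4, 2, 2, 2, 0, 2, 2, 2, 4, 2, 2, 2, 4, 2],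
  [3, 0, 4, 2, 2, 2, 1, 2, 2, 2, 4, 2, 2, 2, 4, 2],
  [3, 4, 2, 2, 0, 2, 0, 4, 2, 0, 3, 3, 4, 3, 3, 4],
  [3, 4, 2, 2, 0, 2, 0, 4, 2, 1, 3, 3, 4, 3, 3, 4],
  [4, 2, 2, 2, 4, 2, 2, 2, 0, 3, 0, 4, 3, 0, 4, 3],
  [4, 2, 2, 2, 4, 2, 2, 2, 0, 3, 0, 4, 3, 1, 4, 3],
  [4, 2, 2, 4, 2, 2, 0, 3, 0, 4, 3, 0, 3, 3, 4, 2],
  [4, 2, 2, 4, 2, 2, 0, 3, 0, 4, 3, 1, 3, 3, 4, 2],
  [4, 2, 2, 4, 3, 3, 4, 3, 4, 3, 3, 4, 2, 2, 4, 2],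
  [1, 2, 0, 2, 0, 2, 4, 2, 4, 3, 3, 0, 2, 2, 4, 2, 4],
  [1, 2, 0, 2, 0, 2, 4, 2, 4, 3, 3, 1, 2, 2, 4, 2, 4],
  [1, 2, 0, 2, 0, 3, 4, 2, 4, 2, 4, 2, 2, 4, 2, 0, 2],
  [1, 2, 0, 2, 0, 3, 4, 2, 4, 2, 4, 2, 2, 4, 2, 1, 2],
  [1, 2, 0, 2, 0, 4, 3, 4, 2, 4, 2, 4, 2, 2, 2, 0, 2],
  [1, 2, 0, 2, 0, 4, 3, 4, 2, 4, 2, 4, 2, 2, 2, 1, 2],
  [1, 2, 2, 0, 2, 2, 4, 2, 0, 2, 4, 2, 2, 4, 2, 0, 2],
  [1, 2, 2, 0, 2, 2, 4, 2, 0, 2, 4, 2, 2, 4, 2, 1, 2],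
  [1, 2, 2, 0, 2, 2, 4, 3, 3, 0, 2, 4, 2, 2, 2, 0, 2],
  [1, 2, 2, 0, 2, 2, 4, 3, 3, 0, 2, 4, 2, 2, 2, 1, 2],
  [1, 2, 2, 2, 4, 2, 0, 3, 3, 4, 3, 0, 2, 4, 2, 0, 2],
  [1, 2, 2, 2, 4, 2, 0, 3, 3, 4, 3, 0, 2, 4, 2, 1, 2],
  [1, 3, 3, 0, 3, 3, 0, 3, 3, 0, 4, 2, 4, 3, 3, 0, 2],
  [1, 3, 3, 0, 3, 3, 0, 3, 3, 0, 4, 2, 4, 3, 3, 1, 2],
  [1, 3, 3, 4, 2, 0, 4, 3, 3, 0, 3, 3, 0, 3, 3, 0, 2],
  [1, 3, 3, 4, 2, 0, 4, 3, 3, 0, 3, 3, 0, 3, 3, 1, 2],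
  [2, 2, 0, 4, 2, 2, 2, 0, 2, 2, 2, 4, 2, 2, 2, 4, 2],
  [2, 2, 0, 4, 2, 2, 2, 1, 2, 2, 2, 4, 2, 2, 2, 4, 2],
  [2, 2, 4, 2, 2, 0, 2, 0, 4, 2, 0, 3, 3, 4, 3, 3, 4],
  [2, 2, 4, 2, 2, 0, 2, 0, 4, 2, 1, 3, 3, 4, 3, 3, 4],
  [3, 1, 2, 2, 0, 2, 2, 0, 2, 2, 0, 4, 3, 4, 2, 2, 0],
  [3, 1, 2, 2, 0, 2, 2, 0, 2, 2, 0, 4, 3, 4, 2, 2, 1],
  [3, 1, 2, 2, 0, 2, 2, 4, 2, 0, 2, 4, 3, 3, 4, 3, 0],
  [3, 1, 2, 2, 0, 2, 2, 4, 2, 0, 2, 4, 3, 3, 4, 3, 1],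
  [3, 1, 2, 2, 0, 2, 2, 4, 3, 3, 0, 2, 4, 2, 2, 2, 0],
  [3, 1, 2, 2, 0, 2, 2, 4, 3, 3, 0, 2, 4, 2, 2, 2, 1],
  [3, 1, 2, 2, 2, 4, 3, 3, 0, 4, 2, 4, 3, 0, 4, 3, 0],
  [3, 1, 2, 2, 2, 4, 3, 3, 0, 4, 2, 4, 3, 0, 4, 3, 1],
  [3, 1, 2, 2, 4, 3, 0, 4, 2, 2, 0, 2, 2, 0, 2, 2, 0],
  [3, 1, 2, 2, 4, 3, 0, 4, 2, 2, 0, 2, 2, 0, 2, 2, 1],
  [3, 1, 2, 4, 2, 2, 4, 3, 3, 4, 3, 3, 4, 2, 0, 3, 3],
  [3, 1, 2, 4, 2, 2, 4, 3, 3, 4, 3, 3, 4, 2, 1, 3, 3],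
  [3, 1, 3, 0, 3, 0, 2, 4, 3, 4, 3, 4, 3, 3, 4, 3, 0],
  [3, 1, 3, 0, 3, 0, 2, 4, 3, 4, 3, 4, 3, 3, 4, 3, 1],
  [3, 1, 3, 3, 0, 3, 3, 4, 3, 0, 3, 4, 3, 3, 4, 3, 0],
  [3, 1, 3, 3, 0, 3, 3, 4, 3, 0, 3, 4, 3, 3, 4, 3, 1],
  [3, 3, 3, 0, 2, 4, 3, 3, 4, 3, 3, 4, 2, 2, 4, 2, 0],
  [3, 3, 3, 0, 2, 4, 3, 3, 4, 3, 3, 4, 2, 2, 4, 2, 1],
  [4, 1, 2, 0, 3, 4, 3, 3, 4, 2, 2, 4, 2, 0, 3, 0, 4],
  [4, 1, 2, 0, 3, 4, 3, 3, 4, 2, 2, 4, 2, 0, 3, 1, 4],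
  [4, 1, 2, 2, 0, 4, 3, 0, 2, 2, 2, 4, 2, 2, 2, 4, 3],
  [4, 1, 2, 2, 0, 4, 3, 1, 2, 2, 2, 4, 2, 2, 2, 4, 3],
  [4, 1, 2, 2, 2, 0, 2, 2, 2, 4, 2, 2, 2, 4, 2, 2, 2],
  [4, 1, 2, 2, 2, 1, 2, 2, 2, 4, 2, 2, 2, 4, 2, 2, 2],
  [4, 1, 2, 4, 2, 4, 2, 2, 4, 3, 3, 4, 3, 4, 3, 0, 4],
  [4, 1, 2, 4, 2, 4, 2, 2, 4, 3, 3, 4, 3, 4, 3, 1, 4],
  [4, 1, 3, 0, 2, 4, 2, 2, 4, 3, 3, 4, 3, 0, 2, 0, 4],
  [4, 1, 3, 0, 2, 4, 2, 2, 4, 3, 3, 4, 3, 0, 2, 1, 4],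
  [4, 2, 2, 0, 2, 2, 4, 2, 4, 2, 2, 0, 4, 2, 2, 4, 2],
  [4, 2, 2, 0, 2, 2, 4, 2, 4, 2, 2, 1, 4, 2, 2, 4, 2],
  [4, 2, 2, 0, 4, 2, 2, 4, 2, 4, 2, 2, 0, 2, 2, 4, 2],
  [4, 2, 2, 0, 4, 2, 2, 4, 2, 4, 2, 2, 1, 2, 2, 4, 2],
  [4, 2, 2, 4, 2, 2, 0, 3, 0, 4, 3, 0, 3, 3, 4, 3, 3],
  [4, 2, 2, 4, 2, 2, 0, 3, 0, 4, 3, 1, 3, 3, 4, 3, 3],
  [4, 3, 0, 2, 4, 2, 4, 2, 2, 2, 0, 3, 3, 0, 3, 3, 0],
  [4, 3, 0, 2, 4, 2, 4, 2, 2, 2, 0, 3, 3, 0, 3, 3, 1],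
  [4, 3, 4, 3, 3, 0, 2, 2, 4, 3, 4, 3, 0, 3, 0, 3, 0],
  [4, 3, 4, 3, 3, 0, 2, 2, 4, 3, 4, 3, 0, 3, 0, 3, 1],
  [1, 2, 1, 2, 0, 3, 0, 4, 2, 4, 2, 2, 4, 2, 0, 3, 3, 0],
  [1, 2, 1, 2, 0, 3, 0, 4, 2, 4, 2, 2, 4, 2, 0, 3, 3, 1],
  [1, 2, 2, 0, 2, 2, 0, 4, 2, 2, 0, 4, 3, 4, 2, 4, 2, 0],
  [1, 2, 2, 0, 2, 2, 0, 4, 2, 2, 0, 4, 3, 4, 2, 4, 2, 1],
  [1, 2, 4, 2, 0, 2, 0, 2, 0, 4, 3, 4, 2, 2, 0, 3, 3, 4],
  [1, 2, 4, 2, 0, 2, 0, 2, 0, 4, 3, 4, 2, 2, 1, 3, 3, 4],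
  [1, 3, 3, 0, 2, 2, 0, 4, 2, 4, 2, 4, 3, 0, 4, 3, 3, 0],
  [1, 3, 3, 0, 2, 2, 0, 4, 2, 4, 2, 4, 3, 0, 4, 3, 3, 1],
  [1, 3, 3, 0, 3, 3, 0, 3, 3, 0, 4, 2, 4, 3, 3, 0, 3, 3],
  [1, 3, 3, 0, 3, 3, 0, 3, 3, 0, 4, 2, 4, 3, 3, 1, 3, 3],
  [1, 3, 3, 0, 3, 3, 4, 2, 2, 0, 3, 4, 2, 2, 2, 0, 3, 3],
  [1, 3, 3, 0, 3, 3, 4, 2, 2, 0, 3, 4, 2, 2, 2, 1, 3, 3],
  [1, 3, 3, 4, 2, 0, 4, 3, 3, 0, 3, 3, 0, 3, 3, 0, 3, 3],
  [1, 3, 3, 4, 2, 0, 4, 3, 3, 0, 3, 3, 0, 3, 3, 1, 3, 3],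
  [1, 3, 4, 2, 2, 2, 0, 2, 2, 2, 0, 2, 4, 2, 2, 4, 2, 0],
  [1, 3, 4, 2, 2, 2, 0, 2, 2, 2, 0, 2, 4, 2, 2, 4, 2, 1],
  [2, 2, 1, 2, 2, 0, 2, 2, 0, 2, 2, 0, 4, 3, 4, 2, 2, 0],
  [2, 2, 1, 2, 2, 0, 2, 2, 0, 2, 2, 0, 4, 3, 4, 2, 2, 1],
  [2, 2, 1, 2, 2, 0, 2, 2, 4, 3, 3, 0, 2, 4, 2, 2, 2, 0],
  [2, 2, 1, 2, 2, 0, 2, 2, 4, 3, 3, 0, 2, 4, 2, 2, 2, 1],
  [2, 2, 1, 2, 2, 4, 3, 0, 4, 2, 2, 0, 2, 2, 0, 2, 2, 0],
  [2, 2, 1, 2, 2, 4, 3, 0, 4, 2, 2, 0, 2, 2, 0, 2, 2, 1],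
  [4, 1, 1, 2, 2, 4, 3, 3, 4, 3, 4, 3, 3, 4, 2, 2, 4, 2],
  [4, 2, 2, 0, 2, 2, 4, 2, 4, 2, 2, 0, 4, 2, 2, 4, 3, 3],
  [4, 2, 2, 0, 2, 2, 4, 2, 4, 2, 2, 1, 4, 2, 2, 4, 3, 3],
  [4, 2, 2, 0, 3, 3, 0, 2, 0, 4, 3, 4, 3, 0, 3, 4, 3, 0],
  [4, 2, 2, 0, 3, 3, 0, 2, 0, 4, 3, 4, 3, 0, 3, 4, 3, 1],
  [4, 3, 3, 0, 3, 3, 4, 2, 2, 4, 3, 3, 0, 4, 3, 3, 4, 2],
  [4, 3, 3, 0, 3, 3, 4, 2, 2, 4, 3, 3, 1, 4, 3, 3, 4, 2],
  [4, 3, 3, 3, 0, 2, 0, 2, 0, 3, 0, 3, 0, 4, 2, 2, 2, 4],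
  [4, 3, 3, 3, 0, 2, 0, 2, 0, 3, 0, 3, 1, 4, 2, 2, 2, 4],
  [1, 2, 1, 2, 2, 4, 3, 0, 4, 3, 4, 3, 3, 0, 2, 4, 2, 0, 2],
  [1, 2, 1, 2, 2, 4, 3, 0, 4, 3, 4, 3, 3, 0, 2, 4, 2, 1, 2],
  [1, 2, 2, 1, 2, 2, 2, 0, 3, 4, 3, 4, 2, 0, 4, 2, 0, 4, 2],
  [1, 2, 2, 1, 2, 2, 2, 0, 3, 4, 3, 4, 2, 0, 4, 2, 1, 4, 2],
  [1, 3, 3, 1, 2, 4, 2, 2, 2, 4, 3, 0, 3, 4, 2, 2, 2, 0, 2],
  [1, 3, 3, 1, 2, 4, 2, 2, 2, 4, 3, 0, 3, 4, 2, 2, 2, 1, 2],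
  [3, 1, 2, 2, 0, 3, 4, 2, 2, 2, 4, 2, 0, 2, 4, 2, 2, 2, 0],
  [3, 1, 2, 2, 0, 3, 4, 2, 2, 2, 4, 2, 0, 2, 4, 2, 2, 2, 1],
  [3, 1, 3, 3, 0, 2, 2, 2, 0, 2, 4, 2, 4, 3, 0, 4, 3, 0, 4],
  [3, 1, 3, 3, 0, 2, 2, 2, 0, 2, 4, 2, 4, 3, 0, 4, 3, 1, 4],
  [3, 1, 3, 3, 0, 2, 2, 2, 4, 2, 0, 3, 4, 3, 4, 2, 2, 2, 0],
  [3, 1, 3, 3, 0, 2, 2, 2, 4, 2, 0, 3, 4, 3, 4, 2, 2, 2, 1],
  [3, 4, 1, 2, 0, 3, 4, 3, 3, 4, 2, 2, 2, 0, 4, 3, 4, 2, 0],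
  [3, 4, 1, 2, 0, 3, 4, 3, 3, 4, 2, 2, 2, 0, 4, 3, 4, 2, 1],
  [4, 2, 2, 1, 2, 2, 4, 3, 3, 4, 2, 2, 0, 4, 2, 2, 4, 3, 3],
  [4, 2, 2, 1, 2, 2, 4, 3, 3, 4, 2, 2, 1, 4, 2, 2, 4, 3, 3],
  [4, 3, 1, 3, 0, 3, 3, 0, 4, 2, 4, 2, 4, 2, 2, 0, 3, 3, 0],
  [4, 3, 1, 3, 0, 3, 3, 0, 4, 2, 4, 2, 4, 2, 2, 0, 3, 3, 1],
  [4, 3, 3, 1, 3, 4, 3, 3, 0, 4, 3, 4, 3, 3, 4, 3, 0, 3, 0],
  [4, 3, 3, 1, 3, 4, 3, 3, 0, 4, 3, 4, 3, 3, 4, 3, 0, 3, 1],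
  [4, 3, 4, 3, 3, 0, 2, 0, 2, 4, 2, 4, 3, 0, 3, 3, 4, 3, 3],
  [4, 3, 4, 3, 3, 0, 2, 0, 2, 4, 2, 4, 3, 1, 3, 3, 4, 3, 3],
  [1, 2, 2, 1, 2, 2, 0, 2, 2, 4, 3, 4, 3, 3, 4, 3, 0, 2, 2, 0],
  [1, 2, 2, 1, 2, 2, 0, 2, 2, 4, 3, 4, 3, 3, 4, 3, 0, 2, 2, 1],
  [1, 2, 2, 1, 2, 2, 4, 3, 3, 0, 3, 0, 4, 2, 4, 3, 0, 4, 3, 0],
  [1, 2, 2, 1, 2, 2, 4, 3, 3, 0, 3, 0, 4, 2, 4, 3, 0, 4, 3, 1],
  [1, 2, 2, 4, 3, 0, 2, 4, 2, 2, 0, 2, 2, 4, 3, 0, 4, 2, 2, 0],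
  [1, 2, 2, 4, 3, 0, 2, 4, 2, 2, 0, 2, 2, 4, 3, 0, 4, 2, 2, 1],
  [1, 2, 4, 1, 2, 0, 3, 0, 4, 2, 4, 2, 2, 4, 3, 3, 0, 3, 3, 0],
  [1, 2, 4, 1, 2, 0, 3, 0, 4, 2, 4, 2, 2, 4, 3, 3, 0, 3, 3, 1],
  [1, 2, 4, 2, 1, 3, 0, 2, 2, 4, 3, 4, 3, 3, 4, 3, 0, 2, 2, 0],
  [1, 2, 4, 2, 1, 3, 0, 2, 2, 4, 3, 4, 3, 3, 4, 3, 0, 2, 2, 1],
  [1, 2, 4, 2, 2, 0, 2, 0, 4, 3, 3, 4, 2, 2, 4, 2, 0, 3, 3, 4],
  [1, 2, 4, 2, 2, 0, 2, 0, 4, 3, 3, 4, 2, 2, 4, 2, 1, 3, 3, 4],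
  [1, 3, 3, 3, 1, 2, 0, 3, 3, 4, 2, 4, 2, 2, 4, 3, 3, 0, 3, 0],
  [1, 3, 3, 3, 1, 2, 0, 3, 3, 4, 2, 4, 2, 2, 4, 3, 3, 0, 3, 1],
  [1, 3, 3, 4, 1, 2, 4, 3, 3, 0, 2, 2, 2, 4, 2, 0, 3, 4, 3, 0],
  [1, 3, 3, 4, 1, 2, 4, 3, 3, 0, 2, 2, 2, 4, 2, 0, 3, 4, 3, 1],
  [1, 3, 3, 4, 1, 2, 4, 3, 3, 0, 2, 2, 2, 4, 3, 3, 0, 3, 3, 0],
  [1, 3, 3, 4, 1, 2, 4, 3, 3, 0, 2, 2, 2, 4, 3, 3, 0, 3, 3, 1],
  [1, 3, 3, 4, 1, 2, 4, 3, 3, 0, 4, 2, 2, 2, 4, 2, 0, 3, 3, 0],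
  [1, 3, 3, 4, 1, 2, 4, 3, 3, 0, 4, 2, 2, 2, 4, 2, 0, 3, 3, 1],
  [2, 2, 1, 3, 3, 0, 2, 2, 2, 4, 2, 0, 3, 4, 3, 4, 2, 2, 2, 0],
  [2, 2, 1, 3, 3, 0, 2, 2, 2, 4, 2, 0, 3, 4, 3, 4, 2, 2, 2, 1],
  [2, 4, 1, 3, 1, 2, 4, 2, 2, 4, 3, 3, 4, 3, 0, 3, 3, 0, 4, 3],
  [2, 4, 1, 3, 1, 2, 4, 2, 2, 4, 3, 3, 4, 3, 0, 3, 3, 1, 4, 3],
  [3, 1, 3, 3, 1, 2, 2, 0, 4, 2, 2, 0, 4, 3, 4, 3, 4, 3, 0, 2],
  [3, 1, 3, 3, 1, 2, 2, 0, 4, 2, 2, 0, 4, 3, 4, 3, 4, 3, 1, 2],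
  [3, 3, 3, 4, 3, 0, 2, 4, 2, 4, 2, 2, 2, 0, 3, 3, 0, 3, 3, 0],
  [3, 3, 3, 4, 3, 0, 2, 4, 2, 4, 2, 2, 2, 0, 3, 3, 0, 3, 3, 1],
  [4, 2, 2, 4, 3, 3, 0, 2, 2, 2, 0, 2, 2, 2, 4, 3, 4, 3, 3, 4],
  [4, 2, 2, 4, 3, 3, 0, 2, 2, 2, 1, 2, 2, 2, 4, 3, 4, 3, 3, 4],
  [4, 3, 1, 2, 2, 0, 3, 3, 4, 3, 4, 2, 4, 2, 4, 2, 4, 2, 0, 2],
  [4, 3, 1, 2, 2, 0, 3, 3, 4, 3, 4, 2, 4, 2, 4, 2, 4, 2, 1, 2],
  [4, 3, 3, 3, 4, 2, 0, 3, 3, 4, 2, 2, 2, 4, 2, 2, 0, 2, 2, 4],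
  [4, 3, 3, 3, 4, 2, 0, 3, 3, 4, 2, 2, 2, 4, 2, 2, 1, 2, 2, 4],
  [4, 3, 3, 3, 4, 2, 0, 3, 3, 4, 3, 4, 3, 3, 0, 4, 3, 3, 4, 2],
  [4, 3, 3, 3, 4, 2, 0, 3, 3, 4, 3, 4, 3, 3, 1, 4, 3, 3, 4, 2],
  [4, 3, 4, 2, 1, 2, 0, 4, 3, 4, 2, 4, 2, 2, 4, 3, 3, 4, 3, 0],
  [4, 3, 4, 2, 1, 2, 0, 4, 3, 4, 2, 4, 2, 2, 4, 3, 3, 4, 3, 1],
  [4, 3, 4, 3, 4, 0, 3, 3, 0, 2, 0, 4, 2, 4, 2, 2, 0, 2, 2, 4],
  [4, 3, 4, 3, 4, 0, 3, 3, 0, 2, 0, 4, 2, 4, 2, 2, 1, 2, 2, 4],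
  [1, 2, 2, 1, 3, 3, 0, 4, 3, 3, 0, 4, 2, 4, 2, 4, 2, 0, 2, 2, 2],
  [1, 2, 2, 1, 3, 3, 0, 4, 3, 3, 0, 4, 2, 4, 2, 4, 2, 1, 2, 2, 2],
  [1, 2, 4, 2, 1, 2, 2, 4, 2, 2, 2, 4, 2, 0, 2, 4, 2, 2, 2, 0, 2],
  [1, 2, 4, 2, 1, 2, 2, 4, 2, 2, 2, 4, 2, 0, 2, 4, 2, 2, 2, 1, 2],
  [1, 2, 4, 2, 2, 4, 2, 4, 2, 0, 3, 4, 3, 3, 4, 3, 0, 2, 2, 0, 2],
  [1, 2, 4, 2, 2, 4, 2, 4, 2, 0, 3, 4, 3, 3, 4, 3, 0, 2, 2, 1, 2],
  [1, 3, 3, 3, 4, 2, 0, 2, 4, 2, 2, 2, 4, 2, 2, 0, 2, 4, 2, 0, 2],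
  [1, 3, 3, 3, 4, 2, 0, 2, 4, 2, 2, 2, 4, 2, 2, 0, 2, 4, 2, 1, 2],
  [2, 2, 1, 3, 3, 1, 2, 2, 0, 4, 2, 2, 0, 4, 3, 4, 3, 4, 3, 0, 2],
  [2, 2, 1, 3, 3, 1, 2, 2, 0, 4, 2, 2, 0, 4, 3, 4, 3, 4, 3, 1, 2],
  [2, 4, 2, 2, 1, 3, 3, 0, 2, 2, 0, 2, 4, 2, 4, 3, 0, 4, 3, 3, 0],
  [2, 4, 2, 2, 1, 3, 3, 0, 2, 2, 0, 2, 4, 2, 4, 3, 0, 4, 3, 3, 1],
  [3, 1, 2, 4, 2, 1, 2, 2, 0, 4, 2, 2, 0, 4, 3, 4, 2, 2, 0, 3, 3],
  [3, 1, 2, 4, 2, 1, 2, 2, 0, 4, 2, 2, 0, 4, 3, 4, 2, 2, 1, 3, 3],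
  [3, 1, 3, 1, 3, 4, 3, 3, 4, 3, 0, 4, 3, 3, 4, 3, 0, 3, 3, 4, 2],
  [3, 1, 3, 1, 3, 4, 3, 3, 4, 3, 0, 4, 3, 3, 4, 3, 1, 3, 3, 4, 2],
  [3, 1, 3, 3, 3, 4, 3, 0, 3, 4, 2, 2, 2, 4, 3, 3, 0, 3, 4, 3, 0],
  [3, 1, 3, 3, 3, 4, 3, 0, 3, 4, 2, 2, 2, 4, 3, 3, 0, 3, 4, 3, 1],
  [3, 1, 3, 4, 3, 1, 2, 4, 2, 2, 0, 2, 4, 3, 3, 4, 3, 3, 4, 3, 0],
  [3, 1, 3, 4, 3, 1, 2, 4, 2, 2, 0, 2, 4, 3, 3, 4, 3, 3, 4, 3, 1],
  [3, 1, 3, 4, 3, 1, 3, 3, 4, 2, 2, 2, 4, 3, 0, 3, 4, 2, 2, 2, 0],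
  [3, 1, 3, 4, 3, 1, 3, 3, 4, 2, 2, 2, 4, 3, 0, 3, 4, 2, 2, 2, 1],
  [4, 3, 3, 1, 2, 4, 3, 3, 4, 3, 3, 0, 4, 3, 4, 2, 2, 2, 0, 3, 0],
  [4, 3, 3, 1, 2, 4, 3, 3, 4, 3, 3, 0, 4, 3, 4, 2, 2, 2, 0, 3, 1],
  [1, 2, 2, 1, 2, 2, 1, 2, 0, 3, 4, 2, 4, 2, 2, 4, 3, 3, 0, 3, 3, 0],
  [1, 2, 2, 1, 2, 2, 1, 2, 0, 3, 4, 2, 4, 2, 2, 4, 3, 3, 0, 3, 3, 1],
  [1, 3, 1, 2, 4, 2, 2, 0, 3, 3, 0, 4, 3, 4, 2, 2, 0, 2, 2, 0, 2, 0],
  [1, 3, 1, 2, 4, 2, 2, 0, 3, 3, 0, 4, 3, 4, 2, 2, 0, 2, 2, 0, 2, 1],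
  [1, 3, 3, 3, 1, 3, 1, 2, 4, 2, 2, 4, 2, 2, 4, 2, 2, 0, 4, 3, 0, 3],
  [1, 3, 3, 3, 1, 3, 1, 2, 4, 2, 2, 4, 2, 2, 4, 2, 2, 0, 4, 3, 1, 3],
  [1, 3, 3, 3, 4, 2, 1, 2, 4, 2, 2, 2, 4, 2, 2, 0, 2, 4, 2, 0, 3, 3],
  [1, 3, 3, 3, 4, 2, 1, 2, 4, 2, 2, 2, 4, 2, 2, 0, 2, 4, 2, 1, 3, 3],
  [2, 1, 3, 3, 4, 3, 1, 2, 0, 2, 2, 2, 4, 3, 3, 4, 3, 3, 0, 4, 2, 0],
  [2, 1, 3, 3, 4, 3, 1, 2, 0, 2, 2, 2, 4, 3, 3, 4, 3, 3, 0, 4, 2, 1],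
  [2, 2, 1, 3, 4, 3, 1, 3, 3, 4, 2, 2, 2, 4, 3, 0, 3, 4, 2, 2, 2, 0],
  [2, 2, 1, 3, 4, 3, 1, 3, 3, 4, 2, 2, 2, 4, 3, 0, 3, 4, 2, 2, 2, 1],
  [2, 4, 1, 2, 1, 3, 3, 0, 4, 3, 3, 4, 2, 2, 0, 2, 2, 0, 2, 2, 4, 3],
  [2, 4, 1, 2, 1, 3, 3, 0, 4, 3, 3, 4, 2, 2, 0, 2, 2, 1, 2, 2, 4, 3],
  [2, 4, 3, 3, 1, 3, 4, 2, 2, 0, 2, 4, 2, 4, 2, 0, 4, 3, 3, 4, 3, 4],
  [2, 4, 3, 3, 1, 3, 4, 2, 2, 0, 2, 4, 2, 4, 2, 1, 4, 3, 3, 4, 3, 4],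
  [2, 4, 3, 3, 3, 1, 3, 0, 2, 2, 4, 3, 4, 3, 0, 3, 0, 4, 3, 4, 3, 4],
  [2, 4, 3, 3, 3, 1, 3, 0, 2, 2, 4, 3, 4, 3, 0, 3, 1, 4, 3, 4, 3, 4],
  [3, 1, 3, 3, 3, 1, 3, 0, 2, 2, 4, 3, 4, 3, 3, 4, 2, 2, 0, 2, 0, 2],
  [3, 1, 3, 3, 3, 1, 3, 0, 2, 2, 4, 3, 4, 3, 3, 4, 2, 2, 0, 2, 1, 2],
  [3, 3, 3, 4, 3, 3, 1, 3, 4, 3, 3, 0, 4, 3, 4, 3, 3, 4, 3, 0, 3, 0],
  [3, 3, 3, 4, 3, 3, 1, 3, 4, 3, 3, 0, 4, 3, 4, 3, 3, 4, 3, 0, 3, 1],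
  [3, 4, 3, 3, 3, 4, 3, 0, 2, 2, 4, 2, 2, 2, 4, 3, 3, 0, 3, 3, 4, 2],
  [3, 4, 3, 3, 3, 4, 3, 0, 2, 2, 4, 2, 2, 2, 4, 3, 3, 1, 3, 3, 4, 2],
  [3, 4, 3, 3, 4, 2, 2, 0, 2, 2, 2, 0, 2, 2, 2, 4, 2, 4, 2, 2, 4, 2],
  [3, 4, 3, 3, 4, 2, 2, 0, 2, 2, 2, 1, 2, 2, 2, 4, 2, 4, 2, 2, 4, 2],
  [4, 1, 2, 4, 1, 2, 4, 2, 2, 0, 2, 2, 0, 2, 2, 0, 4, 3, 4, 2, 2, 0],
  [4, 1, 2, 4, 1, 2, 4, 2, 2, 0, 2, 2, 0, 2, 2, 0, 4, 3, 4, 2, 2, 1],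
  [4, 2, 1, 2, 2, 1, 2, 2, 0, 4, 2, 4, 2, 0, 2, 4, 2, 2, 4, 3, 0, 3],
  [4, 2, 1, 2, 2, 1, 2, 2, 0, 4, 2, 4, 2, 0, 2, 4, 2, 2, 4, 3, 1, 3],
  [4, 2, 1, 3, 3, 1, 3, 0, 4, 3, 4, 3, 4, 3, 0, 2, 2, 2, 4, 2, 0, 3],
  [4, 2, 1, 3, 3, 1, 3, 0, 4, 3, 4, 3, 4, 3, 0, 2, 2, 2, 4, 2, 1, 3],
  [4, 3, 3, 1, 2, 4, 3, 3, 0, 3, 0, 4, 2, 2, 4, 2, 4, 2, 0, 4, 2, 4],
  [4, 3, 3, 1, 2, 4, 3, 3, 0, 3, 0, 4, 2, 2, 4, 2, 4, 2, 1, 4, 2, 4],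
  [4, 3, 3, 3, 1, 2, 1, 2, 4, 2, 0, 3, 4, 3, 0, 3, 0, 3, 4, 3, 3, 4],
  [4, 3, 3, 3, 1, 2, 1, 2, 4, 2, 0, 3, 4, 3, 0, 3, 1, 3, 4, 3, 3, 4],
  [3, 3, 4, 3, 3, 1, 3, 4, 2, 2, 0, 2, 4, 2, 4, 2, 0, 4, 3, 3, 4, 3, 4],
  [3, 3, 4, 3, 3, 1, 3, 4, 2, 2, 0, 2, 4, 2, 4, 2, 1, 4, 3, 3, 4, 3, 4],
  [3, 4, 3, 4, 3, 3, 4, 1, 2, 4, 2, 4, 2, 0, 2, 2, 4, 3, 0, 3, 3, 4, 3],
  [3, 4, 3, 4, 3, 3, 4, 1, 2, 4, 2, 4, 2, 0, 2, 2, 4, 3, 1, 3, 3, 4, 3],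
  [1, 2, 1, 3, 4, 3, 1, 2, 1, 2, 4, 2, 4, 2, 4, 2, 2, 0, 2, 0, 3, 4, 3, 3],
  [1, 2, 1, 3, 4, 3, 1, 2, 1, 2, 4, 2, 4, 2, 4, 2, 2, 0, 2, 1, 3, 4, 3, 3]]
/-- tables for `c125` -/
def c125V : List ℕ := [0x98188308580b6178160290be0e82c8600ae0b82a8540500fc1201809e05c268630921282584803c0ec1e81208609c208110a40542283108c1681c82106802c110370660281e00905e1580d85d05607c2e053084014098510340d41c00805411c0780305a08c0c85009c0081f00e04a1102000103a0500680006c0c81802000e010130060380580800c, 0x981883082206215c2e8180780d02c8350bc00c2a83906403c0002909e084240630921282584d03c1180d01f0860201581b03a0981185b0760dc2a0170740502c05a06614c2f80605e0700882c0820482800a0400f81280c07a1802702708811c1f82e0801140c85c070058028360260a8168010a402c0682401c0a00204200e0c00a8090ac00808051, 0x981843101503e1782e8040540282c83e0ae1382a85406e02c0403009e158240630961282484d08e0ec1683100e0001582306c1600d81208c0c81c81c0a60fc130280660e82205005e05c2282c08216c030340180d412820080014018240be0780a03807a0440c80905c0083001d0260f00d00101c03c068270a41680c0510860a41105c04205808042]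
/-- chain for `c125` -/
def c125BS : List (ℕ × ℕ × ℕ × ℕ) := [
  (12, 64, 0x4000000062ee800062ee80004000000040000000e5c8800112a0000040000000400000004000000122c6800040000000e5c880004000000122c68000e5c880004000000040000000400000004000000122c68000400000004630800040000000d800000122c68000d800000046308000d80000005b200000400000004000000062ee8000400000004630800040000000400000004000000040000000400000005b20000040000000e5c88000400000004000000040000000400000004000000122c6800040000000400000004000000122c68000400000004000000112a0000046308000400000004000000040000000400000004000000112a00000400000004000000040000000400000004000000040000000d80000004000000040000000400000004000000122c6800040000000400000005b200000400000004000000112a00000400000004000000040000000400000004000000122c68000400000004000000040000000400000004000000062ee8000400000004000000040000000400000005b2000004000000040000,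 0x8b76e000040000000400000004000000040000),
  (64, 2, 0x2ef2fc590639ef6e0639ef6e37b3d32537034a1f1cd586892cadfb2037b3d32502c53bbe02c53bbe38fd523f02c53bbe1cd586891bcce34f38fd523f0fba7472304e78942ef2fc5902c53bbe2ef2fc5938fd523f02c53bbe2996dc121257304711bd0bcf38fd523f1c45b67d1ce5538e33a8010f1d548194117f21c337034a1f0179b04d02c53bbe272d71bf1a664c0705fbc4341a664c0702c53bbe1a664c071d54819402c53bbe06c2334302c53bbe37b3d3252ef2fc5902c53bbe37b3d32538fd523f117f21c32ef2fc5937b3d32538fd523f2ef2fc59117f21c3357f0628272d71bf1a664c07117f21c3304e789418405c231a664c07141cf4de03b638c61a664c0737b3d32537b3d32502c53bbe2ef2fc5933a8010f02c53bbe1bcce34f02c53bbe2abde6ee38fd523f1a664c0737b3d325013fbdf529315c2d117f21c3141cf4de02c53bbe2abde6ee02c53bbe117f21c302c53bbe24a24e8e379df2ed05fbc434117f21c3117f21c302c53bbe1f3554b21a664c0729315c2d2ef2fc592ef2fc591944a1ee02c53bbe16cbd61f,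 0x2b3b7d8cc1a664c071a664c0702c53bbe2abde6ee)]
/-- last table for `c125` -/
def c125T : ℕ := 0x1c507ff61c77ef8c00c7e8dc0e06a3ac2eec57823205a68339b495730ef19afb2dbda8a121be72b138bb1d4f13a1e1123205a68332f8aef038bb1d4f18f5572b2ef4c55c1c507ff62949cca82b9b6e9d38bb1d4f2dbda8a1117e293418314c3e2737e55438bb1d4f30115f550a5b06db03bd87390af38b0920e3fdf12b0f9fd51a1acde01b54596d2ffcaaa8141d24263a31c7d216d9757d13a1e11216d9757d2cb6904911246de7080624672949cca802f443a31c3d90b52dbda8a10d186e3d1ccb1d82247059d226fda2140ead8e9c38bb1d4f029294ef20e3fdf13a157a512451eb5603c8295a38aafa71222750e606045e7a03c8295a2e0dba2c346679d33ad676c30ef19afb0ead8e9c13a1e112029294ef03bd8739347b164d1ec24cfa2e5598811c0ee23c38bb1d4f02e4e7eb0ef19afb0c5ea510103da9fc05d0db5e2e0dba2c13a1e1123a1fbd212a4e30eb2c34b6d514124cf5254c5665024cf7b72cfef1a31593e35620e3fdf12949cca8141da4ee03c8295a2a5f273c029294ef2b9b6e9d2afb6d2221be72b129a4aa3f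
/-- ranks for `c125` -/
def c125R : ℕ := 0xa61042c83f00c038310290720800284c0360d82506302c0240d0510bc1741285c09a0ec1784e0741840e8460380c42b03806e154090580561242d8210200042f80005c01c04043004108078470880442282a02e0d02904f0160882d01404c12c1a8500c00640501f060078138030ae04c0a84007a0301681801a0c8198040580f81e05405012012023
/-- order for `c125` -/
def c125O : ℕ := 0xa81742301b06a13c2704c0720843083c0261041f0040c60942801c0481202585803c1541d0020581101482b0600b8310100c00180780509411c2d84007e1580e826012028210170920cc068070760a02e00302a07c268010000881c05a030058228430ae1440d00c04e14c088200240f41503705a1780580e0460642903106417c2c8080280bc1b034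

theorem c125_le : Nat.card (cenA [[0, 0, 2, 2, 2], [4, 1, 2, 2, 0, 4, 3, 0, 2, 2, 2, 4, 2, 2, 2, 4, 3], [0, 2, 4, 3, 3, 4, 3, 3, 4, 2, 2, 4, 2, 1]]) ≤ 128 :=
  card_cenA_le (VS := c125V) (bs := c125BS) (T := c125T) (R := c125R) (O := c125O) (by decide +kernel) (by decide +kernel)



/-! ### elements -/

/-- `b = aτ` -/
noncomputable abbrev b : H0 := hw wb
/-- `x1` -/
noncomputable abbrev x1 : H0 := hw wx1
/-- `x2` -/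
noncomputable abbrev x2 : H0 := hw wx2

theorem b_eq : b = a * τ := by
  have h : hw ([2, 2, 2] ++ [0, 0]) = b := hw_eq (by decide +kernel)
  rw [← h, hw_append, hw_a, hw_τ]



theorem d_eq : hw wd = d := rfl

theorem τ_eq : hw wt = τ := hw_τ

/-- two factors -/
theorem eq22 {p q p' q' : List ℕ} (h : eqw (p ++ q) (p' ++ q') = true) : hw p * hw q = hw p' * hw q' := by
  have h1 := hw_eq h
  rwa [hw_append, hw_append] at h1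

theorem eq21 {p q p' : List ℕ} (h : eqw (p ++ q) p' = true) : hw p * hw q = hw p' := by
  have h1 := hw_eq h
  rwa [hw_append] at h1

theorem eq23 {p q p' q' r' : List ℕ} (h : eqw (p ++ q) (p' ++ (q' ++ r')) = true) :
    hw p * hw q = hw p' * (hw q' * hw r') := by
  have h1 := hw_eq h
  rwa [hw_append, hw_append, hw_append] at h1

theorem eq24 {p q p' q' r' s' : List ℕ} (h : eqw (p ++ q) (p' ++ (q' ++ (r' ++ s'))) = true) :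
    hw p * hw q = hw p' * (hw q' * (hw r' * hw s')) := by
  have h1 := hw_eq h
  rwa [hw_append, hw_append, hw_append, hw_append] at h1

/-- the commutator of two words -/
theorem eqc {u v p : List ℕ} (h : eqw (u ++ v) (p ++ (v ++ u)) = true) : ⁅hw u, hw v⁆ = hw p := by
  have h1 := eq23 h
  rw [commutatorElement_def, h1]
  group

theorem eqct {u v p : List ℕ} (h : eqw (u ++ v) ((wt ++ p) ++ (v ++ u)) = true) : ⁅hw u, hw v⁆ = τ * hw p := by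
  rw [eqc h, hw_append, τ_eq]

/-! ### facts about `b` -/

theorem b_sq : b * b = 1 := eq21 (p' := []) (by decide +kernel)

theorem b_ne_one : b ≠ 1 := hw_ne (b := []) (by decide +kernel) (by decide +kernel) (p := 17) (by norm_num)
  (by decide +kernel)

theorem b_ne_τ : b ≠ τ := by
  rw [← hw_τ]
  exact hw_ne (by decide +kernel) (by decide +kernel) (p := 17) (by norm_num) (by decide +kernel)

/-- the words commuting with `b` -/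
theorem comm_b : ∀ w ∈ [w2, w3, w4, w5, w8, w37, w48, w437, w278, wx1, wx2], hw w * b = b * hw w := by
  have h : [w2, w3, w4, w5, w8, w37, w48, w437, w278, wx1, wx2].all (fun w => eqw (w ++ wb) (wb ++ w)) = true := by
    decide +kernel
  intro w hw'
  exact eq22 (List.all_eq_true.1 h w hw')

/-! ### facts for `x1` -/

theorem x1_conj : d * hw wh1 = hw wh1 * x1 := by
  rw [← d_eq]; exact eq22 (by decide +kernel)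

theorem x1_sq : x1 * x1 = 1 := eq21 (p' := []) (by decide +kernel)

theorem d1_b : hw u1_b * x1 = x1 * hw u1_b ∧ hw v1_b * x1 = x1 * hw v1_b ∧ ⁅hw u1_b, hw v1_b⁆ = b :=
  ⟨eq22 (by decide +kernel), eq22 (by decide +kernel), eqc (by decide +kernel)⟩

theorem d1_2 : hw u1_2 * x1 = x1 * hw u1_2 ∧ hw v1_2 * x1 = x1 * hw v1_2 ∧ ⁅hw u1_2, hw v1_2⁆ = τ * hw w2 :=
  ⟨eq22 (by decide +kernel), eq22 (by decide +kernel), eqct (by decide +kernel)⟩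

theorem d1_4 : hw u1_4 * x1 = x1 * hw u1_4 ∧ hw v1_4 * x1 = x1 * hw v1_4 ∧ ⁅hw u1_4, hw v1_4⁆ = τ * hw w4 :=
  ⟨eq22 (by decide +kernel), eq22 (by decide +kernel), eqct (by decide +kernel)⟩

theorem d1_5 : hw u1_5 * x1 = x1 * hw u1_5 ∧ hw v1_5 * x1 = x1 * hw v1_5 ∧ ⁅hw u1_5, hw v1_5⁆ = τ * hw w5 :=
  ⟨eq22 (by decide +kernel), eq22 (by decide +kernel), eqct (by decide +kernel)⟩

theorem d1_37 : hw u1_37 * x1 = x1 * hw u1_37 ∧ hw v1_37 * x1 = x1 * hw v1_37 ∧ ⁅hw u1_37, hw v1_37⁆ = hw w37 :=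
  ⟨eq22 (by decide +kernel), eq22 (by decide +kernel), eqc (by decide +kernel)⟩

/-- `w1 = s2 s7 s8` commutes with `s2`, `s4`, `s5`, `s3 s7` -/
theorem w278_comm : ∀ w ∈ [w2, w4, w5, w37], hw w278 * hw w = hw w * hw w278 := by
  have h : [w2, w4, w5, w37].all (fun w => eqw (w278 ++ w) (w ++ w278)) = true := by decide +kernel
  intro w hw'
  exact eq22 (List.all_eq_true.1 h w hw')

theorem w278_x1 : x1 * hw w278 = hw w278 * (x1 * b) := eq23 (by decide +kernel)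

/-- `s8 = s3 s7 · s5 · τ · x1 · b` -/
theorem w8_eq : hw w8 = hw w37 * hw w5 * τ * x1 * b := by
  have h : hw w8 = hw (w37 ++ w5 ++ wt ++ wx1 ++ wb) := hw_eq (by decide +kernel)
  rw [hw_append, hw_append, hw_append, hw_append, τ_eq] at h
  exact h

theorem w48_eq : hw w48 = hw w4 * hw w8 := (eq21 (by decide +kernel)).symm

theorem w437_eq : hw w437 = hw w4 * hw w37 := (eq21 (by decide +kernel)).symm

/-! ### facts for `x2` -/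

theorem x2_conj : d * hw wh2 = hw wh2 * x2 := by
  rw [← d_eq]; exact eq22 (by decide +kernel)

theorem x2_sq : x2 * x2 = 1 := eq21 (p' := []) (by decide +kernel)

theorem d2_b : hw u2_b * x2 = x2 * hw u2_b ∧ hw v2_b * x2 = x2 * hw v2_b ∧ ⁅hw u2_b, hw v2_b⁆ = b :=
  ⟨eq22 (by decide +kernel), eq22 (by decide +kernel), eqc (by decide +kernel)⟩

theorem d2_2 : hw u2_2 * x2 = x2 * hw u2_2 ∧ hw v2_2 * x2 = x2 * hw v2_2 ∧ ⁅hw u2_2, hw v2_2⁆ = τ * hw w2 :=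
  ⟨eq22 (by decide +kernel), eq22 (by decide +kernel), eqct (by decide +kernel)⟩

theorem d2_5 : hw u2_5 * x2 = x2 * hw u2_5 ∧ hw v2_5 * x2 = x2 * hw v2_5 ∧ ⁅hw u2_5, hw v2_5⁆ = τ * hw w5 :=
  ⟨eq22 (by decide +kernel), eq22 (by decide +kernel), eqct (by decide +kernel)⟩

/-- `f = s3` commutes with `s2`, `s5` -/
theorem w3_comm : ∀ w ∈ [w2, w5], hw w3 * hw w = hw w * hw w3 := by
  have h : [w2, w5].all (fun w => eqw (w3 ++ w) (w ++ w3)) = true := by decide +kernel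
  intro w hw'
  exact eq22 (List.all_eq_true.1 h w hw')

theorem w3_sq : hw w3 * hw w3 = b := eq21 (by decide +kernel)

theorem w3_x2 : x2 * hw w3 = hw w3 * (x2 * b) := eq23 (by decide +kernel)

/-- `x2` commutes with `s2`, `s5` -/
theorem x2_comm : ∀ w ∈ [w2, w5], x2 * hw w = hw w * x2 := by
  have h : [w2, w5].all (fun w => eqw (wx2 ++ w) (w ++ wx2)) = true := by decide +kernel
  intro w hw'
  exact eq22 (List.all_eq_true.1 h w hw')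

theorem w48_x2 : hw w48 * x2 = x2 * (hw w48 * (τ * b)) := by
  rw [← hw_τ]; exact eq24 (by decide +kernel)

/-! ### the kill elements -/

theorem w2_sq : hw w2 * hw w2 = 1 := eq21 (p' := []) (by decide +kernel)
theorem w5_sq : hw w5 * hw w5 = 1 := eq21 (p' := []) (by decide +kernel)
theorem w25 : hw w2 * hw w5 = hw w5 * hw w2 := eq22 (by decide +kernel)

theorem mem_K_w2 : hw w2 ∈ K := mem_K_of_par (by decide +kernel) (by decide +kernel)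
theorem mem_K_w4 : hw w4 ∈ K := mem_K_of_par (by decide +kernel) (by decide +kernel)
theorem mem_K_w5 : hw w5 ∈ K := mem_K_of_par (by decide +kernel) (by decide +kernel)
theorem mem_K_w37 : hw w37 ∈ K := mem_K_of_par (by decide +kernel) (by decide +kernel)
theorem mem_K_w437 : hw w437 ∈ K := mem_K_of_par (by decide +kernel) (by decide +kernel)
theorem mem_K_b : b ∈ K := mem_K_of_par (by decide +kernel) (by decide +kernel)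
theorem not_mem_K_w8 : hw w8 ∉ K := not_mem_K_of_par (by decide +kernel) (by decide +kernel)
theorem not_mem_K_d : d ∉ K := by
  rw [← d_eq]; exact not_mem_K_of_par (by decide +kernel) (by decide +kernel)

/-! ### the centraliser of `b`, `s2`, `s5` -/

theorem c3W_nodup : (c3W.map hw).Nodup := nodup_hw (p := 17) (by decide +kernel) (by norm_num) (by decide +kernel)

theorem c3W_comm : c3W.all (fun w => eqw (w ++ wb) (wb ++ w) && (eqw (w ++ w2) (w2 ++ w) && eqw (w ++ w5) (w5 ++ w)))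
    = true := by decide +kernel

theorem mem_c3W {g : H0} (h1 : g * b = b * g) (h2 : g * hw w2 = hw w2 * g) (h5 : g * hw w5 = hw w5 * g) :
    ∃ w ∈ c3W, hw w = g := by
  have hle : Nat.card (Subgroup.centralizer (wset [wb, w2, w5])) ≤ 2 * 128 := card_centralizer_le c125_le
  have hg : g ∈ Subgroup.centralizer (wset [wb, w2, w5]) := by
    rw [Subgroup.mem_centralizer_iff]
    rintro _ ⟨w, hw', rfl⟩
    simp only [List.mem_cons, List.not_mem_nil, or_false] at hw'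
    rcases hw' with rfl | rfl | rfl
    · exact h1.symm
    · exact h2.symm
    · exact h5.symm
  have hL : ∀ g ∈ c3W.map hw, g ∈ Subgroup.centralizer (wset [wb, w2, w5]) := by
    intro g hg
    obtain ⟨v, hv, rfl⟩ := List.mem_map.1 hg
    have h := List.all_eq_true.1 c3W_comm v hv
    simp only [Bool.and_eq_true] at h
    rw [Subgroup.mem_centralizer_iff]
    rintro _ ⟨w, hw', rfl⟩
    simp only [List.mem_cons, List.not_mem_nil, or_false] at hw'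
    rcases hw' with rfl | rfl | rfl
    · exact (eq22 h.1).symm
    · exact (eq22 h.2.1).symm
    · exact (eq22 h.2.2).symm
  have hlen : c3W.length = 2 * 128 := by decide +kernel
  have h := mem_of_card_le c3W_nodup hL (by rw [List.length_map, hlen]; exact hle) hg
  exact List.mem_map.1 h

/-- `h` maps `w` to `w s` modulo `b`. -/
def mv (h w s : List ℕ) : Bool := eqw (w ++ h) (h ++ (w ++ s)) || eqw (w ++ h) (h ++ (w ++ (s ++ wb)))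

theorem of_mv {h w s : List ℕ} (H : mv h w s = true) :
    ∃ β : H0, (β = 1 ∨ β = b) ∧ hw w * hw h = hw h * (hw w * hw s * β) := by
  rw [mv, Bool.or_eq_true] at H
  rcases H with H | H
  · refine ⟨1, Or.inl rfl, ?_⟩
    rw [mul_one]; exact eq23 H
  · refine ⟨b, Or.inr rfl, ?_⟩
    rw [mul_assoc (hw w)]; exact eq24 H

/-- `τ s2 s5` -/
def w025 : List ℕ := wt ++ (w2 ++ w5)

theorem w025_eq : hw w025 = τ * (hw w2 * hw w5) := by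
  rw [w025, hw_append, hw_append, τ_eq]

/-- the cases for `φ h` -/
theorem kill_a : c3W.all (fun h => mv h w48 [] || (mv h w48 wt || (mv h w4 w2 || mv h w37 w025))) = true := by
  decide +kernel

/-- the cases for `φ h * r` -/
theorem kill_b : c3W.all (fun h => mv h w8 [] || (mv h w437 w5 || (mv h w4 w2 || mv h w37 w025))) = true := by
  decide +kernel

end Cfsg.Agent.StandardComponent.HS.NoD4Facts
end

-- part: StandardComponent/HS/NoD4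
section
set_option autoImplicit false

/-!
S1752, `|R| = 4`: the central involution `τ` of the component is not conjugate to `d`.

Let `r² = φ τ`, and let `r'` be the corresponding element for `φ d`.  Then `ρ = r' r` maps `τ ↦ d ↦ τ d` and
commutes with the commutators of elements of `C(d)`.  Two conjugates of such elements (`q` from `x1 ~ d`, `y` from
`x2 ~ d`) act on the Sylow 2-subgroup of `C(τ)` modulo `b` in incompatible ways.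
-/

namespace Cfsg.Agent.StandardComponent.HS.NoD4

open Cfsg.Agent.HN.Pres Cfsg.Agent.HN.HS100 Cfsg.Agent.HN.P1408 Cfsg.Agent.HN.H0Basic
open Cfsg.Agent.HN.Syl (d)
open Cfsg.Agent.HN.ExtR Cfsg.Agent.StandardComponent.HS.NoD4Facts
open Cfsg.Agent.HN
open scoped commutatorElement

variable {G : Type*} [Group G]

/-- `w ^ q = w'` for elements of `H0`. -/
def A (φ : H0 →* G) (q : G) (w w' : H0) : Prop := φ w * q = q * φ w'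

section

variable {φ : H0 →* G} {q c : G} {w w' w'' v v' : H0}

theorem A.mul (h : A φ q w w') (h' : A φ q v v') : A φ q (w * v) (w' * v') := by
  unfold A at *
  rw [map_mul, map_mul, mul_assoc, h', ← mul_assoc, h, mul_assoc]

theorem A.trans (h : A φ q w w') (h' : A φ c w' w'') : A φ (q * c) w w'' := by
  unfold A at *
  rw [← mul_assoc, h, mul_assoc, h', ← mul_assoc]

theorem A.inv (h : A φ q w w') : A φ q⁻¹ w' w := by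
  unfold A at *
  rw [eq_inv_mul_iff_mul_eq, ← mul_assoc, ← h, mul_inv_cancel_right]

theorem A.unique (hi : Function.Injective φ) (h : A φ q w w') (h' : A φ q w w'') : w' = w'' :=
  hi (mul_left_cancel (h.symm.trans h'))

theorem A.of {h : H0} (H : w * h = h * w') : A φ (φ h) w w' := by
  unfold A
  rw [← map_mul, H, map_mul]

theorem A.one : A φ q 1 1 := by
  unfold A
  rw [map_one, one_mul, mul_one]

theorem A.or {β : H0} (hb : A φ q b b) (hβ : β = 1 ∨ β = b) : A φ q β β := by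
  rcases hβ with rfl | rfl
  · exact A.one
  · exact hb

end

/-- **the contradiction** -/
theorem kill {φ : H0 →* G} (hi : Function.Injective φ) {q c v : G} {w s β β' : H0} (hv : v = q * c)
    (h1 : A φ q w (w * β)) (h2 : A φ c w (w * s * β')) (h3 : A φ v s (s * b)) (h4 : A φ q b b) (h5 : A φ c b b)
    (h6 : v * v = φ b) (hβ : β = 1 ∨ β = b) (hβ' : β' = 1 ∨ β' = b) (hw : w * b = b * w) (hs : s * b = b * s)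
    (hs2 : s * s = 1) : False := by
  have hb2 : b * b = 1 := b_sq
  have hvb : A φ v b b := hv ▸ h4.trans h5
  have e1 : A φ v w (w * s * β' * β) := hv ▸ h1.trans (h2.mul (h5.or hβ))
  have e2 : A φ v (w * s * β' * β) (w * s * β' * β * (s * b) * β' * β) :=
    ((e1.mul h3).mul (hvb.or hβ')).mul (hvb.or hβ)
  have e3 := e1.trans e2
  rw [h6] at e3
  have e4 : A φ (φ b) w w := A.of hw
  have e5 := e3.unique hi e4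
  have e6 : w * s * β' * β * (s * b) * β' * β = w * b := by
    rcases hβ with rfl | rfl <;> rcases hβ' with rfl | rfl <;> try simp only [mul_one]
    · rw [mul_assoc w s, ← mul_assoc s s b, hs2, one_mul]
    · rw [mul_assoc (w * s) b, ← mul_assoc b s b, ← hs, mul_assoc s b b, hb2, mul_one, mul_assoc w s s, hs2, mul_one]
    · rw [mul_assoc (w * s) b, ← mul_assoc b s b, ← hs, mul_assoc s b b, hb2, mul_one, mul_assoc w s s, hs2, mul_one]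
    · rw [mul_assoc (w * s) b b, hb2, mul_one, mul_assoc w s, ← mul_assoc s s b, hs2, one_mul, mul_assoc (w * b) b b,
        hb2, mul_one]
  rw [e6] at e5
  exact b_ne_one (mul_eq_left.1 e5)

section

variable {φ : H0 →* G} {r : G} (E : Ext φ r)
include E

theorem r_conj' (h : H0) : ∃ h', r * φ h * r⁻¹ = φ h' ∧ sgn h' = sgn h := by
  rcases E.r_conj h with h1 | h1
  · exact ⟨h, h1, rfl⟩
  · refine ⟨τ * h, h1, ?_⟩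
    rw [map_mul, (mem_K_iff).1 τ_mem_K, one_mul]

theorem r_out {h : H0} (hh : h ∉ K) : r * φ h = φ τ * φ h * r := by
  rw [← map_mul]
  have e : h = (h * gz) * gz := by rw [mul_assoc, LocFromFusion.gz_sq, mul_one]
  have h1 := (E.rK _ (not_mem_K_iff hh)).eq
  have h2 : r * φ gz = φ (τ * gz) * r := by rw [← E.rz, inv_mul_cancel_right]
  conv_lhs => rw [e, map_mul, ← mul_assoc, h1, mul_assoc, h2, ← mul_assoc, ← map_mul, ← mul_assoc, τ_comm (h * gz),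
    mul_assoc, mul_assoc, LocFromFusion.gz_sq, mul_one]

/-- the commutator of two elements commuting with `φ τ` is in `φ K` -/
theorem comm_mem {g g' : G} (hg : Commute g (φ τ)) (hg' : Commute g' (φ τ)) : ∃ k ∈ K, ⁅g, g'⁆ = φ k := by
  obtain ⟨h, h1⟩ := E.cent g hg
  obtain ⟨h', h1'⟩ := E.cent g' hg'
  rcases h1 with rfl | rfl <;> rcases h1' with rfl | rfl
  · refine ⟨⁅h, h'⁆, ?_, ?_⟩
    · rw [mem_K_iff, map_commutatorElement, commutatorElement_eq_one_iff_mul_comm, mul_comm]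
    · rw [map_commutatorElement]
  · obtain ⟨k, hk, hk'⟩ := r_conj' E h⁻¹
    refine ⟨h * h' * k * h'⁻¹, ?_, ?_⟩
    · rw [mem_K_iff, map_mul, map_mul, map_mul, hk', map_inv, map_inv, mul_assoc (sgn h) , mul_comm (sgn h'),
        ← mul_assoc, mul_inv_cancel, one_mul, mul_inv_cancel]
    · rw [commutatorElement_def, map_mul, map_mul, map_mul, ← hk, map_inv, map_inv]
      group
  · obtain ⟨k, hk, hk'⟩ := r_conj' E h'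
    refine ⟨h * k * h⁻¹ * h'⁻¹, ?_, ?_⟩
    · rw [mem_K_iff, map_mul, map_mul, map_mul, hk', map_inv, map_inv, mul_comm (sgn h), mul_assoc (sgn h'),
        mul_inv_cancel, mul_one, mul_inv_cancel]
    · rw [commutatorElement_def, map_mul, map_mul, map_mul, ← hk, map_inv, map_inv]
      group
  · obtain ⟨k, hk, hk'⟩ := r_conj' E (h' * h⁻¹)
    refine ⟨h * k * h'⁻¹, ?_, ?_⟩
    · rw [mem_K_iff, map_mul, map_mul, hk', map_mul, map_inv, map_inv, mul_comm (sgn h'), ← mul_assoc,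
        mul_inv_cancel, one_mul, mul_inv_cancel]
    · rw [commutatorElement_def, map_mul, map_mul, ← hk, map_mul, map_inv, map_inv]
      group

/-- the square of an element commuting with `φ τ` is not `φ d` -/
theorem sq_ne {g : G} (hg : Commute g (φ τ)) : g * g ≠ φ d := by
  intro H
  apply not_mem_K_d
  obtain ⟨h, rfl | rfl⟩ := E.cent g hg
  · rw [← map_mul] at H
    rw [← E.inj H, mem_K_iff, map_mul]
    rcases Int.units_eq_one_or (sgn h) with h1 | h1 <;> rw [h1] <;> rfl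
  · obtain ⟨k, hk, hk'⟩ := r_conj' E h
    have e : φ h * r * (φ h * r) = φ (h * k * τ) := by
      rw [map_mul, map_mul, ← hk, ← E.r2]
      group
    rw [e] at H
    rw [← E.inj H, mem_K_iff, map_mul, map_mul, hk', (mem_K_iff).1 τ_mem_K, mul_one]
    rcases Int.units_eq_one_or (sgn h) with h1 | h1 <;> rw [h1] <;> rfl

theorem exists_rho0 (hc : IsConj (φ τ) (φ d)) : ∃ ρ : G, A φ ρ τ d ∧ A φ ρ d (τ * d) ∧
    ∀ u v : H0, u * d = d * u → v * d = d * v → A φ ρ ⁅u, v⁆ ⁅u, v⁆ := by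
  obtain ⟨g, hg⟩ := isConj_iff.1 hc
  have hcom : ∀ w : H0, w * d = d * w → Commute (g⁻¹ * φ w * g) (φ τ) := by
    intro w hw'
    have h1 : φ w * (g * φ τ * g⁻¹) = (g * φ τ * g⁻¹) * φ w := by rw [hg, ← map_mul, hw', map_mul]
    show g⁻¹ * φ w * g * φ τ = φ τ * (g⁻¹ * φ w * g)
    calc g⁻¹ * φ w * g * φ τ = g⁻¹ * (φ w * (g * φ τ * g⁻¹)) * g := by group
      _ = φ τ * (g⁻¹ * φ w * g) := by rw [h1]; group
  obtain ⟨r', hr'⟩ : ∃ r' : G, r' = g * r * g⁻¹ := ⟨_, rfl⟩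
  have h1 : r' * r' = φ d := by
    rw [hr', ← hg, ← E.r2]; group
  have hrd : φ d * r' = r' * φ d := by rw [← h1, mul_assoc]
  have h3 : ∀ u v : H0, u * d = d * u → v * d = d * v → Commute r' (φ ⁅u, v⁆) := by
    intro u v hu hv
    obtain ⟨k, hk, hk'⟩ := comm_mem E (hcom u hu) (hcom v hv)
    have e : φ ⁅u, v⁆ = g * φ k * g⁻¹ := by
      rw [← hk', map_commutatorElement, commutatorElement_def, commutatorElement_def]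
      group
    rw [e, hr']
    exact (E.rK k hk).map (MulAut.conj g).toMonoidHom
  have h4 : φ τ * r' = φ d * r' * φ τ := by
    have hτ := hcom τ (τ_comm d).symm
    obtain ⟨h, hh⟩ := E.cent _ hτ
    by_cases hK : h ∈ K
    · exfalso
      have h5 : Commute (g⁻¹ * φ τ * g) r := by
        rcases hh with hh | hh
        · rw [hh]; exact (E.rK h hK).symm
        · rw [hh]; exact (E.rK h hK).symm.mul_left (Commute.refl r)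
      have h6 : Commute (φ τ) r' := by
        have h7 := h5.map (MulAut.conj g).toMonoidHom
        have e : (MulAut.conj g).toMonoidHom (g⁻¹ * φ τ * g) = φ τ := by
          show g * (g⁻¹ * φ τ * g) * g⁻¹ = φ τ
          group
        rw [e] at h7
        rw [hr']
        exact h7
      exact sq_ne E h6.symm h1
    · have h5 : (g⁻¹ * φ τ * g) * r = φ τ * r * (g⁻¹ * φ τ * g) := by
        have h6 := r_out E hK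
        have h7 : φ h * r = φ τ * r * φ h := by
          rw [mul_assoc (φ τ) r, h6, ← mul_assoc, ← mul_assoc, ← map_mul, τ_mul_τ, map_one, one_mul]
        rcases hh with hh | hh
        · rw [hh, h7]
        · rw [hh, ← mul_assoc, ← h7]
      rw [hr']
      calc φ τ * (g * r * g⁻¹) = g * ((g⁻¹ * φ τ * g) * r) * g⁻¹ := by group
        _ = g * (φ τ * r * (g⁻¹ * φ τ * g)) * g⁻¹ := by rw [h5]
        _ = (g * φ τ * g⁻¹) * (g * r * g⁻¹) * φ τ := by group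
        _ = φ d * (g * r * g⁻¹) * φ τ := by rw [hg]
  have hd := r_out E not_mem_K_d
  refine ⟨r' * r, ?_, ?_, ?_⟩
  · show φ τ * (r' * r) = r' * r * φ d
    rw [← mul_assoc, h4, hrd, mul_assoc r' r, hd, mul_assoc, mul_assoc, mul_assoc (φ τ), ← mul_assoc (φ d) (φ τ) r,
      ← map_mul, τ_comm d, map_mul, mul_assoc]
  · show φ d * (r' * r) = r' * r * φ (τ * d)
    have h5 : r * φ (τ * d) = φ d * r := by
      rw [map_mul, ← mul_assoc, (E.rK τ τ_mem_K).eq, mul_assoc, hd, ← mul_assoc, ← mul_assoc, ← map_mul, τ_mul_τ,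
        map_one, one_mul]
    rw [← mul_assoc, hrd, mul_assoc, mul_assoc, h5]
  · intro u v hu hv
    have hk : ⁅u, v⁆ ∈ K := by
      rw [mem_K_iff, map_commutatorElement, commutatorElement_eq_one_iff_mul_comm, mul_comm]
    have h5 : Commute (r' * r) (φ ⁅u, v⁆) := (h3 u v hu hv).mul_left (E.rK _ hk)
    exact h5.symm

theorem exists_rho (hc : IsConj (φ τ) (φ d)) {x y : H0} (hx : d * y = y * x) : ∃ ρ : G, A φ ρ τ x ∧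
    A φ ρ x (τ * x) ∧ ∀ u v : H0, u * x = x * u → v * x = x * v → A φ ρ ⁅u, v⁆ ⁅u, v⁆ := by
  obtain ⟨ρ, h1, h2, h3⟩ := exists_rho0 E hc
  have k1 : ∀ w : H0, A φ (φ y)⁻¹ w (y * w * y⁻¹) := by
    intro w
    show φ w * (φ y)⁻¹ = (φ y)⁻¹ * φ (y * w * y⁻¹)
    rw [map_mul, map_mul, map_inv]; group
  have k2 : ∀ w : H0, A φ (φ y) (y * w * y⁻¹) w := by
    intro w
    exact A.of (by group)
  have ex : y * x * y⁻¹ = d := by rw [← hx, mul_inv_cancel_right]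
  have eτ : y * τ * y⁻¹ = τ := by rw [τ_comm y, mul_inv_cancel_right]
  refine ⟨(φ y)⁻¹ * ρ * φ y, ?_, ?_, ?_⟩
  · have := k1 τ
    rw [eτ] at this
    have h5 := k2 x
    rw [ex] at h5
    exact (this.trans h1).trans h5
  · have h4 := k1 x
    rw [ex] at h4
    have h5 := k2 (τ * x)
    have e : y * (τ * x) * y⁻¹ = τ * d := by
      rw [← ex, ← mul_assoc, τ_comm y]; group
    rw [e] at h5
    exact (h4.trans h2).trans h5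
  · intro u v hu hv
    have h4 := k1 ⁅u, v⁆
    have h5 := k2 ⁅u, v⁆
    have hcj : ∀ w : H0, w * x = x * w → (y * w * y⁻¹) * d = d * (y * w * y⁻¹) := by
      intro w hw'
      rw [← ex]
      calc y * w * y⁻¹ * (y * x * y⁻¹) = y * (w * x) * y⁻¹ := by group
        _ = y * x * y⁻¹ * (y * w * y⁻¹) := by rw [hw']; group
    have h6 := h3 _ _ (hcj u hu) (hcj v hv)
    rw [← conjugate_commutatorElement] at h6
    exact (h4.trans h6).trans h5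

/-- the elements `q`, `y` -/
theorem exists_q (hc : IsConj (φ τ) (φ d)) {x y W : H0} (hx : d * y = y * x) (hx2 : x * x = 1)
    (hxb : x * b = b * x) (hW : x * W = W * (x * b)) (hWb : b * W = W * b)
    (hb : ∃ u v : H0, u * x = x * u ∧ v * x = x * v ∧ ⁅u, v⁆ = b) :
    ∃ q : G, A φ q τ (τ * b) ∧ A φ q x x ∧ A φ q b b ∧ (W * W = b → q * q = φ b) ∧
      ∀ u v : H0, u * x = x * u → v * x = x * v → ⁅u, v⁆ * W = W * ⁅u, v⁆ → A φ q ⁅u, v⁆ ⁅u, v⁆ := by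
  obtain ⟨ρ, h1, h2, h3⟩ := exists_rho E hc hx
  have hρb : A φ ρ b b := by
    obtain ⟨u, v, hu, hv, e⟩ := hb
    rw [← e]; exact h3 u v hu hv
  have k1 : A φ (ρ⁻¹ * φ W * ρ) (τ * x) (τ * x * b) := (h2.inv.trans (A.of hW)).trans (h2.mul hρb)
  have k2 : A φ (ρ⁻¹ * φ W * ρ) x x := (h1.inv.trans (A.of (τ_comm W).symm)).trans h1
  have k3 : A φ (ρ⁻¹ * φ W * ρ) b b := (hρb.inv.trans (A.of hWb)).trans hρb
  refine ⟨ρ⁻¹ * φ W * ρ, ?_, k2, k3, ?_, ?_⟩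
  · have := k1.mul k2
    rwa [mul_assoc τ x x, hx2, mul_one, mul_assoc τ x b, hxb, mul_assoc τ, mul_assoc b, hx2, mul_one] at this
  · intro hWW
    have e : ρ⁻¹ * φ W * ρ * (ρ⁻¹ * φ W * ρ) = ρ⁻¹ * (φ (W * W) * ρ) := by rw [map_mul]; group
    rw [e, hWW, hρb, inv_mul_cancel_left]
  · intro u v hu hv huv
    have h4 := h3 u v hu hv
    exact (h4.inv.trans (A.of huv)).trans h4

theorem A_r_in {w : H0} (h : w ∈ K) : A φ r w w := (E.rK w h).symm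

theorem A_r_out {w : H0} (h : w ∉ K) : A φ r w (τ * w) := by
  show φ w * r = r * φ (τ * w)
  have h1 := r_out E h
  rw [map_mul, ← mul_assoc, (E.rK τ τ_mem_K).eq, mul_assoc, h1, ← mul_assoc, ← mul_assoc, ← map_mul, τ_mul_τ, map_one,
    one_mul]

/-- an element of `φ(H0)⟨r⟩` commuting with an even element -/
theorem comm_of_A {c : G} {h w : H0} (hc : c = φ h ∨ c = φ h * r) (hw' : w ∈ K) (H : A φ c w w) : h * w = w * h := by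
  rcases hc with rfl | rfl
  · apply E.inj
    rw [map_mul, map_mul]
    exact H.symm
  · apply E.inj
    rw [map_mul, map_mul]
    have h1 : φ w * (φ h * r) = φ h * r * φ w := H
    rw [mul_assoc (φ h), (E.rK w hw').eq, ← mul_assoc, ← mul_assoc] at h1
    exact (mul_right_cancel h1).symm

end

section

variable {φ : H0 →* G} {q : G} {w : H0}

theorem A.out (h1 : A φ q τ (τ * b)) (h2 : A φ q (τ * w) (τ * w)) (hw' : w * b = b * w) : A φ q w (w * b) := by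
  have h := h1.mul h2
  have e1 : τ * (τ * w) = w := by rw [← mul_assoc, τ_mul_τ, one_mul]
  have e2 : τ * b * (τ * w) = w * b := by
    rw [mul_assoc τ b, ← mul_assoc b τ w, τ_comm b, mul_assoc τ b w, ← mul_assoc τ τ, τ_mul_τ, one_mul, hw']
  rwa [e1, e2] at h

theorem A.flip (h : A φ q w (w * b)) (hb : A φ q b b) : A φ q (w * b) w := by
  have h1 := h.mul hb
  rwa [mul_assoc w b b, b_sq, mul_one] at h1

end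

theorem b_or_mem_K {β : H0} (h : β = 1 ∨ β = b) : β ∈ K := by
  rcases h with rfl | rfl
  · exact K.one_mem
  · exact mem_K_b

theorem w025_sq : hw w025 * hw w025 = 1 := eq21 (p' := []) (by decide +kernel)

theorem w025_b : hw w025 * b = b * hw w025 := eq22 (by decide +kernel)

theorem w025_mem_K : hw w025 ∈ K := mem_K_of_par (by decide +kernel) (by decide +kernel)

theorem τ_b : τ * b = b * τ := (τ_comm b).symm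

theorem of_mv_nil {h w : List ℕ} (H : mv h w [] = true) :
    ∃ β : H0, (β = 1 ∨ β = b) ∧ hw w * hw h = hw h * (hw w * β) := by
  obtain ⟨β, hβ, h1⟩ := of_mv H
  refine ⟨β, hβ, ?_⟩
  rw [hw_nil, mul_one] at h1
  exact h1

/-- **The exclusion of `d`.** -/
theorem false_of_d {φ : H0 →* G} {r : G} (E : Ext φ r) : ¬ IsConj (φ τ) (φ d) := by
  intro hc
  have cb := comm_b
  obtain ⟨q, q1, q2, q3, -, q5⟩ := exists_q E hc x1_conj x1_sq (cb wx1 (by simp)) w278_x1 (cb w278 (by simp)).symm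
    ⟨hw u1_b, hw v1_b, d1_b⟩
  obtain ⟨y, y1, y2, y3, y4, y5⟩ := exists_q E hc x2_conj x2_sq (cb wx2 (by simp)) w3_x2 (cb w3 (by simp)).symm
    ⟨hw u2_b, hw v2_b, d2_b⟩
  have hτw : ∀ {W w : H0}, W * w = w * W → τ * w * W = W * (τ * w) := by
    intro W w h
    rw [mul_assoc, ← h, ← mul_assoc, ← τ_comm W, mul_assoc]
  -- the action of `q`
  have qw2 : A φ q (hw w2) (hw w2 * b) := by
    have h := q5 _ _ d1_2.1 d1_2.2.1 (by rw [d1_2.2.2]; exact hτw (w278_comm w2 (by simp)))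
    rw [d1_2.2.2] at h
    exact q1.out h (cb w2 (by simp))
  have qw4 : A φ q (hw w4) (hw w4 * b) := by
    have h := q5 _ _ d1_4.1 d1_4.2.1 (by rw [d1_4.2.2]; exact hτw (w278_comm w4 (by simp)))
    rw [d1_4.2.2] at h
    exact q1.out h (cb w4 (by simp))
  have qw5 : A φ q (hw w5) (hw w5 * b) := by
    have h := q5 _ _ d1_5.1 d1_5.2.1 (by rw [d1_5.2.2]; exact hτw (w278_comm w5 (by simp)))
    rw [d1_5.2.2] at h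
    exact q1.out h (cb w5 (by simp))
  have qw37 : A φ q (hw w37) (hw w37) := by
    have h := q5 _ _ d1_37.1 d1_37.2.1 (by rw [d1_37.2.2]; exact (w278_comm w37 (by simp)).symm)
    rwa [d1_37.2.2] at h
  have qw8 : A φ q (hw w8) (hw w8) := by
    have h := (((qw37.mul qw5).mul q1).mul q2).mul q3
    have e : hw w37 * (hw w5 * b) * (τ * b) * x1 * b = hw w8 := by
      rw [w8_eq, ← mul_assoc (hw w37) (hw w5) b, mul_assoc (hw w37 * hw w5) b (τ * b), τ_b, ← mul_assoc b b τ, b_sq,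
        one_mul]
    rwa [e, ← w8_eq] at h
  have qw48 : A φ q (hw w48) (hw w48 * b) := by
    have h := qw4.mul qw8
    rwa [mul_assoc, ← cb w8 (by simp), ← mul_assoc, ← w48_eq] at h
  have qw437 : A φ q (hw w437) (hw w437 * b) := by
    have h := qw4.mul qw37
    rwa [mul_assoc, ← cb w37 (by simp), ← mul_assoc, ← w437_eq] at h
  -- the action of `y`
  have yw2 : A φ y (hw w2) (hw w2 * b) := by
    have h := y5 _ _ d2_2.1 d2_2.2.1 (by rw [d2_2.2.2]; exact hτw (w3_comm w2 (by simp)))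
    rw [d2_2.2.2] at h
    exact y1.out h (cb w2 (by simp))
  have yw5 : A φ y (hw w5) (hw w5 * b) := by
    have h := y5 _ _ d2_5.1 d2_5.2.1 (by rw [d2_5.2.2]; exact hτw (w3_comm w5 (by simp)))
    rw [d2_5.2.2] at h
    exact y1.out h (cb w5 (by simp))
  have hyy : y * y = φ b := y4 w3_sq
  -- the main step
  have main : ∀ v : G, A φ v τ (τ * b) → A φ v (hw w2) (hw w2 * b) → A φ v (hw w5) (hw w5 * b) → A φ v b b →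
      v * v = φ b → ∃ h : H0, v = q * φ h ∧ h * b = b * h ∧ ∃ β : H0, (β = 1 ∨ β = b) ∧ hw w48 * h = h * (hw w48 * β) := by
    intro v v1 v2 v5 vb hvv
    obtain ⟨c, hc'⟩ : ∃ c : G, c = q⁻¹ * v := ⟨_, rfl⟩
    have hv : v = q * c := by rw [hc', mul_inv_cancel_left]
    have key : ∀ w : H0, A φ q w (w * b) → A φ v w (w * b) → A φ c w w := by
      intro w h1 h2
      rw [hc']
      exact (h1.flip q3).inv.trans (h2.flip vb)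
    have cτ := key τ q1 v1
    have c2 := key _ qw2 v2
    have c5 := key _ qw5 v5
    have cbb : A φ c b b := by
      rw [hc']; exact q3.inv.trans vb
    obtain ⟨h, hh⟩ := E.cent c cτ.symm
    have hhb := comm_of_A E hh mem_K_b cbb
    obtain ⟨l, hl, hlh⟩ := mem_c3W hhb (comm_of_A E hh mem_K_w2 c2) (comm_of_A E hh mem_K_w5 c5)
    have v25 : A φ v (hw w025) (hw w025 * b) := by
      have h1 := v1.mul (v2.mul v5)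
      have e : τ * b * (hw w2 * b * (hw w5 * b)) = τ * (hw w2 * hw w5) * b := by
        rw [← mul_assoc (hw w2 * b) (hw w5) b, ← mul_assoc (τ * b), mul_assoc (hw w2) b (hw w5), ← cb w5 (by simp),
          ← mul_assoc (hw w2) (hw w5) b, mul_assoc τ b, ← mul_assoc b, ← mul_assoc b (hw w2) (hw w5),
          ← cb w2 (by simp), mul_assoc (hw w2) b (hw w5), ← cb w5 (by simp), ← mul_assoc (hw w2) (hw w5) b,
          mul_assoc _ b b, b_sq, mul_one]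
      rw [e, ← w025_eq] at h1
      exact h1
    have kl : ∀ {w s β β' : H0}, A φ q w (w * β) → A φ c w (w * s * β') → A φ v s (s * b) → (β = 1 ∨ β = b) →
        (β' = 1 ∨ β' = b) → w * b = b * w → s * b = b * s → s * s = 1 → False :=
      fun h1 h2 h3 hβ hβ' h4 h5 h6 => kill E.inj hv h1 h2 h3 q3 cbb hvv hβ hβ' h4 h5 h6
    have qw37' : A φ q (hw w37) (hw w37 * 1) := by rwa [mul_one]
    have qw8' : A φ q (hw w8) (hw w8 * 1) := by rwa [mul_one]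
    rcases hh with hh | hh
    · have H := List.all_eq_true.1 kill_a l hl
      rw [Bool.or_eq_true, Bool.or_eq_true, Bool.or_eq_true] at H
      have cA : ∀ {w w' : H0}, w * h = h * w' → A φ c w w' := fun e => hh ▸ A.of e
      rcases H with H | H | H | H
      · obtain ⟨β, hβ, h1⟩ := of_mv_nil H
        rw [hlh] at h1
        exact ⟨h, by rw [hv, hh], hhb, β, hβ, h1⟩
      · exfalso
        obtain ⟨β, hβ, h1⟩ := of_mv H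
        rw [hlh, τ_eq] at h1
        exact kl qw48 (cA h1) v1 (Or.inr rfl) hβ (cb w48 (by simp)) τ_b τ_mul_τ
      · exfalso
        obtain ⟨β, hβ, h1⟩ := of_mv H
        rw [hlh] at h1
        exact kl qw4 (cA h1) v2 (Or.inr rfl) hβ (cb w4 (by simp)) (cb w2 (by simp)) w2_sq
      · exfalso
        obtain ⟨β, hβ, h1⟩ := of_mv H
        rw [hlh] at h1
        exact kl qw37' (cA h1) v25 (Or.inl rfl) hβ (cb w37 (by simp)) w025_b w025_sq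
    · exfalso
      have H := List.all_eq_true.1 kill_b l hl
      rw [Bool.or_eq_true, Bool.or_eq_true, Bool.or_eq_true] at H
      have cA : ∀ {w w' w'' : H0}, w * h = h * w' → A φ r w' w'' → A φ c w w'' :=
        fun e e' => hh ▸ (A.of e).trans e'
      rcases H with H | H | H | H
      · obtain ⟨β, hβ, h1⟩ := of_mv_nil H
        rw [hlh] at h1
        have h2 : hw w8 * β ∉ K := fun h3 => not_mem_K_w8 ((K.mul_mem_cancel_right (b_or_mem_K hβ)).1 h3)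
        have h3 := cA h1 (A_r_out E h2)
        rw [← mul_assoc, ← τ_comm (hw w8)] at h3
        exact kl qw8' h3 v1 (Or.inl rfl) hβ (cb w8 (by simp)) τ_b τ_mul_τ
      · obtain ⟨β, hβ, h1⟩ := of_mv H
        rw [hlh] at h1
        have h2 := K.mul_mem (K.mul_mem mem_K_w437 mem_K_w5) (b_or_mem_K hβ)
        exact kl qw437 (cA h1 (A_r_in E h2)) v5 (Or.inr rfl) hβ (cb w437 (by simp)) (cb w5 (by simp)) w5_sq
      · obtain ⟨β, hβ, h1⟩ := of_mv H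
        rw [hlh] at h1
        have h2 := K.mul_mem (K.mul_mem mem_K_w4 mem_K_w2) (b_or_mem_K hβ)
        exact kl qw4 (cA h1 (A_r_in E h2)) v2 (Or.inr rfl) hβ (cb w4 (by simp)) (cb w2 (by simp)) w2_sq
      · obtain ⟨β, hβ, h1⟩ := of_mv H
        rw [hlh] at h1
        have h2 := K.mul_mem (K.mul_mem mem_K_w37 w025_mem_K) (b_or_mem_K hβ)
        exact kl qw37' (cA h1 (A_r_in E h2)) v25 (Or.inl rfl) hβ (cb w37 (by simp)) w025_b w025_sq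
  obtain ⟨h, hh, hhb, β, hβ, e1⟩ := main y y1 yw2 yw5 y3 hyy
  obtain ⟨h', hh', hhb', β', hβ', e2⟩ := main (φ x2 * y) ((A.of (τ_comm x2).symm).trans y1)
    ((A.of (x2_comm w2 (by simp)).symm).trans yw2) ((A.of (x2_comm w5 (by simp)).symm).trans yw5)
    ((A.of (cb wx2 (by simp)).symm).trans y3) (by
      have h1 : φ x2 * y = y * φ x2 := y2
      rw [h1, mul_assoc, ← mul_assoc (φ x2), h1, mul_assoc y, ← map_mul, x2_sq, map_one, mul_one, hyy])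
  -- the elements `x2 q` and `q h' h⁻¹` agree
  have h1 : φ x2 * q = q * φ (h' * h⁻¹) := by
    rw [map_mul, map_inv, ← mul_assoc, eq_mul_inv_iff_mul_eq, mul_assoc, ← hh, hh']
  have f1 : A φ (φ x2 * q) (hw w48) (hw w48 * b * (τ * b * b)) :=
    (A.of w48_x2).trans (qw48.mul (q1.mul q3))
  have g1 : A φ (φ h)⁻¹ (hw w48) (hw w48 * β) := by
    have k1 : A φ (φ h) (hw w48 * β) (hw w48 * β * β) := (A.of e1).mul ((A.of hhb.symm).or hβ)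
    have k2 : hw w48 * β * β = hw w48 := by
      rcases hβ with rfl | rfl
      · rw [mul_one, mul_one]
      · rw [mul_assoc, b_sq, mul_one]
    rw [k2] at k1
    exact k1.inv
  have g2 : A φ (φ h)⁻¹ b b := (A.of hhb.symm).inv
  have f2 : A φ (φ x2 * q) (hw w48) (hw w48 * β * β' * b) := by
    rw [h1, map_mul, map_inv, ← mul_assoc]
    exact (qw48.trans ((A.of e2).mul (A.of hhb'.symm))).trans ((g1.mul (g2.or hβ')).mul g2)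
  have h2 := f1.unique E.inj f2
  have h3 : b * (τ * b * b) = τ * b := by rw [mul_assoc τ b b, b_sq, mul_one, τ_b]
  rw [mul_assoc, h3, ← mul_assoc] at h2
  have h4 := mul_right_cancel h2
  rw [mul_assoc] at h4
  have h5 := mul_left_cancel h4
  rcases hβ with rfl | rfl <;> rcases hβ' with rfl | rfl
  · exact τ_ne_one (by rw [h5, mul_one])
  · exact b_ne_τ (by rw [h5, one_mul])
  · exact b_ne_τ (by rw [h5, mul_one])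
  · exact τ_ne_one (by rw [h5, b_sq])

end Cfsg.Agent.StandardComponent.HS.NoD4
end
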