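import Cfsg.Agent.StandardComponent.HS.SixMain
import Cfsg.Agent.StandardComponent.HS.NoD4
set_option linter.all false

/-!
# S1752, the case `|R| = 4` is impossible
-/

set_option autoImplicit false

namespace Cfsg.Agent.StandardComponent.HS.SixFinal

open Cfsg.Agent.HN.Pres Cfsg.Agent.HN.HS100 Cfsg.Agent.HN.FusK0

/-- **The case `|R| = 4` is impossible.** -/
theorem false_of_four {G : Type*} [Group G] [Finite G] (hG : ∀ (f : G →* ℤˣ) (u : G), f u = 1) {N : Subgroup G}
    {Γ : Type*} [Group Γ] (π : N →* Γ) (hsurj : Function.Surjective π) (hodd : Odd (Nat.card π.ker))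
    {t : G} (htN : t ∈ N) (ht2 : t * t = 1) (ht1 : t ≠ 1) (hCt : ∀ g, g * t = t * g → g ∈ N)
    {φ : K →* Γ} {r : Γ} (F : Four φ r) (hπt : π ⟨t, htN⟩ = φ τ0) : False :=
  SixMain.false_of_four hG π hsurj hodd htN ht2 ht1 hCt F hπt fun _ E => NoD4.false_of_d E

/-- a simple group with a non-trivial homomorphism to `{±1}` is commutative -/
theorem hom_units {G : Type*} [Group G] [IsSimpleGroup G] (hG : ¬ IsMulCommutative G) (f : G →* ℤˣ) (u : G) :
    f u = 1 := by
  rcases (inferInstance : f.ker.Normal).eq_bot_or_eq_top with h | h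
  · exfalso
    apply hG
    have hinj : Function.Injective f := (MonoidHom.ker_eq_bot_iff f).1 h
    exact ⟨⟨fun a b => hinj (by rw [map_mul, map_mul, mul_comm])⟩⟩
  · have h1 : u ∈ f.ker := by rw [h]; exact Subgroup.mem_top u
    exact h1

end Cfsg.Agent.StandardComponent.HS.SixFinal
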