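import Cfsg.Agent.StandardComponent.HS.SixQuot
import Cfsg.Agent.HN.TwoClasses
import Cfsg.Agent.HN.InvHN
import Cfsg.Agent.S1701
set_option linter.all false

/-!
# S1752, the case `|R| = 4`: an embedding of `HN` normalised by `r` gives a contradiction
-/

set_option autoImplicit false

namespace Cfsg.Agent.StandardComponent.HS.SixGlue

open Cfsg.Agent.HN Cfsg.Agent.HN.Pres Cfsg.Agent.HN.HS100 Cfsg.Agent.HN.H0Basic Cfsg.Agent.HN.Syl Subgroup

/-- an element commuting with `ψ τ` in `HN` is in the image of `H0`. -/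
theorem mem_range_ψ {x : Cfsg.Spor.HN} (hx : x * NormalH.ψ τ = NormalH.ψ τ * x) : ∃ h : H0, NormalH.ψ h = x := by
  have h1 : x ∈ Subgroup.centralizer ({Pres.hx ^ 2} : Set Cfsg.Spor.HN) := by
    rw [mem_centralizer_iff]
    intro u hu
    rw [Set.mem_singleton_iff.1 hu, TwoClasses.t_eq, hx]
  rw [Central.centralizer_eq, ← NormalH.range_ψ] at h1
  exact h1

/-- an element of `H0` commuting with `K` is `1` or `τ`. -/
theorem eq_of_commute_K {h : H0} (hh : ∀ k ∈ K, h * k = k * h) : h = 1 ∨ h = τ := by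
  rw [← φ_eq_one_iff]
  apply NormalH.eq_one_of_commute_Q
  rintro q ⟨k, hk, rfl⟩
  rw [← map_mul, ← map_mul, hh k hk]

/-- the `2`-part of the centralizer of the second class -/
theorem two_pow_dvd_w (hcl : ∀ u : Cfsg.Spor.HN, orderOf u = 2 →
      IsConj u (NormalH.ψ τ) ∨ IsConj u TwoClasses.w) :
    2 ^ 14 ∣ Nat.card (centralizer ({TwoClasses.w} : Set Cfsg.Spor.HN)) := by
  have := Index.finite_HN
  have : Fact (Nat.Prime 2) := ⟨Nat.prime_two⟩
  have hcard : Nat.card Cfsg.Spor.HN = 273030912000000 := Cfsg.Agent.S1701.result.2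
  obtain ⟨S⟩ := (inferInstance : Nonempty (Sylow 2 Cfsg.Spor.HN))
  have hS : Nat.card (S : Subgroup Cfsg.Spor.HN) = 2 ^ 14 := by
    rw [Sylow.card_eq_multiplicity, hcard]
    congr 1
    have h1 : (273030912000000 : ℕ) = 2 ^ 14 * 16664484375 := by norm_num
    rw [h1, Nat.factorization_mul (by norm_num) (by norm_num), Finsupp.add_apply, Nat.Prime.factorization_pow Nat.prime_two,
      Finsupp.single_eq_same, Nat.factorization_eq_zero_of_not_dvd (by norm_num)]
  have : Nontrivial S := by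
    rw [← Finite.one_lt_card_iff_nontrivial, hS]; norm_num
  have := S.isPGroup'.center_nontrivial
  obtain ⟨⟨c, hcZ⟩, hc1⟩ := exists_ne (1 : Subgroup.center S)
  have hcne : c ≠ 1 := fun h => hc1 (Subtype.ext h)
  obtain ⟨k, hk⟩ := S.isPGroup' c
  obtain ⟨u, huZ, hu⟩ : ∃ u : S, u ∈ Subgroup.center S ∧ orderOf u = 2 := by
    have h2 : 2 ∣ orderOf c := by
      obtain ⟨m, -, hm⟩ := (Nat.dvd_prime_pow Nat.prime_two).1 (orderOf_dvd_of_pow_eq_one hk)
      rcases m with _ | m
      · rw [pow_zero, orderOf_eq_one_iff] at hm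
        exact absurd hm hcne
      · rw [hm, pow_succ]
        exact dvd_mul_left 2 _
    obtain ⟨m, hm⟩ := h2
    have hpos : 0 < orderOf c := orderOf_pos c
    refine ⟨c ^ m, Subgroup.pow_mem _ hcZ m, ?_⟩
    rw [CloseFinal.orderOf_eq_two_iff']
    constructor
    · intro h
      have h3 := Nat.le_of_dvd (by omega) (orderOf_dvd_of_pow_eq_one h)
      omega
    · rw [← pow_add, ← two_mul, ← hm, pow_orderOf_eq_one]
  have hu' : orderOf (u : Cfsg.Spor.HN) = 2 := by
    rw [Subgroup.orderOf_coe, hu]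
  have hle : (S : Subgroup Cfsg.Spor.HN) ≤ Subgroup.centralizer ({(u : Cfsg.Spor.HN)} : Set Cfsg.Spor.HN) := by
    intro s hs
    rw [Subgroup.mem_centralizer_iff]
    rintro _ rfl
    have := (Subgroup.mem_center_iff.1 huZ) ⟨s, hs⟩
    exact (congrArg Subtype.val this).symm
  have e1 : 2 ^ 14 ∣ Nat.card (Subgroup.centralizer ({(u : Cfsg.Spor.HN)} : Set Cfsg.Spor.HN)) := by
    rw [← hS]
    exact Subgroup.card_dvd_of_le hle
  -- centralizers of conjugate elements
  have conj : ∀ v : Cfsg.Spor.HN, IsConj (u : Cfsg.Spor.HN) v →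
      2 ^ 14 ∣ Nat.card (Subgroup.centralizer ({v} : Set Cfsg.Spor.HN)) := by
    intro v hv
    obtain ⟨g, hg⟩ := isConj_iff.1 hv
    have e2 : (Subgroup.centralizer ({(u : Cfsg.Spor.HN)} : Set Cfsg.Spor.HN)).map (MulAut.conj g).toMonoidHom ≤
        Subgroup.centralizer ({v} : Set Cfsg.Spor.HN) := by
      rintro _ ⟨y, hy, rfl⟩
      rw [SetLike.mem_coe, Subgroup.mem_centralizer_iff] at hy
      rw [Subgroup.mem_centralizer_iff]
      intro x hx
      rw [Set.mem_singleton_iff.1 hx]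
      have hy' := hy _ rfl
      change _ * (g * y * g⁻¹) = (g * y * g⁻¹) * _
      rw [← hg]
      calc g * u * g⁻¹ * (g * y * g⁻¹) = g * (u * y) * g⁻¹ := by group
        _ = g * (y * u) * g⁻¹ := by rw [hy']
        _ = g * y * g⁻¹ * (g * u * g⁻¹) := by group
    have e3 := Subgroup.card_dvd_of_le e2
    rw [Subgroup.card_map_of_injective (MulAut.conj g).injective] at e3
    exact e1.trans e3
  rcases hcl _ hu' with h | h
  · exfalso
    have h1 := conj _ h
    rw [← TwoClasses.t_eq, Central.centralizer_eq] at h1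
    have hc : Nat.card NormalH.H = 177408000 := Index.card_H
    rw [hc] at h1
    revert h1
    norm_num
  · exact conj _ h

/-- **The end of the case `|R| = 4` from the embedding of `HN`.** -/
theorem false_of_theta (hcl : ∀ u : Cfsg.Spor.HN, orderOf u = 2 → IsConj u (NormalH.ψ τ) ∨ IsConj u TwoClasses.w)
    {G : Type*} [Group G] [Finite G] (hG : ∀ (f : G →* ℤˣ) (u : G), f u = 1) {N : Subgroup G}
    {Γ : Type*} [Group Γ] (π : N →* Γ) (hsurj : Function.Surjective π) (hodd : Odd (Nat.card π.ker))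
    {t : G} (htN : t ∈ N) (ht2 : t * t = 1) (ht1 : t ≠ 1) (hCt : ∀ g, g * t = t * g → g ∈ N)
    {f : H0 →* Γ} (hf : Function.Injective f) {r : Γ} (hπt : π ⟨t, htN⟩ = f τ)
    (cent : ∀ g : Γ, g * f τ = f τ * g → ∃ h : H0, g = f h ∨ g = f h * r) (hr2 : r * r = f τ)
    (hrK : ∀ k ∈ K, r * f k = f k * r) (hrz : r * f gz * r⁻¹ = f (τ * gz))
    {θ : Cfsg.Spor.HN →* Γ} (hθ : Function.Injective θ) (hθψ : ∀ h, θ (NormalH.ψ h) = f h)
    (hnorm : ∀ g ∈ θ.range, r * g * r⁻¹ ∈ θ.range) : False := by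
  have := Index.finite_HN
  have hsimple : IsSimpleGroup Cfsg.Spor.HN := Cfsg.Agent.S1701.result.1
  -- `r` is not in the image of `HN`
  have hrt : r * f τ = f τ * r := hrK τ τ_mem_K
  have hr : r ∉ θ.range := by
    rintro ⟨x, hx⟩
    have h1 : x * NormalH.ψ τ = NormalH.ψ τ * x := by
      apply hθ
      rw [map_mul, map_mul, hθψ, hx, hrt]
    obtain ⟨h, rfl⟩ := mem_range_ψ h1
    rw [hθψ] at hx
    have h2 : ∀ k ∈ K, h * k = k * h := by
      intro k hk
      apply hf
      rw [map_mul, map_mul, hx, hrK k hk]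
    have h3 : h * h = τ := by
      apply hf
      rw [map_mul, hx, hr2]
    rcases eq_of_commute_K h2 with h4 | h4
    · rw [h4, mul_one] at h3
      exact τ_ne_one h3.symm
    · rw [h4, τ_mul_τ] at h3
      exact τ_ne_one h3.symm
  have htr : f τ ∈ θ.range := ⟨_, hθψ τ⟩
  have hrr : r * r ∈ θ.range := by rw [hr2]; exact htr
  have hrinv : r⁻¹ = f τ * r := by
    rw [inv_eq_iff_mul_eq_one, ← mul_assoc, hrt, mul_assoc, hr2, ← map_mul, τ_mul_τ, map_one]
  -- the group `Q₁ = θ(HN)⟨r⟩`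
  have hnorm' : ∀ g ∈ θ.range, r⁻¹ * g * r ∈ θ.range := by
    intro g hg
    have h1 := hnorm g hg
    have h2 : r⁻¹ * g * r = (r * r)⁻¹ * (r * g * r⁻¹) * (r * r) := by group
    rw [h2]
    exact θ.range.mul_mem (θ.range.mul_mem (θ.range.inv_mem hrr) h1) hrr
  let Q₁ : Subgroup Γ :=
    { carrier := {g | g ∈ θ.range ∨ g * r ∈ θ.range}
      one_mem' := Or.inl θ.range.one_mem
      mul_mem' := by
        rintro a b (ha | ha) (hb | hb)
        · exact Or.inl (θ.range.mul_mem ha hb)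
        · exact Or.inr (by rw [mul_assoc]; exact θ.range.mul_mem ha hb)
        · right
          have h1 : a * b * r = (a * r) * (r⁻¹ * b * r) := by group
          rw [h1]
          exact θ.range.mul_mem ha (hnorm' b hb)
        · left
          have h1 : a * b = (a * r) * (r⁻¹ * (b * r) * r) * (r * r)⁻¹ := by group
          rw [h1]
          exact θ.range.mul_mem (θ.range.mul_mem ha (hnorm' _ hb)) (θ.range.inv_mem hrr)
      inv_mem' := by
        rintro a (ha | ha)
        · exact Or.inl (θ.range.inv_mem ha)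
        · right
          have h1 : a⁻¹ * r = r * (a * r)⁻¹ * r⁻¹ * (r * r) := by group
          rw [h1]
          exact θ.range.mul_mem (hnorm _ (θ.range.inv_mem ha)) hrr }
  have memQ₁ : ∀ g, g ∈ Q₁ ↔ (g ∈ θ.range ∨ g * r ∈ θ.range) := fun g => Iff.rfl
  have hle : θ.range ≤ Q₁ := fun g hg => Or.inl hg
  have hrQ : r ∈ Q₁ := Or.inr hrr
  have hidx : θ.range.relIndex Q₁ = 2 := by
    show (θ.range.subgroupOf Q₁).index = 2
    rw [Subgroup.index_eq_two_iff]
    refine ⟨⟨r, hrQ⟩, ?_⟩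
    rintro ⟨b, hb⟩
    rw [mem_subgroupOf, mem_subgroupOf]
    show Xor (b * r ∈ θ.range) (b ∈ θ.range)
    by_cases h1 : b ∈ θ.range
    · right
      refine ⟨h1, fun h2 => hr ?_⟩
      have h3 : r = b⁻¹ * (b * r) := by group
      rw [h3]
      exact θ.range.mul_mem (θ.range.inv_mem h1) h2
    · left
      exact ⟨hb.resolve_left h1, h1⟩
  -- the order of the centralizer of `f τ`
  have hfr : r ∉ f.range := by
    rintro ⟨h, hh⟩
    exact hr ⟨NormalH.ψ h, by rw [hθψ, hh]⟩
  have hfC : f.range ≤ centralizer ({f τ} : Set Γ) := by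
    rintro _ ⟨h, rfl⟩
    rw [mem_centralizer_iff]
    rintro _ rfl
    rw [← map_mul, ← map_mul, τ_comm]
  have hrC : r ∈ centralizer ({f τ} : Set Γ) := by
    rw [mem_centralizer_iff]
    rintro _ rfl
    exact hrt.symm
  have hn : ¬ 2 ^ 14 ∣ Nat.card (centralizer ({π ⟨t, htN⟩} : Set Γ)) := by
    rw [hπt]
    have h1 : f.range.relIndex (centralizer ({f τ} : Set Γ)) = 2 := by
      show (f.range.subgroupOf _).index = 2
      rw [Subgroup.index_eq_two_iff]
      refine ⟨⟨r, hrC⟩, ?_⟩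
      rintro ⟨b, hb⟩
      rw [mem_subgroupOf, mem_subgroupOf]
      show Xor (b * r ∈ f.range) (b ∈ f.range)
      rw [mem_centralizer_iff] at hb
      obtain ⟨h, h2 | h2⟩ := cent b (hb _ rfl).symm
      · right
        refine ⟨⟨h, h2.symm⟩, ?_⟩
        rintro ⟨k, hk⟩
        apply hfr
        refine ⟨h⁻¹ * k, ?_⟩
        rw [map_mul, hk, map_inv, h2]; group
      · left
        constructor
        · refine ⟨h * τ, ?_⟩
          rw [map_mul, h2, mul_assoc, hr2]
        · rintro ⟨k, hk⟩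
          apply hfr
          refine ⟨h⁻¹ * k, ?_⟩
          rw [map_mul, hk, map_inv, h2]; group
    have h2 : Nat.card f.range * f.range.relIndex (centralizer ({f τ} : Set Γ)) =
        Nat.card (centralizer ({f τ} : Set Γ)) := by
      have h3 := Subgroup.card_mul_index (f.range.subgroupOf (centralizer ({f τ} : Set Γ)))
      rw [Nat.card_congr (Subgroup.subgroupOfEquivOfLe hfC).toEquiv] at h3
      exact h3
    have h3 : Nat.card f.range = 177408000 := by
      rw [← card_H0]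
      exact (Nat.card_congr (MonoidHom.ofInjective hf).toEquiv).symm
    rw [h1, h3] at h2
    rw [← h2]
    norm_num
  -- elements of `H0`
  have hzt : f gz * f τ = f τ * f gz := by rw [← map_mul, ← map_mul, τ_comm]
  refine SixQuot.false_of_quotient hG π hsurj hodd htN ht2 ht1 hCt hle hidx (n := 14) ?_ hn ?_
    (v := f gz) (e := r * f gx) ?_ ?_ ?_ ?_ ?_ ?_ ?_ ?_
  · -- centralizer
    intro q hq
    rw [hπt] at hq
    obtain ⟨h, h2 | h2⟩ := cent q hq
    · exact Or.inl ⟨NormalH.ψ h, by rw [hθψ, h2]⟩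
    · right
      rw [h2, mul_assoc, hr2]
      exact θ.range.mul_mem ⟨NormalH.ψ h, hθψ h⟩ htr
  · -- fusion
    rintro _ ⟨x, rfl⟩ hx2 hx1
    have h1 : orderOf x = 2 := by
      rw [CloseFinal.orderOf_eq_two_iff']
      constructor
      · rintro rfl
        exact hx1 (map_one θ)
      · apply hθ
        rw [map_mul, hx2, map_one]
    rcases hcl x h1 with h | h
    · left
      obtain ⟨c, hc⟩ := isConj_iff.1 h.symm
      refine ⟨θ c, Or.inl ⟨c, rfl⟩, ?_⟩
      rw [hπt, ← hθψ, ← map_inv, ← map_mul, ← map_mul, hc]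
    · right
      have h2 := two_pow_dvd_w hcl
      obtain ⟨c, hc⟩ := isConj_iff.1 h
      have e2 : (Subgroup.centralizer ({TwoClasses.w} : Set Cfsg.Spor.HN)).map
          (θ.comp (MulAut.conj c⁻¹).toMonoidHom) ≤ Subgroup.centralizer ({θ x} : Set Γ) := by
        rintro _ ⟨y, hy, rfl⟩
        rw [SetLike.mem_coe, Subgroup.mem_centralizer_iff] at hy
        rw [Subgroup.mem_centralizer_iff]
        intro u hu
        rw [Set.mem_singleton_iff.1 hu]
        have hy' := hy _ rfl
        show θ x * θ (c⁻¹ * y * c⁻¹⁻¹) = θ (c⁻¹ * y * c⁻¹⁻¹) * θ x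
        rw [← map_mul, ← map_mul]
        congr 1
        rw [← hc] at hy'
        calc x * (c⁻¹ * y * c⁻¹⁻¹) = c⁻¹ * (c * x * c⁻¹ * y) * c := by group
          _ = c⁻¹ * (y * (c * x * c⁻¹)) * c := by rw [hy']
          _ = c⁻¹ * y * c⁻¹⁻¹ * x := by group
      have e3 := Subgroup.card_dvd_of_le e2
      rw [Subgroup.card_map_of_injective (f := θ.comp (MulAut.conj c⁻¹).toMonoidHom)
        (hθ.comp (MulAut.conj c⁻¹).injective)] at e3
      exact h2.trans e3
  · -- `v ~ t`
    obtain ⟨c, hc⟩ := isConj_iff.1 InvHN.isConj_z.symm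
    refine ⟨θ c, Or.inl ⟨c, rfl⟩, ?_⟩
    rw [hπt, ← hθψ, ← hθψ, ← map_inv, ← map_mul, ← map_mul, hc]
  · obtain ⟨c, hc⟩ := isConj_iff.1 InvHN.isConj_z.symm
    refine ⟨θ (NormalH.ψ gx⁻¹ * c), Or.inl ⟨_, rfl⟩, ?_⟩
    have h1 : τ * gz = gx⁻¹ * gz * gx := by rw [hw_z_conj, τ_comm]
    rw [hπt, ← map_mul, h1, ← hθψ, ← hθψ, ← map_inv, ← map_mul, ← map_mul]
    congr 1
    rw [map_mul, map_mul, ← hc, map_inv]
    group
  · rw [hπt]; exact hzt
  · -- `e² = 1`
    calc r * f gx * (r * f gx) = r * (f gx * r) * f gx := by group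
      _ = r * (r * f gx) * f gx := by rw [hrK gx gx_mem]
      _ = (r * r) * (f gx * f gx) := by group
      _ = 1 := by rw [hr2, ← map_mul, ← map_mul, ← pow_two gx, show gx ^ 2 = τ from rfl, τ_mul_τ, map_one]
  · exact Q₁.mul_mem hrQ (hle ⟨NormalH.ψ gx, hθψ gx⟩)
  · intro h
    apply hr
    have h1 : r = r * f gx * (f gx)⁻¹ := by group
    rw [h1]
    exact θ.range.mul_mem h (θ.range.inv_mem ⟨NormalH.ψ gx, hθψ gx⟩)
  · rw [hπt]
    calc r * f gx * f τ = r * f (gx * τ) := by rw [map_mul, mul_assoc]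
      _ = r * (f τ * f gx) := by rw [τ_comm, map_mul]
      _ = (r * f τ) * f gx := by group
      _ = f τ * (r * f gx) := by rw [hrt]; group
  · -- `e` commutes with `z`
    have h1 : f gz * r = f τ * (r * f gz) := by
      have h2 : r * f gz = f (τ * gz) * r := by rw [← hrz]; group
      rw [h2, map_mul, ← mul_assoc, ← mul_assoc, ← map_mul, τ_mul_τ, map_one, one_mul]
    have h3 : gx * gz = τ * (gz * gx) := by
      have h4 := hw_x_conj
      have h5 : gx * gz = gz * (gz⁻¹ * gx * gz) := by group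
      rw [h5, h4, ← mul_assoc, τ_comm]
    calc r * f gx * f gz = r * f (gx * gz) := by rw [map_mul, mul_assoc]
      _ = r * (f τ * (f gz * f gx)) := by rw [h3, map_mul, map_mul]
      _ = (r * f τ) * (f gz * f gx) := by group
      _ = f τ * (r * f gz) * f gx := by rw [hrt]; group
      _ = f gz * (r * f gx) := by rw [← h1]; group

end Cfsg.Agent.StandardComponent.HS.SixGlue
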