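import Cfsg.Agent.StandardComponent.HS.SixGlue
import Cfsg.Agent.StandardComponent.HS.NotBoth
import Cfsg.Agent.StandardComponent.HS.PairD
import Cfsg.Agent.HN.ExtTwist
import Cfsg.Agent.HN.XMain
set_option linter.all false

/-!
# S1752, the case `|R| = 4`: contradiction from `Four φ r` in the quotient by the odd core
-/

set_option autoImplicit false

namespace Cfsg.Agent.StandardComponent.HS.SixMain

open Cfsg.Agent.HN Cfsg.Agent.HN.Pres Cfsg.Agent.HN.HS100 Cfsg.Agent.HN.H0Basic Cfsg.Agent.HN.Syl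
open Cfsg.Agent.HN.FusK0 Cfsg.Agent.HN.FusGen
open Cfsg.Agent.HN.ExtR (Ext Labels)
open Cfsg.Agent.HN.ExtTwist

/-- **The two classes of involutions of `HN`.** -/
theorem classes_HN : ∀ u : Cfsg.Spor.HN, orderOf u = 2 → IsConj u (NormalH.ψ τ) ∨ IsConj u TwoClasses.w := by
  have hfin := Index.finite_HN
  have hsimple : IsSimpleGroup Cfsg.Spor.HN := Cfsg.Agent.S1701.result.1
  have E : Emb NormalH.ψ τ :=
    { inj := TwoClasses.ψ_inj
      cent := fun g hg => SixGlue.mem_range_ψ hg
      comm := τ_comm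
      sq := τ_mul_τ
      ne := τ_ne_one }
  have h1 : ∀ v : Cfsg.Spor.HN, orderOf v = 2 → v * NormalH.ψ τ = NormalH.ψ τ * v →
      IsConj v (NormalH.ψ τ) ∨ IsConj v TwoClasses.w := by
    intro v hv hc
    obtain ⟨h, rfl⟩ := SixGlue.mem_range_ψ hc
    rw [Final.orderOf_map_of_injective TwoClasses.ψ_inj] at hv
    obtain ⟨g, hg⟩ := InvHN.hinv h hv
    rcases hg with hg | hg
    · exact Or.inl (isConj_iff.2 ⟨g, hg⟩)
    · exact Or.inr (isConj_iff.2 ⟨g, hg⟩)
  have hne : ¬ IsConj (NormalH.ψ τ) TwoClasses.w := by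
    refine TwoClasses.not_conj_of_card TwoClasses.orderOf_ψτ h1 ?_
    have hcard : Nat.card Cfsg.Spor.HN = 273030912000000 := Cfsg.Agent.S1701.result.2
    rw [← TwoClasses.t_eq, Central.centralizer_eq, hcard]
    have hc : Nat.card NormalH.H = 177408000 := Index.card_H
    rw [hc]
    intro h
    have h14 : 14 ≤ (273030912000000 : ℕ).factorization 2 := by
      rw [← Nat.Prime.pow_dvd_iff_le_factorization Nat.prime_two (by norm_num)]
      norm_num
    have h15 : (2 : ℕ) ^ 14 ∣ 177408000 := (pow_dvd_pow 2 h14).trans h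
    revert h15
    norm_num
  have hb : ¬ InK NormalH.ψ τ (a * τ) := hne
  have hd : ¬ InK NormalH.ψ τ d := fun h => hne (h.trans InvHN.isConj_d)
  exact TwoClasses.cases_of_centralizers TwoClasses.orderOf_ψτ h1
    (XMain.inv Cfsg.Spor.HN NormalH.ψ (MonoidHom.id _) E Function.injective_id (fun _ => rfl)
      InvHN.isConj_z.symm hb hd)

theorem isConj_map {A B : Type*} [Group A] [Group B] (f : A →* B) {x y : A} (h : IsConj x y) :
    IsConj (f x) (f y) := f.map_isConj h

/-- The labels. -/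
theorem labels {Γ : Type*} [Group Γ] {ψ : H0 →* Γ} {r : Γ} (E : Ext ψ r) (hz : IsConj (ψ τ) (ψ gz))
    (hb : ¬ IsConj (ψ τ) (ψ (a * τ))) (hx : ¬ IsConj (ψ τ) (r * ψ gx)) (hrz : ¬ IsConj (ψ τ) (ψ gz * r))
    (hd : ¬ IsConj (ψ τ) (ψ d)) (hrd : ¬ IsConj (ψ τ) (ψ d * r)) : Labels ψ where
  hz := hz.symm
  hb := fun h => hb (by rw [← τ_comm] at h; exact h.symm)
  hL := by
    intro g hg2 hgc hgt
    have ht1 : ψ τ ≠ 1 := fun h => τ_ne_one (E.inj (h.trans (map_one ψ).symm))
    have hg1 : g ≠ 1 := by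
      rintro rfl
      exact ht1 (isConj_one_right.1 hgt)
    obtain ⟨h, rfl | rfl⟩ := E.cent g hgc
    · have h2 : h ^ 2 = 1 := by
        apply E.inj
        rw [pow_two, map_mul, hg2, map_one]
      rcases involution_cases h2 with h1 | h1 | h1 | h1 | h1 | h1
      · exact absurd (by rw [h1, map_one]) hg1
      · exact Or.inl (by rw [h1])
      · exact Or.inr ⟨h, rfl, Or.inr h1.symm⟩
      · exact absurd (hgt.symm.trans (isConj_map ψ h1).symm) hb
      · exact Or.inr ⟨h, rfl, Or.inl h1.symm⟩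
      · exact absurd (hgt.symm.trans (isConj_map ψ h1).symm) hd
    · exfalso
      by_cases hK : h ∈ K
      · -- `h² = τ`
        have hc := (E.rK h hK).eq
        have h2 : h * h = τ := by
          apply E.inj
          have h3 : ψ (h * h) * ψ τ = 1 := by
            rw [map_mul, ← E.r2, ← hg2]
            calc ψ h * ψ h * (r * r) = ψ h * (ψ h * r) * r := by group
              _ = ψ h * (r * ψ h) * r := by rw [hc]
              _ = ψ h * r * (ψ h * r) := by group
          rw [eq_inv_of_mul_eq_one_left h3, ← map_inv, τ_inv]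
        have h3 : IsConj FourK0.x0 (⟨h, hK⟩ : K) := FourK0.isConj_x0 (Subtype.ext h2)
        obtain ⟨l, hl⟩ := isConj_iff.1 h3
        apply hx
        refine hgt.symm.trans ?_
        have hl' : (l : H0) * gx * (l : H0)⁻¹ = h := congrArg Subtype.val hl
        refine isConj_iff.2 ⟨(ψ l)⁻¹, ?_⟩
        have hcl := (E.rK l l.2).eq
        rw [inv_inv]
        have h5 : r * ψ ((l : H0) * gx * (l : H0)⁻¹) = ψ l * (r * ψ gx) * (ψ l)⁻¹ := by
          rw [map_mul, map_mul, map_inv]
          calc r * (ψ l * ψ gx * (ψ l)⁻¹) = (r * ψ l) * ψ gx * (ψ l)⁻¹ := by group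
            _ = ψ l * (r * ψ gx) * (ψ l)⁻¹ := by rw [hcl]; group
        rw [hl'] at h5
        rw [← hc, h5]; group
      · have h1 : tw E h = ψ h * r := tw_of_not E hK
        rw [← h1] at hg2 hgt
        have h2 : h ^ 2 = 1 := by
          apply (tw_ext E).inj
          rw [pow_two, map_mul, hg2, map_one]
        rcases involution_cases h2 with h3 | h3 | h3 | h3 | h3 | h3
        · exact hK (h3 ▸ K.one_mem)
        · exact hK (h3 ▸ τ_mem_K)
        · exact hK ((Classes.mem_K_of_isConj h3).1 a0.2)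
        · exact hK ((Classes.mem_K_of_isConj h3).1 b0.2)
        · apply hrz
          rw [← tw_gz E]
          exact hgt.symm.trans (isConj_map (tw E) h3).symm
        · apply hrd
          rw [← tw_of_not E Classes.d_notMem_K]
          exact hgt.symm.trans (isConj_map (tw E) h3).symm

/-- **The case `|R| = 4` is impossible**, given the exclusion of the pairs of type `d`. -/
theorem false_of_four {G : Type*} [Group G] [Finite G] (hG : ∀ (f : G →* ℤˣ) (u : G), f u = 1) {N : Subgroup G}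
    {Γ : Type*} [Group Γ] (π : N →* Γ) (hsurj : Function.Surjective π) (hodd : Odd (Nat.card π.ker))
    {t : G} (htN : t ∈ N) (ht2 : t * t = 1) (ht1 : t ≠ 1) (hCt : ∀ g, g * t = t * g → g ∈ N)
    {φ : K →* Γ} {r : Γ} (F : Four φ r) (hπt : π ⟨t, htN⟩ = φ τ0)
    (hD : ∀ ψ : H0 →* Γ, Ext ψ r → ¬ IsConj (ψ τ) (ψ d)) : False := by
  have hfin : Finite Γ := Finite.of_surjective π hsurj
  have hsimple : IsSimpleGroup Cfsg.Spor.HN := Cfsg.Agent.S1701.result.1
  obtain ⟨ψ, hinj, hψ, hcent, -, hrz, hcase⟩ := FourOuter.exists_psi F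
  have hψτ : ψ τ = φ τ0 := hψ τ0
  have E : Ext ψ r :=
    { inj := hinj
      r2 := by rw [F.hr, hψτ]
      rK := fun k hk => by
        show r * ψ k = ψ k * r
        rw [hψ ⟨k, hk⟩, F.hrc]
      rz := hrz
      cent := fun g hg => hcent g hg }
  have hd := hD ψ E
  have hz := hcase.resolve_right hd
  have hb : ¬ IsConj (ψ τ) (ψ (a * τ)) := by
    rw [hψτ, show ψ (a * τ) = φ b0 from hψ b0]
    exact F.hb
  have hx : ¬ IsConj (ψ τ) (r * ψ gx) := by
    rw [hψτ, show ψ gx = φ FourK0.x0 from hψ FourK0.x0]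
    exact F.hx
  have H : NotBoth.Hyp ψ r :=
    { inj := hinj
      hr := E.r2
      hrK := fun k hk => (E.rK k hk).eq
      hrz := hrz
      cent := hcent
      hb := hb }
  have hrz' : ¬ IsConj (ψ τ) (ψ gz * r) := by
    intro h
    apply H.not_isConj_rz hz
    refine h.trans ?_
    have h1 : r * ψ gz = tw E (τ * gz) := by
      rw [map_mul, tw_τ, tw_gz]
      have h2 : r * ψ gz = ψ (τ * gz) * r := by rw [← hrz]; group
      rw [h2, map_mul, mul_assoc]
    rw [h1, ← tw_gz E]
    refine isConj_map (tw E) ?_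
    rw [← τ_comm, ← hw_z_conj]
    exact isConj_iff.2 ⟨gx⁻¹, by rw [inv_inv]⟩
  have hrd : ¬ IsConj (ψ τ) (ψ d * r) := by
    have h1 := hD (tw E) (tw_ext E)
    rwa [tw_τ, tw_of_not E Classes.d_notMem_K] at h1
  have L := labels E hz hb hx hrz' hd hrd
  obtain ⟨θ, hθ, hθx, hθy, hθz, hn⟩ := ExtR.exists_theta E L
  exact SixGlue.false_of_theta classes_HN hG π hsurj hodd htN ht2 ht1 hCt hinj (hπt.trans hψτ.symm) hcent E.r2
    (fun k hk => (E.rK k hk).eq) hrz hθ (Final.comp_eq hθx hθy hθz) hn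

end Cfsg.Agent.StandardComponent.HS.SixMain
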